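import Cfsg.Agent.H179.SLC.Coc_m3
import Mathlib
import Cfsg.Agent.H65.E6Root_m3
import Cfsg.Agent.H952.F4.Scott_m3
import Cfsg.Agent.H952.F4.Jord
import Cfsg.Agent.FastGrp
import Cfsg.Agent.Prune
set_option linter.all false

section
prune_inst 0x7fffedfbbbfcf1dfffff7e7fa694cffdfdbb3fffe6dff9cb7fe041ff0b1f5b8249c16ba58beb10fe1eb7c21410f87b53f9ffefffea6bd87ffffd1ff45ffbffcffdf6bd0811968c340f3c0fff83f0778e7f3fffffffffffffffffffffffffffbeffbfffffffff

-- part: R2/H28/SL2/Ext
section
prune_inst 0x120044030620000001800149200002040000000000000000a800e0a020108026041804102100014028000404800002001000000424000000e000000000200001000100400000000020000000000000000000000000000000000000000000000000000000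
set_option linter.all false
open scoped Cfsg.Agent.FastGrp

-- part: R2/H28/SL2/Ops
section
/-!
# The operators `D_m` for representations of `SL(2, q)` in the defining characteristic (helper28)

`ρ (u t) = 1 + ∑_{m = 1}^{q - 1} t ^ m D_m`, `D_m = -∑ t ^ (q - 1 - m) ρ (u t)`. General version of
`H525/E8L/Ops.lean` (helper525: `q = 81`).
-/

set_option autoImplicit false
set_option linter.unusedSectionVars false

namespace Cfsg.Agent.R2.H28.SL2

open Matrix Cfsg.Agent.H943.SL2Rel Cfsg.Agent.H943.SL2Mod Cfsg.Agent.H943.RepAdd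

variable {k : Type*} [Field k] {F : Type*} [Field F] [Fintype F] [DecidableEq F] (ι : F →+* k)

section Sums

theorem one_lt : 1 < Fintype.card F := Fintype.one_lt_card

/-- the power sums -/
theorem psum {e : ℕ} (he : e < 2 * (Fintype.card F - 1)) :
    ∑ t : F, ι t ^ e = if e = Fintype.card F - 1 then -1 else 0 := by
  classical
  split_ifs with h
  · have := power_sum_eq ι (k := k) (F := F)
    rw [h]
    exact this
  · by_contra hne
    have hq := one_lt (F := F)
    rcases power_sum_ne ι (e := e) (by omega) hne with h1 | h1 <;> omega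

theorem powQ {t : F} (ht : t ≠ 0) : ι t ^ (Fintype.card F - 1) = 1 := by
  rw [← map_pow, FiniteField.pow_card_sub_one_eq_one t ht, map_one]

theorem powq (t : F) : ι t ^ (Fintype.card F) = ι t := by
  rw [← map_pow, FiniteField.pow_card]

variable (p : ℕ) [Fact p.Prime] [CharP k p] [CharP F p]

include p in
theorem cast_Q : ((Fintype.card F - 1 : ℕ) : k) = -1 := by
  rw [Nat.cast_sub (one_lt (F := F)).le, card_zero (k := k) (F := F) p, Nat.cast_one, zero_sub]

include p in
/-- the kernel of the interpolation -/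
theorem gsum {t s : F} (ht : t ≠ 0) :
    ∑ m ∈ Finset.Icc 1 (Fintype.card F - 1), ι t ^ m * ι s ^ (Fintype.card F - 1 - m) =
    (if s = 0 then 1 else 0) - (if s = t then 1 else 0) := by
  have hq := one_lt (F := F)
  obtain ⟨Q, hQ⟩ : ∃ Q, Q = Fintype.card F - 1 := ⟨_, rfl⟩
  have hQ0 : 0 < Q := by omega
  have hcq : Fintype.card F = Q + 1 := by omega
  rw [← hQ]
  have h0 : ∑ m ∈ Finset.range (Q + 1), ι t ^ m * ι s ^ (Q + 1 - 1 - m) =
      ι s ^ Q + ∑ m ∈ Finset.Icc 1 Q, ι t ^ m * ι s ^ (Q - m) := by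
    rw [Finset.range_eq_Ico, Finset.sum_eq_sum_Ico_succ_bot (by omega)]
    rw [pow_zero, one_mul]
    congr 1
  by_cases hst : s = t
  · subst hst
    rw [if_neg ht, if_pos rfl]
    have h1 : ∀ m ∈ Finset.Icc 1 Q, ι s ^ m * ι s ^ (Q - m) = 1 := by
      intro m hm
      rw [Finset.mem_Icc] at hm
      rw [← pow_add, show m + (Q - m) = Q by omega, hQ, powQ ι ht]
    rw [Finset.sum_congr rfl h1, Finset.sum_const, Nat.card_Icc, nsmul_eq_mul, mul_one,
      show Q + 1 - 1 = Fintype.card F - 1 by omega, cast_Q p]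
    ring
  · rw [if_neg hst, sub_zero]
    have h1 := geom_sum₂_mul (ι t) (ι s) (Q + 1)
    have h81 : ∀ x : F, ι x ^ (Q + 1) = ι x := fun x => by rw [← hcq]; exact powq ι x
    rw [h0, h81, h81] at h1
    have h2 : ι t - ι s ≠ 0 := sub_ne_zero.2 fun h => hst (ι.injective h).symm
    have h3 : ι s ^ Q + ∑ m ∈ Finset.Icc 1 Q, ι t ^ m * ι s ^ (Q - m) = 1 :=
      mul_right_cancel₀ h2 (by rw [h1, one_mul])
    by_cases hs : s = 0
    · rw [if_pos hs]
      rw [hs, map_zero, zero_pow (by omega), zero_add] at h3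
      rw [hs, map_zero]
      exact h3
    · rw [if_neg hs]
      rw [hQ, powQ ι hs, ← hQ] at h3
      linear_combination h3

end Sums

variable {V : Type*} [AddCommGroup V] [Module k V] (ρ : Representation k (_root_.Matrix.SpecialLinearGroup (Fin 2) F) V)

/-- the coefficient of `t ^ m` in `ρ (u t)`, for `1 ≤ m ≤ q - 1` -/
def Dm (m : ℕ) : V →ₗ[k] V := -∑ t : F, ι t ^ (Fintype.card F - 1 - m) • ρ (u t)

theorem Dm_apply (m : ℕ) (x : V) : Dm ι ρ m x = -∑ t : F, ι t ^ (Fintype.card F - 1 - m) • ρ (u t) x := by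
  simp only [Dm, LinearMap.sum_apply, _root_.LinearMap.neg_apply, _root_.LinearMap.smul_apply]

/-- the torus -/
theorem h_Dm {m : ℕ} (hm : m ≤ Fintype.card F - 1) (a : Fˣ) (x : V) :
    ρ (h a) (Dm ι ρ m x) = ι a ^ (2 * m) • Dm ι ρ m (ρ (h a) x) := by
  rw [Dm_apply, Dm_apply, map_neg, map_sum, smul_neg, Finset.smul_sum]
  congr 1
  have ha : (a : F) ^ 2 ≠ 0 := pow_ne_zero _ a.ne_zero
  refine Fintype.sum_equiv (Equiv.mulLeft₀ ((a : F) ^ 2) ha) _ _ fun t => ?_
  rw [map_smul, apply_mul, h_u, map_mul]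
  show ι t ^ (Fintype.card F - 1 - m) • ρ (u ((a : F) ^ 2 * t)) (ρ (h a) x) =
    ι a ^ (2 * m) • (ι ((a : F) ^ 2 * t) ^ (Fintype.card F - 1 - m) • ρ (u ((a : F) ^ 2 * t)) (ρ (h a) x))
  rw [smul_smul]
  congr 1
  rw [map_mul, mul_pow, map_pow, ← pow_mul, ← mul_assoc, ← pow_add,
    show 2 * m + 2 * (Fintype.card F - 1 - m) = (Fintype.card F - 1) * 2 by omega, pow_mul,
    powQ ι a.ne_zero, one_pow, one_mul]

/-- an invariant subspace with trivial quotient contains the images of the `D_m` -/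
theorem Dm_mem {W : Submodule k V} (hW : ∀ g x, ρ g x - x ∈ W) {m : ℕ} (hm : 1 ≤ m) (x : V) :
    Dm ι ρ m x ∈ W := by
  have hq := one_lt (F := F)
  rw [Dm_apply, neg_mem_iff]
  have h1 : ∑ t : F, ι t ^ (Fintype.card F - 1 - m) • x = 0 := by
    rw [← Finset.sum_smul, psum ι (by omega), if_neg (by omega), zero_smul]
  have h2 : ∑ t : F, ι t ^ (Fintype.card F - 1 - m) • ρ (u t) x =
      ∑ t : F, ι t ^ (Fintype.card F - 1 - m) • (ρ (u t) x - x) := by
    simp only [smul_sub, Finset.sum_sub_distrib]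
    rw [h1, sub_zero]
  rw [h2]
  exact sum_mem fun t _ => W.smul_mem _ (hW _ _)

/-- invariant subspaces -/
theorem Dm_mem_inv {W : Submodule k V} (hW : ∀ g, ∀ x ∈ W, ρ g x ∈ W) (m : ℕ) {x : V} (hx : x ∈ W) :
    Dm ι ρ m x ∈ W := by
  rw [Dm_apply, neg_mem_iff]
  exact sum_mem fun t _ => W.smul_mem _ (hW _ _ hx)

/-- equivariant maps -/
theorem Dm_comm {V' : Type*} [AddCommGroup V'] [Module k V'] (ρ' : Representation k (_root_.Matrix.SpecialLinearGroup (Fin 2) F) V')
    (f : V →ₗ[k] V') (hf : ∀ g x, f (ρ g x) = ρ' g (f x)) (m : ℕ) (x : V) : f (Dm ι ρ m x) = Dm ι ρ' m (f x) := by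
  rw [Dm_apply, Dm_apply, map_neg, map_sum]
  congr 1
  exact Finset.sum_congr rfl fun t _ => by rw [map_smul, hf]

section

variable (p : ℕ) [Fact p.Prime] [CharP k p] [CharP F p]

include p in
/-- **interpolation** -/
theorem u_eq (t : F) (x : V) :
    ρ (u t) x = x + ∑ m ∈ Finset.Icc 1 (Fintype.card F - 1), ι t ^ m • Dm ι ρ m x := by
  by_cases ht : t = 0
  · subst ht
    rw [u_zero, map_one, Module.End.one_apply, Finset.sum_eq_zero, add_zero]
    intro m hm
    rw [Finset.mem_Icc] at hm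
    rw [map_zero, zero_pow (by omega), zero_smul]
  · have h1 : ∑ m ∈ Finset.Icc 1 (Fintype.card F - 1), ι t ^ m • Dm ι ρ m x =
        -∑ s : F, (∑ m ∈ Finset.Icc 1 (Fintype.card F - 1), ι t ^ m * ι s ^ (Fintype.card F - 1 - m)) •
          ρ (u s) x := by
      have h2 : ∀ m ∈ Finset.Icc 1 (Fintype.card F - 1), ι t ^ m • Dm ι ρ m x =
          -∑ s : F, (ι t ^ m * ι s ^ (Fintype.card F - 1 - m)) • ρ (u s) x := by
        intro m _
        rw [Dm_apply, smul_neg, Finset.smul_sum]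
        congr 1
        exact Finset.sum_congr rfl fun s _ => smul_smul _ _ _
      rw [Finset.sum_congr rfl h2, Finset.sum_neg_distrib, Finset.sum_comm]
      congr 1
      exact Finset.sum_congr rfl fun s _ => (Finset.sum_smul).symm
    rw [h1, Finset.sum_congr rfl fun s _ => by rw [gsum ι p ht]]
    simp only [sub_smul, Finset.sum_sub_distrib, ite_smul, one_smul, zero_smul, Finset.sum_ite_eq', Finset.mem_univ,
      if_true]
    rw [u_zero, map_one, Module.End.one_apply]
    abel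

/-- the products -/
theorem Dm_mul {m n : ℕ} (hm : 1 ≤ m) (hn : 1 ≤ n) (hn' : n ≤ Fintype.card F - 1) (hm' : m ≤ Fintype.card F - 1)
    (x : V) :
    Dm ι ρ m (Dm ι ρ n x) = ((-1) ^ m * ((Fintype.card F - 1 - n).choose m : k)) • Dm ι ρ (m + n) x := by
  have hq := one_lt (F := F)
  obtain ⟨Q, hQ⟩ : ∃ Q, Q = Fintype.card F - 1 := ⟨_, rfl⟩
  rw [Dm_apply, Dm_apply]
  rw [← hQ] at hn' hm' ⊢
  have h1 : ∀ s : F, ι s ^ (Q - m) • ρ (u s) (-∑ t : F, ι t ^ (Q - n) • ρ (u t) x) =
      -∑ r : F, (ι s ^ (Q - m) * (ι r - ι s) ^ (Q - n)) • ρ (u r) x := by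
    intro s
    rw [map_neg, smul_neg, map_sum, Finset.smul_sum]
    congr 1
    refine Fintype.sum_equiv (Equiv.addLeft s) _ _ fun t => ?_
    rw [map_smul, smul_smul, apply_mul, ← u_add]
    show _ = (ι s ^ (Q - m) * (ι (s + t) - ι s) ^ (Q - n)) • ρ (u (s + t)) x
    rw [map_add, add_sub_cancel_left]
  have h2 : ∀ r : F, ∑ s : F, ι s ^ (Q - m) * (ι r - ι s) ^ (Q - n) =
      -((-1) ^ m * ((Q - n).choose m : k)) * ι r ^ (Q - (m + n)) := by
    intro r
    have h3 : ∀ s : F, ι s ^ (Q - m) * (ι r - ι s) ^ (Q - n) =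
        ∑ j ∈ Finset.range (Q - n + 1), ((-1) ^ j * ι r ^ (Q - n - j) * ((Q - n).choose j : k)) *
          ι s ^ (Q - m + j) := by
      intro s
      rw [sub_eq_neg_add, add_pow, Finset.mul_sum]
      refine Finset.sum_congr rfl fun j _ => ?_
      rw [neg_pow, pow_add]
      ring
    rw [Finset.sum_congr rfl fun s _ => h3 s, Finset.sum_comm]
    have h4 : ∀ j ∈ Finset.range (Q - n + 1), ∑ s : F, ((-1) ^ j * ι r ^ (Q - n - j) * ((Q - n).choose j : k)) *
          ι s ^ (Q - m + j) = if j = m then -((-1) ^ m * ι r ^ (Q - n - m) * ((Q - n).choose m : k)) else 0 := by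
      intro j hj
      rw [Finset.mem_range] at hj
      rw [← Finset.mul_sum, psum ι (by omega)]
      by_cases hjm : j = m
      · rw [if_pos hjm, if_pos (by omega), hjm]
        ring
      · rw [if_neg hjm, if_neg (by omega), mul_zero]
    rw [Finset.sum_congr rfl h4, Finset.sum_ite_eq' ]
    by_cases hmn : m ∈ Finset.range (Q - n + 1)
    · rw [if_pos hmn, show Q - n - m = Q - (m + n) by omega]
      ring
    · rw [if_neg hmn, Nat.choose_eq_zero_of_lt (by rw [Finset.mem_range] at hmn; omega)]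
      simp only [_root_.Nat.cast_zero, _root_.MulZeroClass.mul_zero, _root_.neg_zero, _root_.MulZeroClass.zero_mul]
  rw [Finset.sum_congr rfl fun s _ => h1 s, Finset.sum_neg_distrib, neg_neg, Finset.sum_comm, Dm_apply, smul_neg,
    Finset.smul_sum, ← Finset.sum_neg_distrib, ← hQ]
  refine Finset.sum_congr rfl fun r _ => ?_
  rw [← Finset.sum_smul, h2, smul_smul, neg_mul, neg_smul]

end

/-- the action on the monomials -/
theorem Dm_mon {b n m : ℕ} (hb : b ≤ Fintype.card F - 1) (hn : n ≤ b)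
    (hm : 1 ≤ m) (hm' : m ≤ Fintype.card F - 1) :
    Dm ι (fRep k F) m (mon ι b n) = ((b - n).choose m : k) • mon ι b (n + m) := by
  have hq := one_lt (F := F)
  have h0 : ∀ t : F, fRep k F (u t) (mon ι b n) =
      ∑ j ∈ Finset.range (b - n + 1), (((b - n).choose j : k) * ι t ^ j) • mon ι b (n + j) := by
    intro t
    funext z
    rcases z with ⟨x, y⟩
    rw [fRep_u, Finset.sum_apply]
    show ι x ^ n * ι (x * t + y) ^ (b - n) = _
    rw [map_add, map_mul, add_pow, Finset.mul_sum]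
    refine Finset.sum_congr rfl fun j hj => ?_
    show _ = (((b - n).choose j : k) * ι t ^ j) * (ι x ^ (n + j) * ι y ^ (b - (n + j)))
    rw [show b - (n + j) = b - n - j by omega, mul_pow, pow_add]
    ring
  rw [Dm_apply, Finset.sum_congr rfl fun t _ => by rw [h0 t, Finset.smul_sum], Finset.sum_comm, ← Finset.sum_neg_distrib]
  have h1 : ∀ j ∈ Finset.range (b - n + 1),
      -∑ t : F, ι t ^ (Fintype.card F - 1 - m) • (((b - n).choose j : k) * ι t ^ j) • mon ι b (n + j) =
      if j = m then ((b - n).choose m : k) • mon ι b (n + m) else 0 := by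
    intro j hj
    rw [Finset.mem_range] at hj
    have h2 : ∀ t : F, ι t ^ (Fintype.card F - 1 - m) • (((b - n).choose j : k) * ι t ^ j) • mon ι b (n + j) =
        (ι t ^ (Fintype.card F - 1 - m + j) * ((b - n).choose j : k)) • mon ι b (n + j) := by
      intro t
      rw [smul_smul, pow_add]
      congr 1
      ring
    rw [Finset.sum_congr rfl fun t _ => h2 t, ← Finset.sum_smul, ← Finset.sum_mul, psum ι (by omega)]
    by_cases hjm : j = m
    · rw [if_pos hjm, if_pos (by omega), hjm, neg_one_mul, neg_smul, neg_neg]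
    · rw [if_neg hjm, if_neg (by omega), zero_mul, zero_smul, neg_zero]
  rw [Finset.sum_congr rfl h1, Finset.sum_ite_eq']
  by_cases hmn : m ∈ Finset.range (b - n + 1)
  · rw [if_pos hmn]
  · rw [if_neg hmn, Nat.choose_eq_zero_of_lt (by rw [Finset.mem_range] at hmn; omega), Nat.cast_zero, zero_smul]

end Cfsg.Agent.R2.H28.SL2
end

-- part: R2/H28/SL2/Dig
section
/-!
# Digits and binomial coefficients modulo `p` (helper28)

* `not_dvd_choose_iff` : `p ∤ C(n, m)` iff the digits of `m` are at most those of `n`;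
* `dg_single` : the digits of `c p ^ i`;
* `choose_shift` : `C(q - 1 - n, m) = (-1) ^ m C(n + m, m)` in characteristic `p`, `n + m < q = p ^ a`.
-/

set_option autoImplicit false

namespace Cfsg.Agent.R2.H28.SL2

/-- for digits -/
theorem not_dvd_choose_lt {p : ℕ} (hp : p.Prime) {a b : ℕ} (ha : a < p) : ¬ p ∣ a.choose b ↔ b ≤ a := by
  constructor
  · intro h
    by_contra hc
    rw [Nat.choose_eq_zero_of_lt (by omega)] at h
    exact h (dvd_zero p)
  · intro h hd
    have h1 : p ∣ a.factorial := by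
      rw [← Nat.choose_mul_factorial_mul_factorial h]
      exact Dvd.dvd.mul_right (Dvd.dvd.mul_right hd _) _
    rw [hp.dvd_factorial] at h1
    omega

/-- **Lucas** -/
theorem not_dvd_choose_iff {p : ℕ} (hp : p.Prime) {n m : ℕ} :
    ¬ p ∣ n.choose m ↔ ∀ i, m / p ^ i % p ≤ n / p ^ i % p := by
  have : Fact p.Prime := ⟨hp⟩
  obtain ⟨a, ha⟩ : ∃ a, n < p ^ a ∧ m < p ^ a := by
    refine ⟨n + m, ?_, ?_⟩
    · exact lt_of_le_of_lt (Nat.le_add_right n m) (Nat.lt_pow_self hp.one_lt)
    · exact lt_of_le_of_lt (Nat.le_add_left m n) (Nat.lt_pow_self hp.one_lt)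
  have h1 := Choose.choose_modEq_prod_range_choose_nat (p := p) (a := a) (n := n) (k := m) ha.1 ha.2
  rw [h1.dvd_iff (dvd_refl p), hp.prime.dvd_finsetProd_iff]
  push Not
  constructor
  · intro h i
    by_cases hi : i < a
    · exact (not_dvd_choose_lt hp (Nat.mod_lt _ hp.pos)).1 (h i (Finset.mem_range.2 hi))
    · have h2 : m < p ^ i := lt_of_lt_of_le ha.2 (Nat.pow_le_pow_right hp.pos (by omega))
      rw [Nat.div_eq_of_lt h2, Nat.zero_mod]
      exact Nat.zero_le _
  · intro h i _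
    exact (not_dvd_choose_lt hp (Nat.mod_lt _ hp.pos)).2 (h i)

/-- the digits of `c p ^ i` -/
theorem dg_single {p : ℕ} (hp : 1 < p) {c : ℕ} (hc : c < p) (i l : ℕ) :
    (c * p ^ i) / p ^ l % p = if l = i then c else 0 := by
  split_ifs with h
  · rw [h, Nat.mul_div_cancel _ (Nat.pow_pos (by omega)), Nat.mod_eq_of_lt hc]
  · rcases Nat.lt_or_gt_of_ne h with h1 | h1
    · obtain ⟨d, rfl⟩ : ∃ d, i = l + (d + 1) := ⟨i - l - 1, by omega⟩
      rw [show c * p ^ (l + (d + 1)) = c * p ^ d * p * p ^ l by ring, Nat.mul_div_cancel _ (Nat.pow_pos (by omega))]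
      exact Nat.mul_mod_left _ _
    · have h2 : c * p ^ i < p ^ l := by
        calc c * p ^ i < p * p ^ i := Nat.mul_lt_mul_of_pos_right hc (Nat.pow_pos (by omega))
          _ = p ^ (i + 1) := by rw [pow_succ, mul_comm]
          _ ≤ p ^ l := Nat.pow_le_pow_right (by omega) (by omega)
      rw [Nat.div_eq_of_lt h2, Nat.zero_mod]

theorem dg_lt {p : ℕ} (hp : 0 < p) (n i : ℕ) : n / p ^ i % p < p := Nat.mod_lt _ hp

theorem dg_zero_of_le {p n a i : ℕ} (hp : 0 < p) (hn : n < p ^ a) (hi : a ≤ i) : n / p ^ i % p = 0 := by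
  rw [Nat.div_eq_of_lt (lt_of_lt_of_le hn (Nat.pow_le_pow_right hp hi)), Nat.zero_mod]

section

variable {k : Type*} [Field k] (p : ℕ) [Fact p.Prime] [CharP k p]

theorem choose_ne_iff {n m : ℕ} : ((n.choose m : ℕ) : k) ≠ 0 ↔ ∀ i, m / p ^ i % p ≤ n / p ^ i % p := by
  rw [Ne, CharP.cast_eq_zero_iff k p, not_dvd_choose_iff Fact.out]

theorem choose_q {a m : ℕ} (hm : 1 ≤ m) (hm' : m < p ^ a) : (((p ^ a).choose m : ℕ) : k) = 0 := by
  rw [CharP.cast_eq_zero_iff k p]
  exact (Fact.out : p.Prime).dvd_choose_pow (by omega) (by omega)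

/-- the divided power relation -/
theorem choose_shift {a : ℕ} (n m : ℕ) (h : n + m < p ^ a) :
    (-1) ^ m * (((p ^ a - 1 - n).choose m : ℕ) : k) = (((n + m).choose m : ℕ) : k) := by
  induction n generalizing m with
  | zero =>
    rw [Nat.sub_zero, zero_add, Nat.choose_self, Nat.cast_one]
    induction m with
    | zero => simp
    | succ m ih =>
      have h1 : p ^ a - 1 + 1 = p ^ a := Nat.sub_add_cancel (by omega)
      have h2 := choose_q (k := k) p (a := a) (m := m + 1) (by omega) (by omega)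
      rw [← h1, Nat.choose_succ_succ, Nat.cast_add] at h2
      have h3 := ih (by omega)
      rw [pow_succ]
      linear_combination (-1) ^ (m + 1) * h2 + h3
  | succ n ih =>
    induction m with
    | zero => simp only [_root_.pow_zero, _root_.Nat.choose_zero_right, _root_.Nat.cast_one, _root_.mul_one, _root_.add_zero]
    | succ m ihm =>
      have h3 := ih (m + 1) (by omega)
      have h4 := ihm (by omega)
      have h5 : p ^ a - 1 - n = (p ^ a - 1 - (n + 1)) + 1 := by omega
      rw [h5, Nat.choose_succ_succ, Nat.cast_add, mul_add] at h3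
      have h6 : n + 1 + (m + 1) = (n + 1 + m) + 1 := by omega
      rw [h6, Nat.choose_succ_succ, Nat.cast_add, ← h4]
      have h7 : n + (m + 1) = n + 1 + m := by omega
      rw [h7] at h3
      rw [← h3, pow_succ]
      ring

end

end Cfsg.Agent.R2.H28.SL2
end

-- part: R2/H28/SL2/Ext
section
/-!
# Extensions of the trivial module by the simple modules `V_b` of `SL(2, q)` (helper28)

`ext_main` : `E / W` trivial, `W ≅ V_b`: the obstructions for lifting the elements of `E / W` to fixed vectors are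
linear functionals `z i`, one for each `i` with `Exc p a b i` : `b_i + 1 < p` and `2 (b_i + 1) p ^ i = b` modulo `q - 1`.
General version of `H525/E8L/Ext.lean` (helper525, `q = 81`).
-/

set_option autoImplicit false
set_option linter.unusedSectionVars false

namespace Cfsg.Agent.R2.H28.SL2

open Matrix Cfsg.Agent.H943.SL2Rel Cfsg.Agent.H943.SL2Mod Cfsg.Agent.H943.RepAdd

/-- the exceptional weight -/
def en (p b i : ℕ) : ℕ := (b / p ^ i % p + 1) * p ^ i

/-- the exceptional digits -/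
def Exc (p a b i : ℕ) : Prop := b / p ^ i % p + 1 < p ∧ 2 * en p b i % (p ^ a - 1) = b % (p ^ a - 1)

instance (p a b i : ℕ) : Decidable (Exc p a b i) := by unfold Exc; infer_instance

/-- the combinatorial lemma -/
theorem exists_digit {p : ℕ} (hp : p.Prime) {a b n : ℕ} (hn : n < p ^ a) (hd : p ∣ b.choose n) :
    ∃ i < a, b / p ^ i % p + 1 < p ∧ ¬ p ∣ n.choose (en p b i) ∧ p ∣ b.choose (en p b i) := by
  have h1 : ¬ ∀ i, n / p ^ i % p ≤ b / p ^ i % p := fun h => (not_dvd_choose_iff hp).2 h hd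
  push Not at h1
  obtain ⟨i, hi⟩ := h1
  have hia : i < a := by
    by_contra hc
    rw [dg_zero_of_le hp.pos hn (by omega)] at hi
    omega
  have hlt := dg_lt hp.pos n i
  refine ⟨i, hia, by omega, ?_, ?_⟩
  · rw [not_dvd_choose_iff hp]
    intro l
    unfold en
    rw [dg_single hp.one_lt (by omega)]
    split_ifs with h
    · rw [h]
      omega
    · exact Nat.zero_le _
  · by_contra hc
    rw [not_dvd_choose_iff hp] at hc
    have h2 := hc i
    unfold en at h2
    rw [dg_single hp.one_lt (by omega), if_pos rfl] at h2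
    omega

section

variable {k : Type*} [Field k] {F : Type*} [Field F] [Fintype F] [DecidableEq F] (ι : F →+* k)

include ι in
theorem neg_one_pow_Q : (-1 : k) ^ (Fintype.card F - 1) = 1 := by
  have h := powQ ι (t := (-1 : F)) (neg_ne_zero.2 one_ne_zero)
  rwa [map_neg, map_one] at h

/-- the representation on `V_b` -/
abbrev RB (p : ℕ) [Fact p.Prime] [CharP k p] [CharP F p] {b : ℕ} (hb : b ≤ Fintype.card F - 1) :
    Representation k (_root_.Matrix.SpecialLinearGroup (Fin 2) F) (Vb ι b) :=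
  Cfsg.Agent.H179.SLC.rb ι p (neg_one_pow_Q ι) hb

variable {V : Type*} [AddCommGroup V] [Module k V] (ρ : Representation k (_root_.Matrix.SpecialLinearGroup (Fin 2) F) V)

/-- **the divided power relations** -/
theorem Dm_mul' (p : ℕ) [Fact p.Prime] [CharP k p] [CharP F p] {a : ℕ} (hF : Fintype.card F = p ^ a) {m n : ℕ}
    (hm : 1 ≤ m) (hn : 1 ≤ n) (hmn : m + n ≤ Fintype.card F - 1) (x : V) :
    Dm ι ρ m (Dm ι ρ n x) = ((m + n).choose m : k) • Dm ι ρ (m + n) x := by
  have hq := one_lt (F := F)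
  rw [Dm_mul ι ρ hm hn (by omega) (by omega), hF, choose_shift p n m (by omega), add_comm n m]

theorem Dm_mul_zero {m n : ℕ}
    (hm : 1 ≤ m) (hn : 1 ≤ n) (hm' : m ≤ Fintype.card F - 1) (hn' : n ≤ Fintype.card F - 1)
    (hmn : Fintype.card F - 1 < m + n) (x : V) : Dm ι ρ m (Dm ι ρ n x) = 0 := by
  rw [Dm_mul ι ρ hm hn hn' hm', Nat.choose_eq_zero_of_lt (by omega), Nat.cast_zero, mul_zero, zero_smul]

end

variable {k : Type*} [Field k] [DecidableEq k] {F : Type*} [Field F] [Fintype F] [DecidableEq F] (ι : F →+* k)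

/-- the coefficient of `mon b` -/
theorem eval_one {b : ℕ} {f : F × F → k} (hf : f ∈ Vb ι b) (a : F) : f (a, 0) = ι a ^ b * f (1, 0) := by
  obtain ⟨c, rfl⟩ := mem_span_mon ι (Vb_le ι b hf)
  rw [Finset.sum_apply, Finset.sum_apply, Finset.mul_sum]
  refine Finset.sum_congr rfl fun m hm => ?_
  rw [Finset.mem_range] at hm
  show c m * mon ι b m (a, 0) = ι a ^ b * (c m * mon ι b m (1, 0))
  unfold mon
  by_cases hmb : m = b
  · rw [hmb, Nat.sub_self, pow_zero, map_one, one_pow]
    ring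
  · rw [map_zero, zero_pow (show b - m ≠ 0 by omega)]
    ring

/-- the values of `D_n` at `(1, 0)` -/
theorem Dm_eval {b : ℕ} (hb : b ≤ Fintype.card F - 1) (x : Bf k b → k) {n : ℕ} (hn : 1 ≤ n)
    (hn' : n ≤ Fintype.card F - 1) :
    Dm ι (fRep k F) n (∑ m : Bf k b, x m • mon ι b m) (1, 0) =
      if h : n ≤ b ∧ b - n ∈ Bf k b then x ⟨b - n, h.2⟩ else 0 := by
  rw [map_sum, Finset.sum_apply]
  have h1 : ∀ m : Bf k b, (Dm ι (fRep k F) n (x m • mon ι b m)) (1, 0) = if (m : ℕ) + n = b then x m else 0 := by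
    intro m
    have hm := (mem_Bf.1 m.2).1
    rw [map_smul, Dm_mon ι hb hm hn hn']
    show x m * (((b - (m : ℕ)).choose n : k) * mon ι b ((m : ℕ) + n) (1, 0)) = _
    by_cases h2 : (m : ℕ) + n = b
    · rw [if_pos h2, show b - (m : ℕ) = n by omega, Nat.choose_self, h2, mon_self, map_one, one_pow]
      ring
    · rw [if_neg h2]
      by_cases h3 : (m : ℕ) + n < b
      · unfold mon
        rw [map_zero, zero_pow (show b - ((m : ℕ) + n) ≠ 0 by omega)]
        ring
      · rw [Nat.choose_eq_zero_of_lt (show b - (m : ℕ) < n by omega)]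
        ring
  rw [Finset.sum_congr rfl fun m _ => h1 m]
  split_ifs with h
  · rw [Finset.sum_eq_single (⟨b - n, h.2⟩ : Bf k b)]
    · rw [if_pos (show b - n + n = b by omega)]
    · intro m _ hm
      rw [if_neg]
      intro h2
      exact hm (Subtype.ext (show (m : ℕ) = b - n by omega))
    · intro h2
      exact absurd (Finset.mem_univ _) h2
  · refine Finset.sum_eq_zero fun m _ => ?_
    rw [if_neg]
    intro h2
    apply h
    refine ⟨by omega, ?_⟩
    have : b - n = (m : ℕ) := by omega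
    rw [this]
    exact m.2

section Main

variable {E : Type*} [AddCommGroup E] [Module k E]
  (ρ : Representation k (_root_.Matrix.SpecialLinearGroup (Fin 2) F) E) (W : Submodule k E) (hW : ∀ g, ∀ x ∈ W, ρ g x ∈ W)

/-- `B`-fixed vectors give fixed vectors -/
theorem avg_fixed {x : E} (hu : ∀ t, ρ (u t) x = x) (hh : ∀ a, ρ (h a) x = x) (g : _root_.Matrix.SpecialLinearGroup (Fin 2) F) :
    ρ g (x + ∑ t : F, ρ (u t) (ρ w x)) = x + ∑ t : F, ρ (u t) (ρ w x) := by
  classical
  refine induct (P := fun g => ρ g (x + ∑ t : F, ρ (u t) (ρ w x)) = x + ∑ t : F, ρ (u t) (ρ w x)) ?_ ?_ ?_ ?_ g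
  · intro s
    rw [map_add, hu, map_sum]
    congr 1
    refine Fintype.sum_equiv (Equiv.addLeft s) _ _ fun t => ?_
    rw [apply_mul, ← u_add]
    rfl
  · intro a
    rw [map_add, hh, map_sum]
    congr 1
    have ha : (a : F) ^ 2 ≠ 0 := pow_ne_zero _ a.ne_zero
    refine Fintype.sum_equiv (Equiv.mulLeft₀ ((a : F) ^ 2) ha) _ _ fun t => ?_
    rw [apply_mul3, h_u, mul_assoc, h_w, map_mul, map_mul]
    show ρ (u ((a : F) ^ 2 * t)) (ρ w (ρ (h a⁻¹) x)) = _
    rw [hh]
    rfl
  · rw [map_add, map_sum, ← Finset.add_sum_erase _ _ (Finset.mem_univ (0 : F)), u_zero, map_one,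
      Module.End.one_apply, ww, hh]
    have h1 : ∑ t ∈ Finset.univ.erase (0 : F), ρ w (ρ (u t) (ρ w x)) =
        ∑ t ∈ Finset.univ.erase (0 : F), ρ (u t) (ρ w x) := by
      refine Finset.sum_bij' (fun t _ => -t⁻¹) (fun t _ => -t⁻¹) ?_ ?_ ?_ ?_ ?_
      · intro t ht
        exact Finset.mem_erase.2 ⟨neg_ne_zero.2 (inv_ne_zero (Finset.ne_of_mem_erase ht)), Finset.mem_univ _⟩
      · intro t ht
        exact Finset.mem_erase.2 ⟨neg_ne_zero.2 (inv_ne_zero (Finset.ne_of_mem_erase ht)), Finset.mem_univ _⟩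
      · intro t ht
        simp
      · intro t ht
        simp
      · intro t ht
        have hD : UFix ρ (Submodule.span k {x}) := by
          intro s d hd
          obtain ⟨c, rfl⟩ := Submodule.mem_span_singleton.1 hd
          rw [map_smul, hu]
        rw [wuw ρ hD (Finset.ne_of_mem_erase ht) (Submodule.mem_span_singleton_self x), hh]
    have h2 := Finset.add_sum_erase Finset.univ (fun t : F => ρ (u t) (ρ w x)) (Finset.mem_univ (0 : F))
    rw [u_zero, map_one, Module.End.one_apply] at h2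
    rw [h1, ← h2]
    abel
  · intro a b ha hb
    rw [map_mul, Module.End.mul_apply, hb, ha]

variable (p : ℕ) [Fact p.Prime] [CharP k p] [CharP F p]

include hW in
/-- **the obstructions** -/
theorem ext_main {a : ℕ} (hF : Fintype.card F = p ^ a) {b : ℕ} (hb : b ≤ Fintype.card F - 1)
    (φ : Vb ι b ≃ₗ[k] W)
    (hφ : ∀ g x, φ (RB ι p hb g x) = subRep ρ W hW g (φ x)) (htr : ∀ g x, ρ g x - x ∈ W) :
    ∃ z : ℕ → (E →ₗ[k] k), (∀ i < a, Exc p a b i → ∀ x ∈ W, z i x = 0) ∧
      (∀ i x, Dm ι ρ (en p b i) x = 0 → z i x = 0) ∧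
      ∀ x, (∀ i < a, Exc p a b i → z i x = 0) → ∃ x', (∀ g, ρ g x' = x') ∧ x' - x ∈ W := by
  have hp : p.Prime := Fact.out
  have hq := one_lt (F := F)
  obtain ⟨Q, hQ⟩ : ∃ Q, Q = Fintype.card F - 1 := ⟨_, rfl⟩
  have hQ0 : 0 < Q := by omega
  have hb' : b ≤ Q := by omega
  have hpa : p ^ a = Q + 1 := by omega
  have hs1 := neg_one_pow_Q ι
  have hcard : (Fintype.card Fˣ : k) = -1 := by
    rw [Fintype.card_units]
    exact cast_Q p
  have hane : ∀ a : Fˣ, ι (a : F) ≠ 0 := fun a => (map_ne_zero ι).2 a.ne_zero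
  -- the functional
  let δ : Vb ι b →ₗ[k] k := (LinearMap.proj ((1 : F), (0 : F))) ∘ₗ (Vb ι b).subtype
  obtain ⟨m', hm'⟩ := LinearMap.exists_extend (δ ∘ₗ (φ.symm : W →ₗ[k] Vb ι b))
  have hm'φ : ∀ f : Vb ι b, m' (φ f : E) = (f : F × F → k) (1, 0) := by
    intro f
    have h1 := LinearMap.congr_fun hm' (φ f)
    have h2 : m' (φ f : E) = δ (φ.symm (φ f)) := h1
    rw [h2, LinearEquiv.symm_apply_apply]
    rfl
  have hφ' : ∀ g f, ρ g (φ f : E) = (φ (RB ι p hb g f) : E) := by
    intro g f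
    rw [hφ]
    rfl
  let m : E →ₗ[k] k := -∑ a : Fˣ, ((ι (a : F))⁻¹ ^ b) • (m' ∘ₗ (ρ (h a) : E →ₗ[k] E))
  have hm_apply : ∀ x, m x = -∑ a : Fˣ, ((ι (a : F))⁻¹ ^ b) * m' (ρ (h a) x) := by
    intro x
    simp only [m, LinearMap.sum_apply, _root_.inv_pow, _root_.LinearMap.neg_apply, _root_.LinearMap.smul_apply, _root_.LinearMap.coe_comp, _root_.Function.comp_apply, _root_.smul_eq_mul]
  have hmφ : ∀ f : Vb ι b, m (φ f : E) = (f : F × F → k) (1, 0) := by
    intro f
    rw [hm_apply]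
    have h1 : ∀ a : Fˣ, ((ι (a : F))⁻¹ ^ b) * m' (ρ (h a) (φ f : E)) = (f : F × F → k) (1, 0) := by
      intro a
      rw [hφ', hm'φ]
      have h2 : ((RB ι p hb (h a) f : Vb ι b) : F × F → k) (1, 0) = (f : F × F → k) ((a : F), 0) := by
        show fRep k F (h a) (f : F × F → k) (1, 0) = _
        rw [fRep_h, one_mul, zero_mul]
      rw [h2, eval_one ι f.2, ← mul_assoc, ← mul_pow, inv_mul_cancel₀ (hane a), one_pow, one_mul]
    rw [Finset.sum_congr rfl fun a _ => h1 a, Finset.sum_const, Finset.card_univ, nsmul_eq_mul, hcard]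
    ring
  have hmh : ∀ a x, m (ρ (h a) x) = ι (a : F) ^ b * m x := by
    intro a x
    rw [hm_apply, hm_apply, mul_neg, Finset.mul_sum]
    congr 1
    refine Fintype.sum_equiv (Equiv.mulRight a) _ _ fun c => ?_
    rw [apply_mul, ← h_mul]
    show _ = ι (a : F) ^ b * ((ι ((c * a : Fˣ) : F))⁻¹ ^ b * m' (ρ (h (c * a)) x))
    rw [← mul_assoc]
    congr 1
    rw [Units.val_mul, map_mul, mul_inv, mul_pow, mul_comm ((ι (c : F))⁻¹ ^ b), ← mul_assoc, ← mul_pow,
      mul_inv_cancel₀ (hane a), one_pow, one_mul]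
  -- the functionals `z_n`
  have hDφ : ∀ n (f : Vb ι b), ((Dm ι ρ n (φ f : E)) : E) = (φ (Dm ι (RB ι p hb) n f) : E) := by
    intro n f
    rw [Dm_apply, Dm_apply, map_neg, map_sum]
    push_cast
    congr 1
    refine Finset.sum_congr rfl fun t _ => ?_
    rw [map_smul, Submodule.coe_smul, hφ']
  have hDco : ∀ n (f : Vb ι b), ((Dm ι (RB ι p hb) n f : Vb ι b) : F × F → k) =
      Dm ι (fRep k F) n (f : F × F → k) := by
    intro n f
    rw [Dm_apply, Dm_apply]
    push_cast
    rfl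
  obtain ⟨e, he⟩ := Cfsg.Agent.H179.SLC.exists_coord ι p ι.injective hs1 hb
  have hzφ : ∀ (x : Bf k b → k) (n : ℕ), 1 ≤ n → n ≤ Q → m (Dm ι ρ n (φ (e x) : E)) =
      if h : n ≤ b ∧ b - n ∈ Bf k b then x ⟨b - n, h.2⟩ else 0 := by
    intro x n hn hn'
    rw [hDφ, hmφ, hDco, he, Dm_eval ι hb x hn (by omega)]
  have hBf : ∀ n ≤ b, (b - n ∈ Bf k b ↔ ¬ p ∣ b.choose n) := by
    intro n hn
    rw [mem_Bf]
    unfold Bb
    rw [Set.mem_ofPred_eq, Nat.choose_symm hn, Ne, CharP.cast_eq_zero_iff k p]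
    exact ⟨fun h => h.2, fun h => ⟨Nat.sub_le _ _, h⟩⟩
  have hz0 : ∀ n, 1 ≤ n → n ≤ Q → p ∣ b.choose n → ∀ y ∈ W, m (Dm ι ρ n y) = 0 := by
    intro n hn hn' hl y hy
    obtain ⟨f, hf⟩ := φ.surjective ⟨y, hy⟩
    obtain ⟨x, rfl⟩ := e.surjective f
    have h1 : y = (φ (e x) : E) := by rw [hf]
    rw [h1, hzφ x n hn hn', dif_neg]
    rintro ⟨h2, h3⟩
    exact (hBf n h2).1 h3 hl
  have hen1 : ∀ i, 1 ≤ en p b i := fun i => Nat.mul_pos (Nat.succ_pos _) (Nat.pow_pos hp.pos)
  have henQ : ∀ i < a, b / p ^ i % p + 1 < p → en p b i ≤ Q := by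
    intro i hi h1
    have h2 : en p b i < p ^ a := by
      unfold en
      calc (b / p ^ i % p + 1) * p ^ i < p * p ^ i := Nat.mul_lt_mul_of_pos_right h1 (Nat.pow_pos hp.pos)
        _ = p ^ (i + 1) := by rw [pow_succ, mul_comm]
        _ ≤ p ^ a := Nat.pow_le_pow_right hp.pos hi
    omega
  have hzero : ∀ n, 1 ≤ n → n ≤ Q → p ∣ b.choose n → (∀ i < a, Exc p a b i → n ≠ en p b i) → ∀ x,
      m (Dm ι ρ n x) = 0 := by
    intro n hn hn' hl hex x
    obtain ⟨i, hi, hlt, hd1, hd2⟩ := exists_digit hp (a := a) (b := b) (n := n) (by omega) hl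
    have hle : en p b i ≤ n := by
      by_contra hc
      rw [Nat.choose_eq_zero_of_lt (by omega)] at hd1
      exact hd1 (dvd_zero p)
    rcases Nat.lt_or_ge (en p b i) n with hlt' | hge
    · have h1 := hz0 _ (hen1 i) (henQ i hi hlt) hd2 _ (Dm_mem ι ρ htr (m := n - en p b i) (by omega) x)
      rw [Dm_mul' ι ρ p hF (hen1 i) (by omega) (by omega), map_smul, smul_eq_mul,
        show en p b i + (n - en p b i) = n by omega] at h1
      refine (mul_eq_zero.1 h1).resolve_left ?_
      rw [CharP.cast_eq_zero_iff k p]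
      exact hd1
    · have hni : n = en p b i := by omega
      have hmod : ¬ 2 * n % Q = b % Q := by
        intro h1
        refine hex i hi ⟨hlt, ?_⟩ hni
        rw [← hni, hpa]
        exact h1
      obtain ⟨lam, hlam⟩ := IsCyclic.exists_generator (α := Fˣ)
      have hprim := primitive ι ι.injective hlam
      rw [← hQ] at hprim
      have h1 : ι (lam : F) ^ b * m (Dm ι ρ n x) = ι (lam : F) ^ (2 * n) * m (Dm ι ρ n x) := by
        rw [← hmh, h_Dm ι ρ (by omega), map_smul, smul_eq_mul]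
        congr 1
        have h2 := hz0 n hn hn' hl _ (htr (h lam) x)
        rwa [map_sub, map_sub, sub_eq_zero] at h2
      by_contra hne
      have h2 := mul_right_cancel₀ hne h1
      apply hmod
      have h3 := (hprim.isOfFinOrder (by omega)).pow_eq_pow_iff_modEq.1 h2
      rw [← hprim.eq_orderOf] at h3
      exact h3.symm
  -- the obstruction
  refine ⟨fun i => m ∘ₗ Dm ι ρ (en p b i), fun i hi hE x hx => ?_, fun i x hx => ?_, fun x hx => ?_⟩
  · have h1 : p ∣ b.choose (en p b i) := by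
      by_contra hc
      rw [not_dvd_choose_iff hp] at hc
      have h2 := hc i
      have h3 : en p b i / p ^ i % p = b / p ^ i % p + 1 := by
        unfold en
        rw [dg_single hp.one_lt hE.1, if_pos rfl]
      omega
    exact hz0 _ (hen1 i) (henQ i hi hE.1) h1 x hx
  · show m (Dm ι ρ (en p b i) x) = 0
    rw [hx, map_zero]
  have hzall : ∀ n, 1 ≤ n → n ≤ Q → p ∣ b.choose n → m (Dm ι ρ n x) = 0 := by
    intro n hn hn' hl
    by_cases hex : ∃ i < a, Exc p a b i ∧ n = en p b i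
    · obtain ⟨i, hi, hE, rfl⟩ := hex
      exact hx i hi hE
    · push Not at hex
      exact hzero n hn hn' hl hex x
  -- the correction
  let γ : Bf k b → k := fun j => if (j : ℕ) = b then m x else m (Dm ι ρ (b - j) x)
  let v : E := (φ (e γ) : E)
  have hvW : v ∈ W := (φ (e γ)).2
  have hbB : b ∈ Bf k b := by
    rw [mem_Bf]
    exact ⟨le_rfl, by rw [Nat.choose_self, Nat.cast_one]; exact one_ne_zero⟩
  have hcoef : ∀ y : Bf k b → k, m (φ (e y) : E) = y ⟨b, hbB⟩ := by
    intro y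
    rw [hmφ, he, Finset.sum_apply, Finset.sum_eq_single (⟨b, hbB⟩ : Bf k b)]
    · show y _ * mon ι b b (1, 0) = _
      rw [mon_self, map_one, one_pow, mul_one]
    · intro j _ hj
      show y _ * mon ι b j (1, 0) = 0
      have h1 := (mem_Bf.1 j.2).1
      have h2 : (j : ℕ) ≠ b := fun h => hj (Subtype.ext h)
      unfold mon
      rw [map_zero, zero_pow (show b - (j : ℕ) ≠ 0 by omega)]
      ring
    · intro h
      exact absurd (Finset.mem_univ _) h
  have hx1 : m (x - v) = 0 := by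
    rw [map_sub, hcoef, sub_eq_zero]
    show m x = if b = b then m x else _
    rw [if_pos rfl]
  have hx2 : ∀ n, 1 ≤ n → n ≤ Q → m (Dm ι ρ n (x - v)) = 0 := by
    intro n hn hn'
    rw [map_sub, map_sub, sub_eq_zero, hzφ γ n hn hn']
    split_ifs with h
    · show _ = if b - n = b then m x else m (Dm ι ρ (b - (b - n)) x)
      rw [if_neg (by omega), show b - (b - n) = n by omega]
    · refine hzall n hn hn' ?_
      by_cases h2 : n ≤ b
      · by_contra h3
        exact h ⟨h2, (hBf n h2).2 h3⟩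
      · rw [Nat.choose_eq_zero_of_lt (by omega)]
        exact dvd_zero p
  -- vanishing
  have hvan : ∀ y ∈ W, m y = 0 → (∀ n, 1 ≤ n → n ≤ Q → m (Dm ι ρ n y) = 0) → y = 0 := by
    intro y hy h1 h2
    obtain ⟨f, hf⟩ := φ.surjective ⟨y, hy⟩
    obtain ⟨c, rfl⟩ := e.surjective f
    have h4 : y = (φ (e c) : E) := by rw [hf]
    have h5 : c = 0 := by
      funext j
      have hj := (mem_Bf.1 j.2).1
      by_cases hjb : (j : ℕ) = b
      · have h6 := hcoef c
        rw [← h4, h1] at h6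
        have h7 : j = ⟨b, hbB⟩ := Subtype.ext hjb
        rw [h7, ← h6]
        rfl
      · have h6 := h2 (b - j) (by omega) (by omega)
        rw [h4, hzφ c _ (by omega) (by omega), dif_pos ⟨Nat.sub_le _ _, by
          rw [show b - (b - (j : ℕ)) = j by omega]; exact j.2⟩] at h6
        have h7 : (⟨b - (b - (j : ℕ)), by rw [show b - (b - (j : ℕ)) = j by omega]; exact j.2⟩ : Bf k b) = j :=
          Subtype.ext (show b - (b - (j : ℕ)) = j by omega)
        rw [h7] at h6
        exact h6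
    rw [h4, h5, map_zero, map_zero]
    rfl
  set x' := x - v with hx'
  have hu : ∀ t, ρ (u t) x' = x' := by
    intro t
    rw [← sub_eq_zero]
    have h1 : ρ (u t) x' - x' = ∑ j ∈ Finset.Icc 1 Q, ι t ^ j • Dm ι ρ j x' := by
      rw [u_eq ι ρ p t x', add_sub_cancel_left, hQ]
    refine hvan _ (htr _ _) ?_ ?_
    · rw [h1, map_sum]
      refine Finset.sum_eq_zero fun j hj => ?_
      rw [Finset.mem_Icc] at hj
      rw [map_smul, hx2 j hj.1 hj.2, smul_zero]
    · intro n hn hn'
      rw [h1, map_sum, map_sum]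
      refine Finset.sum_eq_zero fun j hj => ?_
      rw [Finset.mem_Icc] at hj
      rw [map_smul, map_smul]
      by_cases hnj : n + j ≤ Q
      · rw [Dm_mul' ι ρ p hF hn hj.1 (by omega), map_smul, hx2 _ (by omega) hnj, smul_zero, smul_zero]
      · rw [Dm_mul_zero ι ρ hn hj.1 (by omega) (by omega) (by omega), map_zero, smul_zero]
  have hh : ∀ a, ρ (h a) x' = x' := by
    intro a
    rw [← sub_eq_zero]
    refine hvan _ (htr _ _) ?_ ?_
    · rw [map_sub, hmh, hx1, mul_zero, sub_zero]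
    · intro n hn hn'
      rw [map_sub, map_sub, hx2 n hn hn', sub_zero]
      have h1 := hmh a (Dm ι ρ n x')
      rw [h_Dm ι ρ (by omega), map_smul, hx2 n hn hn', mul_zero, smul_eq_mul] at h1
      exact (mul_eq_zero.1 h1).resolve_left (pow_ne_zero _ (hane a))
  refine ⟨x' + ∑ t : F, ρ (u t) (ρ w x'), avg_fixed ρ hu hh, ?_⟩
  have h1 : ∑ t : F, ρ (u t) (ρ w x') ∈ W := by
    have h2 : ∑ t : F, ρ (u t) (ρ w x') = ∑ t : F, (ρ (u t * w) x' - x') := by
      rw [Finset.sum_sub_distrib, Finset.sum_const, Finset.card_univ, ← Nat.cast_smul_eq_nsmul k,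
        card_zero (k := k) (F := F) p, zero_smul, sub_zero]
      exact Finset.sum_congr rfl fun t _ => apply_mul ρ _ _ _
    rw [h2]
    exact sum_mem fun t _ => htr _ _
  have h2 : x' + ∑ t : F, ρ (u t) (ρ w x') - x = ∑ t : F, ρ (u t) (ρ w x') - v := by
    rw [hx']
    abel
  rw [h2]
  exact W.sub_mem h1 hvW

end Main

end Cfsg.Agent.R2.H28.SL2
end

private theorem dce_c6ea34bf1c73 : _root_.True := by
  try have : _root_.True := by simp only [_root_.Cfsg.Agent.R2.H28.SL2.Dm.eq_1]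
  try have : _root_.True := by simp only [_root_.Cfsg.Agent.R2.H28.SL2.RB.congr_simp]
  exact _root_.True.intro
end

-- part: R2/H28/SL2/HOne
section
set_option linter.all false
open scoped Cfsg.Agent.FastGrp

/-!
# The first cohomology of the simple modules of `SL(2, q)` (helper28)

`finrank_Z1_RB` : `dim Z¹(V_b) + dim V_b ^ S ≤ dim V_b + hb p a b`, `hb p a b` : the number of exceptional digits.
-/

set_option autoImplicit false
set_option linter.unusedSectionVars false

namespace Cfsg.Agent.R2.H28.SL2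

open Matrix Cfsg.Agent.H943.SL2Rel Cfsg.Agent.H943.SL2Mod Cfsg.Agent.H943.RepAdd

/-- the number of exceptional digits -/
def hb (p a b : ℕ) : ℕ := ((Finset.range a).filter (Exc p a b)).card

section Gen

open Cfsg.Agent.H179.SLC

variable {k : Type*} [Field k] {G : Type*} [Group G] {V : Type*} [AddCommGroup V] [Module k V]
  (ρ : Representation k G V)

/-- the universal extension by cocycles -/
def extRep : Representation k G (V × Z1 ρ) where
  toFun g := LinearMap.prod (ρ g ∘ₗ LinearMap.fst k V (Z1 ρ) +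
      (LinearMap.proj g ∘ₗ (Z1 ρ).subtype) ∘ₗ LinearMap.snd k V (Z1 ρ)) (LinearMap.snd k V (Z1 ρ))
  map_one' := by
    refine LinearMap.ext fun x => Prod.ext ?_ rfl
    show ρ 1 x.1 + x.2.1 1 = x.1
    rw [map_one, Module.End.one_apply, Z1_one, add_zero]
  map_mul' g g' := by
    refine LinearMap.ext fun x => Prod.ext ?_ rfl
    show ρ (g * g') x.1 + x.2.1 (g * g') = ρ g (ρ g' x.1 + x.2.1 g') + x.2.1 g
    rw [map_mul, x.2.2 g g', map_add, Module.End.mul_apply]
    abel

theorem extRep_apply (g : G) (x : V × Z1 ρ) : extRep ρ g x = (ρ g x.1 + x.2.1 g, x.2) := rfl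

/-- the submodule `V` of the universal extension -/
def Wx : Submodule k (V × Z1 ρ) := LinearMap.ker (LinearMap.snd k V (Z1 ρ))

theorem mem_Wx (x : V × Z1 ρ) : x ∈ Wx ρ ↔ x.2 = 0 := Iff.rfl

theorem inv_Wx : ∀ g, ∀ x ∈ Wx ρ, extRep ρ g x ∈ Wx ρ := fun _ _ hx => hx

/-- `V` and the submodule `V` of the universal extension -/
def φx : V ≃ₗ[k] Wx ρ where
  toFun v := ⟨(v, 0), rfl⟩
  invFun x := x.1.1
  left_inv _ := rfl
  right_inv x := Subtype.ext (Prod.ext rfl ((mem_Wx ρ _).1 x.2).symm)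
  map_add' _ _ := Subtype.ext (Prod.ext rfl (add_zero _).symm)
  map_smul' _ _ := Subtype.ext (Prod.ext rfl (smul_zero _).symm)

theorem φx_apply (g : G) (x : V) : φx ρ (ρ g x) = subRep (extRep ρ) (Wx ρ) (inv_Wx ρ) g (φx ρ x) := by
  apply Subtype.ext
  show ((ρ g x, 0) : V × Z1 ρ) = (ρ g x + (0 : Z1 ρ).1 g, 0)
  refine Prod.ext ?_ rfl
  show ρ g x = ρ g x + 0
  rw [add_zero]

theorem tr_Wx (g : G) (x : V × Z1 ρ) : extRep ρ g x - x ∈ Wx ρ := by
  rw [mem_Wx, extRep_apply]
  exact sub_self _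

theorem finrank_Z1_of [Finite G] [FiniteDimensional k V] (S : Finset ℕ) (z : ℕ → (V × Z1 ρ →ₗ[k] k))
    (hz : ∀ x, (∀ i ∈ S, z i x = 0) → ∃ x', (∀ g, extRep ρ g x' = x') ∧ x' - x ∈ Wx ρ) :
    Module.finrank k (Z1 ρ) + Module.finrank k (fx ρ) ≤ Module.finrank k V + S.card := by
  let Θ : Z1 ρ →ₗ[k] (S → k) := LinearMap.pi fun i => z i ∘ₗ LinearMap.inr k V (Z1 ρ)
  have hΘ : ∀ c i, Θ c i = z i ((0 : V), c) := fun c i => rfl
  have hker : LinearMap.ker Θ ≤ LinearMap.range (cob ρ) := by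
    intro c hc
    rw [LinearMap.mem_ker] at hc
    obtain ⟨x', hx', hx2⟩ := hz ((0 : V), c) fun i hi => congrFun hc ⟨i, hi⟩
    have h2 : x'.2 = c := by
      have h3 : (x' - ((0 : V), c)).2 = 0 := hx2
      exact sub_eq_zero.1 h3
    refine ⟨-x'.1, Subtype.ext (funext fun g => ?_)⟩
    have h4 := congrArg Prod.fst (hx' g)
    rw [extRep_apply] at h4
    have h5 : ρ g x'.1 + x'.2.1 g = x'.1 := h4
    show ρ g (-x'.1) - (-x'.1) = c.1 g
    rw [← h2, map_neg]
    have h6 : x'.2.1 g = x'.1 - ρ g x'.1 := by rw [eq_sub_iff_add_eq, add_comm]; exact h5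
    rw [h6]
    abel
  have h1 := LinearMap.finrank_range_add_finrank_ker Θ
  have h2 := Submodule.finrank_mono hker
  have h3 := LinearMap.finrank_range_add_finrank_ker (cob ρ)
  rw [ker_cob] at h3
  have h4 : Module.finrank k (LinearMap.range Θ) ≤ S.card := by
    refine (Submodule.finrank_le _).trans ?_
    rw [Module.finrank_fintype_fun_eq_card, Fintype.card_coe]
  omega

end Gen

variable {k : Type*} [Field k] [DecidableEq k] {F : Type*} [Field F] [Fintype F] [DecidableEq F] (ι : F →+* k)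
variable (p : ℕ) [Fact p.Prime] [CharP k p] [CharP F p]

instance (b : ℕ) : FiniteDimensional k (Vb ι b) := by
  classical
  have h1 : FiniteDimensional k (F × F → k) := inferInstance
  exact FiniteDimensional.finiteDimensional_submodule _

/-- **`H¹(SL(2, q), V_b)`** -/
theorem finrank_Z1_RB {a : ℕ} (hF : Fintype.card F = p ^ a) {b : ℕ} (hb' : b ≤ Fintype.card F - 1)
    {V : Type*} [AddCommGroup V] [Module k V] [FiniteDimensional k V]
    (ρ : Representation k (SpecialLinearGroup (Fin 2) F) V) (ψ : Vb ι b ≃ₗ[k] V)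
    (hψ : ∀ g x, ψ (RB ι p hb' g x) = ρ g (ψ x)) :
    Module.finrank k (Cfsg.Agent.H179.SLC.Z1 ρ) + Module.finrank k (Cfsg.Agent.H179.SLC.fx ρ) ≤
      Module.finrank k V + hb p a b := by
  obtain ⟨z, -, -, hz⟩ := ext_main ι (extRep ρ) (Wx ρ) (inv_Wx _) p hF hb'
    (ψ.trans (φx ρ)) (fun g x => by
      rw [LinearEquiv.trans_apply, hψ]
      exact φx_apply ρ g (ψ x)) (tr_Wx ρ)
  refine finrank_Z1_of ρ ((Finset.range a).filter (Exc p a b)) z fun x hx => hz x fun i hi hE => ?_
  exact hx i (Finset.mem_filter.2 ⟨Finset.mem_range.2 hi, hE⟩)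

end Cfsg.Agent.R2.H28.SL2
end

-- part: R2/H28/SL2/Mult
section
prune_inst 0x120440030e200000000059423000020000000000000080000a00c0e00018002c04000410e100404028090404808006001000000424000000e00000000030000000016040000a008000000000000000000000000000000000000000000000000000000000
set_option linter.all false
open scoped Cfsg.Agent.FastGrp

-- part: R2/H28/SL2/Gen
section
/-!
# The modules `V_b` of `SL(2, q)` and the semisimple elements, every characteristic (helper28)

`finrank_eig_ss` : the multiplicities of the eigenvalues of any semisimple element (split or not) on `V_b`. General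
version of `H179/SLC/Gen.lean` (helper179, characteristic 2).
-/

set_option autoImplicit false
set_option linter.unusedSectionVars false

namespace Cfsg.Agent.R2.H28.SL2

open Matrix Cfsg.Agent.H943.SL2Rel Cfsg.Agent.H943.SL2Mod Cfsg.Agent.H943.RepAdd
open Cfsg.Agent.H179.SLC (IsSS lin Sp)

section Span

variable {k : Type*} [Field k] (p : ℕ) [Fact p.Prime] [CharP k p]

theorem lucas (b m : ℕ) : ((b.choose m : ℕ) : k) = (((b % p).choose (m % p) * (b / p).choose (m / p) : ℕ) : k) := by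
  rw [CharP.cast_eq_iff_mod_eq k p]
  exact Choose.choose_modEq_choose_mod_mul_choose_div_nat

/-- `C(p b + r, p m + s)` -/
theorem ch_mul (b m : ℕ) {r s : ℕ} (hr : r < p) (hs : s < p) :
    (((p * b + r).choose (p * m + s) : ℕ) : k) = (r.choose s : ℕ) * (b.choose m : ℕ) := by
  have hp : 0 < p := (Fact.out : p.Prime).pos
  rw [lucas p, Nat.mul_add_mod, Nat.mul_add_mod, Nat.mod_eq_of_lt hr, Nat.mod_eq_of_lt hs,
    Nat.mul_add_div hp, Nat.mul_add_div hp, Nat.div_eq_of_lt hr, Nat.div_eq_of_lt hs, add_zero, add_zero,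
    Nat.cast_mul]

variable {X : Type*} {l₁ l₂ : X → k}

theorem pow_mem_Sp {b : ℕ} {f : X → k} (hf : f ∈ Sp l₁ l₂ b) : f ^ p ∈ Sp l₁ l₂ (p * b) := by
  have hp : 0 < p := (Fact.out : p.Prime).pos
  unfold Sp at hf
  induction hf using Submodule.span_induction with
  | mem x hx =>
    obtain ⟨j, hj, rfl⟩ := hx
    have h0 := ch_mul (k := k) p b j hp hp
    rw [add_zero, add_zero, Nat.choose_self, Nat.cast_one, one_mul] at h0
    refine Submodule.subset_span ⟨p * j, ⟨Nat.mul_le_mul_left p hj.1, by rw [h0]; exact hj.2⟩, ?_⟩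
    funext z
    show l₁ z ^ (p * j) * l₂ z ^ (p * b - p * j) = (l₁ z ^ j * l₂ z ^ (b - j)) ^ p
    rw [mul_pow, ← pow_mul, ← pow_mul, ← Nat.mul_sub, mul_comm p j, mul_comm p (b - j)]
  | zero => rw [zero_pow hp.ne']; exact Submodule.zero_mem _
  | add x y _ _ hx hy =>
    have h1 : (x + y) ^ p = x ^ p + y ^ p := by
      funext z
      exact add_pow_char (R := k) (p := p) (x z) (y z)
    rw [h1]
    exact Submodule.add_mem _ hx hy
  | smul a x _ hx =>
    rw [smul_pow]
    exact Submodule.smul_mem _ _ hx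

theorem mul_mem_Sp {b r : ℕ} (hr : r < p) {f g : X → k} (hf : f ∈ Sp l₁ l₂ (p * b)) (hg : g ∈ Sp l₁ l₂ r) :
    f * g ∈ Sp l₁ l₂ (p * b + r) := by
  have hp : 0 < p := (Fact.out : p.Prime).pos
  unfold Sp at hf
  induction hf using Submodule.span_induction with
  | mem x hx =>
    obtain ⟨j, hj, rfl⟩ := hx
    unfold Sp at hg
    induction hg using Submodule.span_induction with
    | mem y hy =>
      obtain ⟨i, hi, rfl⟩ := hy
      obtain ⟨j', rfl⟩ : ∃ j', j = p * j' := by
        by_contra hc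
        apply hj.2
        have h1 : 0 < j % p := by
          rw [Nat.pos_iff_ne_zero]
          intro h2
          exact hc ⟨j / p, by rw [Nat.mul_div_cancel' (Nat.dvd_of_mod_eq_zero h2)]⟩
        rw [lucas p, Nat.mul_mod_right, Nat.choose_eq_zero_of_lt h1, zero_mul, Nat.cast_zero]
      have hj2 := hj.2
      have h0 := ch_mul (k := k) p b j' hp hp
      rw [add_zero, add_zero, Nat.choose_self, Nat.cast_one, one_mul] at h0
      rw [h0] at hj2
      have hi1 := hi.1
      have hj1 := hj.1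
      refine Submodule.subset_span ⟨p * j' + i, ⟨by omega, ?_⟩, ?_⟩
      · rw [ch_mul p b j' hr (by omega)]
        exact mul_ne_zero hi.2 hj2
      · funext z
        show l₁ z ^ (p * j' + i) * l₂ z ^ (p * b + r - (p * j' + i)) =
          (l₁ z ^ (p * j') * l₂ z ^ (p * b - p * j')) * (l₁ z ^ i * l₂ z ^ (r - i))
        rw [show p * b + r - (p * j' + i) = (p * b - p * j') + (r - i) by omega, pow_add, pow_add]
        ring
    | zero => rw [mul_zero]; exact Submodule.zero_mem _
    | add x y _ _ hx hy => rw [mul_add]; exact Submodule.add_mem _ hx hy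
    | smul a x _ hx => rw [mul_smul_comm]; exact Submodule.smul_mem _ _ hx
  | zero => rw [zero_mul]; exact Submodule.zero_mem _
  | add x y _ _ hx hy => rw [add_mul]; exact Submodule.add_mem _ hx hy
  | smul a x _ hx => rw [smul_mul_assoc]; exact Submodule.smul_mem _ _ hx

/-- all the monomials -/
def Sa (l₁ l₂ : X → k) (b : ℕ) : Submodule k (X → k) :=
  Submodule.span k ((fun j : ℕ => fun z => l₁ z ^ j * l₂ z ^ (b - j)) '' {m | m ≤ b})

theorem Sa_eq {r : ℕ} (hr : r < p) : Sa l₁ l₂ r = Sp l₁ l₂ r := by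
  unfold Sa Sp
  congr 2
  ext m
  constructor
  · intro hm
    refine ⟨hm, ?_⟩
    rw [Ne, CharP.cast_eq_zero_iff k p, not_dvd_choose_lt Fact.out hr]
    exact hm
  · intro hm
    exact hm.1

theorem mul_mem_Sa {b : ℕ} {f : X → k} (hf : f ∈ Sa l₁ l₂ b) (a₁ a₂ : k) :
    f * (a₁ • l₁ + a₂ • l₂) ∈ Sa l₁ l₂ (b + 1) := by
  unfold Sa at hf
  induction hf using Submodule.span_induction with
  | mem x hx =>
    obtain ⟨j, hj, rfl⟩ := hx
    have hj' : j ≤ b := hj
    rw [mul_add, mul_smul_comm, mul_smul_comm]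
    refine Submodule.add_mem _ (Submodule.smul_mem _ _ (Submodule.subset_span ⟨j + 1, ?_, ?_⟩))
      (Submodule.smul_mem _ _ (Submodule.subset_span ⟨j, ?_, ?_⟩))
    · show j + 1 ≤ b + 1
      omega
    · funext z
      show l₁ z ^ (j + 1) * l₂ z ^ (b + 1 - (j + 1)) = (l₁ z ^ j * l₂ z ^ (b - j)) * l₁ z
      rw [show b + 1 - (j + 1) = b - j by omega, pow_succ]
      ring
    · show j ≤ b + 1
      omega
    · funext z
      show l₁ z ^ j * l₂ z ^ (b + 1 - j) = (l₁ z ^ j * l₂ z ^ (b - j)) * l₂ z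
      rw [show b + 1 - j = b - j + 1 by omega, pow_succ]
      ring
  | zero => rw [zero_mul]; exact Submodule.zero_mem _
  | add x y _ _ hx hy => rw [add_mul]; exact Submodule.add_mem _ hx hy
  | smul a x _ hx => rw [smul_mul_assoc]; exact Submodule.smul_mem _ _ hx

theorem mono_mem_Sa {x y : X → k} {a₁ a₂ c₁ c₂ : k} (hx : x = a₁ • l₁ + a₂ • l₂)
    (hy : y = c₁ • l₁ + c₂ • l₂) (i j : ℕ) : x ^ i * y ^ j ∈ Sa l₁ l₂ (i + j) := by
  have h0 : (1 : X → k) ∈ Sa l₁ l₂ 0 := by
    refine Submodule.subset_span ⟨0, le_refl 0, ?_⟩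
    funext z
    show l₁ z ^ 0 * l₂ z ^ (0 - 0) = 1
    simp
  have h1 : ∀ j : ℕ, y ^ j ∈ Sa l₁ l₂ j := by
    intro j
    induction j with
    | zero => rw [pow_zero]; exact h0
    | succ j ih =>
      have := mul_mem_Sa ih c₁ c₂
      rwa [← hy, ← pow_succ] at this
  induction i with
  | zero => rw [pow_zero, one_mul, zero_add]; exact h1 j
  | succ i ih =>
    have := mul_mem_Sa ih a₁ a₂
    rw [← hx] at this
    have h2 : x ^ i * y ^ j * x = x ^ (i + 1) * y ^ j := by rw [pow_succ]; ring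
    rwa [h2, show i + j + 1 = i + 1 + j by omega] at this

include p in
/-- change of the linear functions -/
theorem mon_mem_Sp {x y : X → k} {a₁ a₂ c₁ c₂ : k} (hx : x = a₁ • l₁ + a₂ • l₂)
    (hy : y = c₁ • l₁ + c₂ • l₂) (b : ℕ) : ∀ m ∈ Bb k b, x ^ m * y ^ (b - m) ∈ Sp l₁ l₂ b := by
  have hp : p.Prime := Fact.out
  induction b using Nat.strong_induction_on with
  | _ b ih =>
    intro m hm
    rcases Nat.eq_zero_or_pos b with rfl | hb0
    · have h0 : m = 0 := Nat.le_zero.1 hm.1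
      subst h0
      have h1 := mono_mem_Sa hx hy 0 0
      rwa [Sa_eq p hp.pos] at h1
    have hbd := Nat.div_add_mod b p
    have hmd := Nat.div_add_mod m p
    have hbr := Nat.mod_lt b hp.pos
    have hmr := Nat.mod_lt m hp.pos
    have h1 := hm.2
    rw [← hbd, ← hmd, ch_mul p _ _ hbr hmr] at h1
    have h2 := left_ne_zero_of_mul h1
    have h3 := right_ne_zero_of_mul h1
    have h4 : m % p ≤ b % p := by
      by_contra hc
      rw [Nat.choose_eq_zero_of_lt (by omega), Nat.cast_zero] at h2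
      exact h2 rfl
    have h5 : m / p ≤ b / p := by
      by_contra hc
      rw [Nat.choose_eq_zero_of_lt (by omega), Nat.cast_zero] at h3
      exact h3 rfl
    have h6 := pow_mem_Sp p (ih (b / p) (Nat.div_lt_self hb0 hp.one_lt) (m / p) ⟨h5, h3⟩)
    have h7 := mono_mem_Sa hx hy (m % p) (b % p - m % p)
    rw [show m % p + (b % p - m % p) = b % p by omega, Sa_eq p hbr] at h7
    have h8 := mul_mem_Sp p hbr h6 h7
    rw [hbd] at h8
    convert h8 using 1
    have h9 : p * (m / p) ≤ p * (b / p) := Nat.mul_le_mul_left p h5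
    have h10 : b - m = p * (b / p - m / p) + (b % p - m % p) := by
      rw [Nat.mul_sub]
      omega
    rw [h10, mul_pow, ← pow_mul, ← pow_mul, mul_comm _ p, mul_comm _ p, pow_add]
    have h11 : x ^ m = x ^ (p * (m / p)) * x ^ (m % p) := by
      rw [← pow_add, hmd]
    rw [h11]
    ring

end Span

variable {k : Type*} [Field k] {F : Type*} [Field F] [Fintype F] [DecidableEq F] (ι : F →+* k)

theorem fRep_lin {g : _root_.Matrix.SpecialLinearGroup (Fin 2) F} {v : Fin 2 → k} {ζ : k} (h : (g.1.map ι).mulVec v = ζ • v) :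
    fRep k F g (lin ι v) = ζ • lin ι v := by
  have h0 : ι (g.1 0 0) * v 0 + ι (g.1 0 1) * v 1 = ζ * v 0 := by
    have := congrFun h 0
    simpa only [Matrix.mulVec, dotProduct, Fin.sum_univ_two, _root_.Fin.isValue, _root_.Matrix.map_apply, _root_.Pi.smul_apply, _root_.smul_eq_mul] using this
  have h1 : ι (g.1 1 0) * v 0 + ι (g.1 1 1) * v 1 = ζ * v 1 := by
    have := congrFun h 1
    simpa only [Matrix.mulVec, dotProduct, Fin.sum_univ_two, _root_.Fin.isValue, _root_.Matrix.map_apply, _root_.Pi.smul_apply, _root_.smul_eq_mul] using this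
  funext z
  show ι (z.1 * g.1 0 0 + z.2 * g.1 1 0) * v 0 + ι (z.1 * g.1 0 1 + z.2 * g.1 1 1) * v 1 =
    ζ * (ι z.1 * v 0 + ι z.2 * v 1)
  rw [map_add, map_add, map_mul, map_mul, map_mul, map_mul]
  linear_combination ι z.1 * h0 + ι z.2 * h1

theorem fRep_mono {g : _root_.Matrix.SpecialLinearGroup (Fin 2) F} {l₁ l₂ : F × F → k} {ζ ξ : k} (h1 : fRep k F g l₁ = ζ • l₁)
    (h2 : fRep k F g l₂ = ξ • l₂) (i j : ℕ) :
    fRep k F g (fun z => l₁ z ^ i * l₂ z ^ j) = (ζ ^ i * ξ ^ j) • fun z => l₁ z ^ i * l₂ z ^ j := by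
  funext z
  have e1 := congrFun h1 z
  have e2 := congrFun h2 z
  have e1' : l₁ (z.1 * g.1 0 0 + z.2 * g.1 1 0, z.1 * g.1 0 1 + z.2 * g.1 1 1) = ζ * l₁ z := e1
  have e2' : l₂ (z.1 * g.1 0 0 + z.2 * g.1 1 0, z.1 * g.1 0 1 + z.2 * g.1 1 1) = ξ * l₂ z := e2
  show l₁ (z.1 * g.1 0 0 + z.2 * g.1 1 0, z.1 * g.1 0 1 + z.2 * g.1 1 1) ^ i *
    l₂ (z.1 * g.1 0 0 + z.2 * g.1 1 0, z.1 * g.1 0 1 + z.2 * g.1 1 1) ^ j = (ζ ^ i * ξ ^ j) * (l₁ z ^ i * l₂ z ^ j)
  rw [e1', e2']
  ring

variable [DecidableEq k] (p : ℕ) [Fact p.Prime] [CharP k p] [CharP F p]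

include p in
theorem Vb_le_Sp {v₁ v₂ : Fin 2 → k} (hD : v₁ 0 * v₂ 1 - v₁ 1 * v₂ 0 ≠ 0) (b : ℕ) :
    Vb ι b ≤ Sp (lin ι v₁) (lin ι v₂) b := by
  refine (Vb_le ι b).trans (Submodule.span_le.2 ?_)
  rintro _ ⟨m, hm, rfl⟩
  refine mon_mem_Sp p (l₁ := lin ι v₁) (l₂ := lin ι v₂) (x := fun z => ι z.1) (y := fun z => ι z.2)
    (a₁ := v₂ 1 / (v₁ 0 * v₂ 1 - v₁ 1 * v₂ 0)) (a₂ := -v₁ 1 / (v₁ 0 * v₂ 1 - v₁ 1 * v₂ 0))
    (c₁ := -v₂ 0 / (v₁ 0 * v₂ 1 - v₁ 1 * v₂ 0)) (c₂ := v₁ 0 / (v₁ 0 * v₂ 1 - v₁ 1 * v₂ 0)) ?_ ?_ b m hm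
  · funext z
    show ι z.1 = v₂ 1 / (v₁ 0 * v₂ 1 - v₁ 1 * v₂ 0) * (ι z.1 * v₁ 0 + ι z.2 * v₁ 1) +
      -v₁ 1 / (v₁ 0 * v₂ 1 - v₁ 1 * v₂ 0) * (ι z.1 * v₂ 0 + ι z.2 * v₂ 1)
    rw [div_mul_eq_mul_div, div_mul_eq_mul_div, ← add_div, eq_div_iff hD]
    ring
  · funext z
    show ι z.2 = -v₂ 0 / (v₁ 0 * v₂ 1 - v₁ 1 * v₂ 0) * (ι z.1 * v₁ 0 + ι z.2 * v₁ 1) +
      v₁ 0 / (v₁ 0 * v₂ 1 - v₁ 1 * v₂ 0) * (ι z.1 * v₂ 0 + ι z.2 * v₂ 1)
    rw [div_mul_eq_mul_div, div_mul_eq_mul_div, ← add_div, eq_div_iff hD]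
    ring

/-- **the multiplicities of the eigenvalues of a semisimple element on `V_b`** -/
theorem finrank_eig_ss {b : ℕ} (hb : b ≤ Fintype.card F - 1) {g : _root_.Matrix.SpecialLinearGroup (Fin 2) F} {ζ : k}
    (hg : IsSS ι g ζ) (ν : k) :
    Module.finrank k (eig (RB ι p hb) g ν) = ((Bf k b).filter fun m => ζ ^ m * ζ⁻¹ ^ (b - m) = ν).card := by
  obtain ⟨v₁, v₂, h1, h2, hD⟩ := hg
  have hfr := Cfsg.Agent.H179.SLC.finrank_Vb ι p ι.injective (neg_one_pow_Q ι) hb
  let w : Bf k b → F × F → k := fun m z => lin ι v₁ z ^ (m : ℕ) * lin ι v₂ z ^ (b - m)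
  let f : (Bf k b → k) →ₗ[k] (F × F → k) := Fintype.linearCombination k w
  have hf : ∀ x, f x = ∑ m : Bf k b, x m • w m := fun x => rfl
  have hle : Vb ι b ≤ LinearMap.range f := by
    refine (Vb_le_Sp ι p hD b).trans (Submodule.span_le.2 ?_)
    rintro _ ⟨m, hm, rfl⟩
    refine ⟨Pi.single ⟨m, mem_Bf.2 hm⟩ 1, ?_⟩
    rw [hf, Finset.sum_eq_single (⟨m, mem_Bf.2 hm⟩ : Bf k b)]
    · rw [Pi.single_eq_same, one_smul]
    · intro m' _ hne
      rw [Pi.single_eq_of_ne hne, zero_smul]
    · intro h0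
      exact absurd (Finset.mem_univ _) h0
  have hrk : Module.finrank k (LinearMap.range f) ≤ Module.finrank k (Vb ι b) := by
    rw [hfr]
    refine (LinearMap.finrank_range_le f).trans ?_
    rw [Module.finrank_fintype_fun_eq_card, Fintype.card_coe]
  have heq : Vb ι b = LinearMap.range f := Submodule.eq_of_le_of_finrank_le hle hrk
  have hinj : Function.Injective f := by
    rw [← LinearMap.ker_eq_bot, ← Submodule.finrank_eq_zero]
    have h3 := LinearMap.finrank_range_add_finrank_ker f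
    rw [← heq, hfr, Module.finrank_fintype_fun_eq_card, Fintype.card_coe] at h3
    omega
  let e : (Bf k b → k) ≃ₗ[k] Vb ι b := (LinearEquiv.ofInjective f hinj).trans (LinearEquiv.ofEq _ _ heq.symm)
  have he : ∀ x, ((e x : Vb ι b) : F × F → k) = ∑ m : Bf k b, x m • w m := fun x => rfl
  have h3 := finrank_diag e (RB ι p hb g) (fun m => ζ ^ (m : ℕ) * ζ⁻¹ ^ (b - m)) (by
    intro x
    apply Subtype.ext
    rw [he]
    show fRep k F g ((e x : Vb ι b) : F × F → k) = _
    rw [he, map_sum]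
    refine Finset.sum_congr rfl fun m _ => ?_
    rw [map_smul]
    show x m • fRep k F g (fun z => lin ι v₁ z ^ (m : ℕ) * lin ι v₂ z ^ (b - m)) = _
    rw [fRep_mono (fRep_lin ι h1) (fRep_lin ι h2), smul_smul, mul_comm (x m)]) ν
  unfold eig
  rw [h3, Fintype.card_subtype]
  rw [← Finset.card_map (Function.Embedding.subtype fun m => m ∈ Bf k b)]
  congr 1
  ext m
  simp only [Finset.mem_map, Finset.mem_filter, Finset.mem_univ, true_and, Function.Embedding.coe_subtype]
  constructor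
  · rintro ⟨m', h2, rfl⟩
    exact ⟨m'.2, h2⟩
  · rintro ⟨h2, h3⟩
    exact ⟨⟨m, h2⟩, h3, rfl⟩

end Cfsg.Agent.R2.H28.SL2
end

-- part: R2/H28/SL2/Mult
section
/-!
# Composition multiplicities for `SL(2, q)` in the defining characteristic (helper28)

`exists_isMult` : every finite-dimensional module over an algebraically closed field has a multiplicity function `n`:
dimension, multiplicities of the eigenvalues of all semisimple elements, `Z¹`; `IsMult.pressure` :
`n 0 ≤ dim V ^ S + ∑ n b * hb p a b`. General version of `H179/SLC/Mult.lean` (helper179, `q = 64`).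
-/

set_option autoImplicit false
set_option linter.unusedSectionVars false

namespace Cfsg.Agent.R2.H28.SL2

open Matrix Cfsg.Agent.H943.SL2Rel Cfsg.Agent.H943.SL2Mod Cfsg.Agent.H943.RepAdd
open Cfsg.Agent.H179.SLC (IsSS Z1 fx finrank_Z1_le finrank_Z1_iso finrank_le mem_fx)

variable {k : Type*} [Field k] [DecidableEq k] {F : Type*} [Field F] [Fintype F] [DecidableEq F] (ι : F →+* k)
variable (p : ℕ) [Fact p.Prime] [CharP k p] [CharP F p]

/-- the multiplicity of the eigenvalue `ν` of a semisimple element with the eigenvalue `ζ` on `V_b` -/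
def mf (b : ℕ) (ζ ν : k) : ℕ := ((Bf k b).filter fun m => ζ ^ m * ζ⁻¹ ^ (b - m) = ν).card

/-- `n` is a multiplicity function of the module -/
structure IsMult (a : ℕ) {V : Type*} [AddCommGroup V] [Module k V]
    (ρ : Representation k (_root_.Matrix.SpecialLinearGroup (Fin 2) F) V) (n : ℕ → ℕ) : Prop where
  dim : Module.finrank k V = ∑ b ∈ Finset.range (p ^ a), n b * (Bf k b).card
  eigen : ∀ (g : _root_.Matrix.SpecialLinearGroup (Fin 2) F) (ζ : k) (N : ℕ), IsSS ι g ζ → ζ ^ N = 1 → (N : k) ≠ 0 → ∀ ν : k, ν ^ N = 1 →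
    Module.finrank k (eig ρ g ν) = ∑ b ∈ Finset.range (p ^ a), n b * mf b ζ ν
  z1 : Module.finrank k (Z1 ρ) + n 0 ≤ ∑ b ∈ Finset.range (p ^ a), n b * ((Bf k b).card + hb p a b)
  supp : ∀ b, n b ≠ 0 → b < p ^ a

variable {a : ℕ}

theorem IsMult.of_iso {V V₂ : Type*} [AddCommGroup V] [Module k V] [AddCommGroup V₂] [Module k V₂]
    {ρ : Representation k (_root_.Matrix.SpecialLinearGroup (Fin 2) F) V} {ρ₂ : Representation k (_root_.Matrix.SpecialLinearGroup (Fin 2) F) V₂}
    {n : ℕ → ℕ} (h : IsMult ι p a ρ n) (φ : V ≃ₗ[k] V₂) (hφ : ∀ g x, φ (ρ g x) = ρ₂ g (φ x)) : IsMult ι p a ρ₂ n where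
  dim := by rw [← φ.finrank_eq, h.dim]
  eigen := fun g ζ N hg h1 h2 ν hν => by rw [← finrank_eig_iso ρ ρ₂ φ hφ, h.eigen g ζ N hg h1 h2 ν hν]
  z1 := by rw [← finrank_Z1_iso ρ ρ₂ φ hφ]; exact h.z1
  supp := h.supp

theorem pow_eq_one_of_isSS {g : _root_.Matrix.SpecialLinearGroup (Fin 2) F} {ζ : k} (hg : IsSS ι g ζ)
    {N : ℕ} (h : ζ ^ N = 1) : g ^ N = 1 := by
  have h1 := hg.pow ι N
  rw [h] at h1
  exact h1.eq_one ι ι.injective

/-- additivity -/
theorem IsMult.add {V : Type*} [AddCommGroup V] [Module k V] [FiniteDimensional k V]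
    {ρ : Representation k (_root_.Matrix.SpecialLinearGroup (Fin 2) F) V} {W : Submodule k V} {hW : ∀ g, ∀ x ∈ W, ρ g x ∈ W}
    {n₁ n₂ : ℕ → ℕ} (h1 : IsMult ι p a (subRep ρ W hW) n₁) (h2 : IsMult ι p a (quotRep ρ W hW) n₂) :
    IsMult ι p a ρ (n₁ + n₂) where
  dim := by
    rw [← Submodule.finrank_quotient_add_finrank W, h1.dim, h2.dim, ← Finset.sum_add_distrib]
    refine Finset.sum_congr rfl fun b _ => ?_
    rw [Pi.add_apply]
    ring
  eigen := fun g ζ N hg hζ hN ν hν => by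
    have hν0 : ν ≠ 0 := by
      rintro rfl
      by_cases hN0 : N = 0
      · exact hN (by rw [hN0, Nat.cast_zero])
      · rw [zero_pow hN0] at hν
        exact zero_ne_one hν
    rw [finrank_eig ρ W hW (g := g) (n := N) (by rw [← map_pow, pow_eq_one_of_isSS ι hg hζ, map_one]) hN hν hν0,
      h1.eigen g ζ N hg hζ hN ν hν, h2.eigen g ζ N hg hζ hN ν hν, ← Finset.sum_add_distrib]
    refine Finset.sum_congr rfl fun b _ => ?_
    rw [Pi.add_apply]
    ring
  z1 := by
    have e1 := finrank_Z1_le ρ W hW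
    have e2 := h1.z1
    have e3 := h2.z1
    have e4 : ∑ b ∈ Finset.range (p ^ a), (n₁ + n₂) b * ((Bf k b).card + hb p a b) =
        ∑ b ∈ Finset.range (p ^ a), n₁ b * ((Bf k b).card + hb p a b) +
        ∑ b ∈ Finset.range (p ^ a), n₂ b * ((Bf k b).card + hb p a b) := by
      rw [← Finset.sum_add_distrib]
      refine Finset.sum_congr rfl fun b _ => ?_
      rw [Pi.add_apply]
      ring
    rw [e4, Pi.add_apply]
    omega
  supp := fun b hb => by
    by_contra hc
    have e1 : n₁ b = 0 := by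
      by_contra h
      exact hc (h1.supp b h)
    have e2 : n₂ b = 0 := by
      by_contra h
      exact hc (h2.supp b h)
    exact hb (by rw [Pi.add_apply, e1, e2])

theorem sum_single {q b : ℕ} (hb : b < q) (f : ℕ → ℕ) :
    ∑ c ∈ Finset.range q, (Pi.single b 1 : ℕ → ℕ) c * f c = f b := by
  rw [Finset.sum_eq_single b]
  · rw [Pi.single_eq_same, one_mul]
  · intro c _ hc
    rw [Pi.single_eq_of_ne hc, zero_mul]
  · intro h
    exact absurd (Finset.mem_range.2 hb) h

theorem rb_zero {b : ℕ} (hb0 : b = 0) (hb : b ≤ Fintype.card F - 1) (g : _root_.Matrix.SpecialLinearGroup (Fin 2) F) (x : Vb ι b) :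
    RB ι p hb g x = x := by
  subst hb0
  apply Subtype.ext
  show fRep k F g (x : F × F → k) = x
  obtain ⟨c, hc⟩ := mem_span_mon ι (Vb_le ι 0 x.2)
  rw [hc, map_sum]
  refine Finset.sum_congr rfl fun m hm => ?_
  rw [map_smul]
  congr 1
  have hm0 : m = 0 := by
    rw [Finset.mem_range] at hm
    omega
  subst hm0
  funext z
  show ι _ ^ 0 * ι _ ^ (0 - 0) = ι _ ^ 0 * ι _ ^ (0 - 0)
  simp only [_root_.Fin.isValue, _root_.map_add, _root_.map_mul, _root_.pow_zero, _root_.tsub_self, _root_.mul_one]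

theorem isMult_rb (hF : Fintype.card F = p ^ a) {b : ℕ} (hb' : b ≤ Fintype.card F - 1)
    {V : Type*} [AddCommGroup V] [Module k V] [FiniteDimensional k V]
    (ρ : Representation k (_root_.Matrix.SpecialLinearGroup (Fin 2) F) V) (ψ : Vb ι b ≃ₗ[k] V)
    (hψ : ∀ g x, ψ (RB ι p hb' g x) = ρ g (ψ x)) :
    IsMult ι p a ρ (Pi.single b 1) := by
  have hq := one_lt (F := F)
  have hbq : b < p ^ a := by omega
  have hd : Module.finrank k V = (Bf k b).card := by
    rw [← ψ.finrank_eq, Cfsg.Agent.H179.SLC.finrank_Vb ι p ι.injective (neg_one_pow_Q ι) hb']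
  constructor
  · rw [sum_single hbq, hd]
  · intro g ζ N hg hζ hN ν hν
    rw [sum_single hbq, ← finrank_eig_iso (RB ι p hb') ρ ψ hψ, finrank_eig_ss ι p hb' hg]
    rfl
  · rw [sum_single hbq]
    have h1 := finrank_Z1_RB ι p hF hb' ρ ψ hψ
    rw [hd] at h1
    by_cases hb0 : b = 0
    · have h2 : fx ρ = ⊤ := by
        rw [eq_top_iff]
        intro x _
        rw [mem_fx]
        intro g
        obtain ⟨y, rfl⟩ := ψ.surjective x
        rw [← hψ, rb_zero ι p hb0]
      rw [h2, finrank_top, hd] at h1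
      have h3 : (Bf k b).card = 1 := by
        rw [hb0]
        have : Bf k 0 = {0} := by
          ext m
          rw [mem_Bf, Finset.mem_singleton]
          unfold Bb
          rw [Set.mem_ofPred_eq]
          constructor
          · intro h
            omega
          · rintro rfl
            exact ⟨le_rfl, by rw [Nat.choose_self, Nat.cast_one]; exact one_ne_zero⟩
        rw [this, Finset.card_singleton]
      have h4 : (Pi.single b 1 : ℕ → ℕ) 0 = 1 := by rw [hb0, Pi.single_eq_same]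
      rw [h4]
      omega
    · have h4 : (Pi.single b 1 : ℕ → ℕ) 0 = 0 := Pi.single_eq_of_ne (Ne.symm hb0) 1
      rw [h4]
      omega
  · intro c hc
    by_cases hcb : c = b
    · rw [hcb]
      exact hbq
    · exact absurd (Pi.single_eq_of_ne hcb 1) hc

theorem isMult_zero {V : Type*} [AddCommGroup V] [Module k V] [Subsingleton V]
    (ρ : Representation k (_root_.Matrix.SpecialLinearGroup (Fin 2) F) V) : IsMult ι p a ρ 0 where
  dim := by rw [Module.finrank_zero_of_subsingleton]; simp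
  eigen := fun g ζ N hg hζ hN ν hν => by rw [Module.finrank_zero_of_subsingleton]; simp
  z1 := by
    have : Subsingleton (Z1 ρ) := ⟨fun x y => Subtype.ext (funext fun g => Subsingleton.elim _ _)⟩
    rw [Module.finrank_zero_of_subsingleton]
    exact Nat.zero_le _
  supp := fun b hb => absurd rfl hb

/-- **the pressure inequality** -/
theorem IsMult.pressure {V : Type*} [AddCommGroup V] [Module k V] [FiniteDimensional k V]
    {ρ : Representation k (_root_.Matrix.SpecialLinearGroup (Fin 2) F) V} {n : ℕ → ℕ} (h : IsMult ι p a ρ n) :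
    n 0 ≤ Module.finrank k (fx ρ) + ∑ b ∈ Finset.range (p ^ a), n b * hb p a b := by
  have h1 := finrank_le ρ
  have h2 := h.z1
  rw [h.dim] at h1
  have h3 : ∑ b ∈ Finset.range (p ^ a), n b * ((Bf k b).card + hb p a b) =
      ∑ b ∈ Finset.range (p ^ a), n b * (Bf k b).card + ∑ b ∈ Finset.range (p ^ a), n b * hb p a b := by
    rw [← Finset.sum_add_distrib]
    exact Finset.sum_congr rfl fun b _ => Nat.mul_add _ _ _
  omega

/-- the centre -/
theorem IsMult.even {V : Type*} [AddCommGroup V] [Module k V] [FiniteDimensional k V]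
    {ρ : Representation k (_root_.Matrix.SpecialLinearGroup (Fin 2) F) V} {n : ℕ → ℕ} (H : IsMult ι p a ρ n) (hp2 : p ≠ 2)
    (hc : ρ (h (-1)) = 1) : ∀ b, n b ≠ 0 → Even b := by
  intro b hb
  by_contra hcon
  rw [Nat.not_even_iff_odd] at hcon
  have h2 : (2 : k) ≠ 0 := by
    intro h0
    have h1 : ((2 : ℕ) : k) = 0 := by exact_mod_cast h0
    rw [CharP.cast_eq_zero_iff k p] at h1
    exact hp2 ((Nat.prime_dvd_prime_iff_eq Fact.out Nat.prime_two).1 h1)
  have hss : IsSS ι (h (-1)) (-1 : k) := by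
    have := Cfsg.Agent.H179.SLC.isSS_h ι (-1 : Fˣ)
    rwa [Units.val_neg, Units.val_one, map_neg, map_one] at this
  have h3 := H.eigen (Cfsg.Agent.H943.SL2Rel.h (-1)) (-1) 2 hss (by ring) (by exact_mod_cast h2) (-1) (by ring)
  have h4 : Module.finrank k (eig ρ (Cfsg.Agent.H943.SL2Rel.h (-1)) (-1 : k)) = 0 := by
    rw [Submodule.finrank_eq_zero, eq_bot_iff]
    intro x hx
    rw [mem_eig, hc, Module.End.one_apply, neg_one_smul] at hx
    have h5 : (2 : k) • x = 0 := by
      rw [two_smul]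
      nth_rw 2 [hx]
      exact add_neg_cancel x
    exact (Submodule.mem_bot k).2 ((smul_eq_zero.1 h5).resolve_left h2)
  rw [h4] at h3
  have h5 := (Finset.sum_eq_zero_iff.1 h3.symm) b (Finset.mem_range.2 (H.supp b hb))
  have h6 : mf b (-1 : k) (-1) ≠ 0 := by
    unfold mf
    rw [Ne, Finset.card_eq_zero, ← Ne, ← Finset.nonempty_iff_ne_empty]
    refine ⟨b, Finset.mem_filter.2 ⟨mem_Bf.2 ⟨le_rfl, by rw [Nat.choose_self, Nat.cast_one]; exact one_ne_zero⟩, ?_⟩⟩
    rw [Nat.sub_self, pow_zero, mul_one, hcon.neg_one_pow]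
  exact (mul_ne_zero hb h6) h5

variable [IsAlgClosed k]

universe v

theorem irr_of_min {V : Type v} [AddCommGroup V] [Module k V] (ρ : Representation k (_root_.Matrix.SpecialLinearGroup (Fin 2) F) V)
    {W : Submodule k V} (hW : ∀ g, ∀ x ∈ W, ρ g x ∈ W) (hW0 : W ≠ ⊥)
    (hmin : ∀ W' ≤ W, (∀ g, ∀ x ∈ W', ρ g x ∈ W') → W' = ⊥ ∨ W' = W) : Irr (subRep ρ W hW) := by
  refine ⟨Submodule.nontrivial_iff_ne_bot.2 hW0, fun W' hW' => ?_⟩
  rcases hmin (W'.map W.subtype) (Submodule.map_subtype_le _ _) (by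
    rintro g _ ⟨x, hx, rfl⟩
    exact ⟨_, hW' g x hx, rfl⟩) with h1 | h1
  · left
    rw [eq_bot_iff]
    intro x hx
    have h2 : (x : V) ∈ W'.map W.subtype := ⟨x, hx, rfl⟩
    rw [h1] at h2
    exact (Submodule.mem_bot k).2 (Subtype.ext ((Submodule.mem_bot k).1 h2))
  · right
    rw [eq_top_iff]
    intro x _
    have h2 : (x : V) ∈ W'.map W.subtype := by rw [h1]; exact x.2
    obtain ⟨y, hy, e⟩ := h2
    rwa [← Subtype.ext (p := fun z => z ∈ W) e]

/-- **every module has a multiplicity function** -/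
theorem exists_isMult (hF : Fintype.card F = p ^ a) {V : Type v} [AddCommGroup V] [Module k V]
    [FiniteDimensional k V] (ρ : Representation k (_root_.Matrix.SpecialLinearGroup (Fin 2) F) V) :
    ∃ n : ℕ → ℕ, IsMult ι p a ρ n := by
  have key : ∀ (d : ℕ) (V : Type v) [AddCommGroup V] [Module k V] [FiniteDimensional k V]
      (ρ : Representation k (_root_.Matrix.SpecialLinearGroup (Fin 2) F) V) (_ : Module.finrank k V = d),
      ∃ n : ℕ → ℕ, IsMult ι p a ρ n := by
    intro d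
    induction d using Nat.strong_induction_on with
    | _ d ih =>
      intro V _ _ _ ρ hd
      rcases subsingleton_or_nontrivial V with hV | hV
      · exact ⟨0, isMult_zero ι p ρ⟩
      · obtain ⟨W, hW, hW0, hmin⟩ := exists_irr_sub ρ
        have hIW : Irr (subRep ρ W hW) := irr_of_min ρ hW hW0 hmin
        have hpos : 0 < Module.finrank k W := by
          have := hIW.1
          exact Module.finrank_pos
        have hadd := Submodule.finrank_quotient_add_finrank W
        obtain ⟨n₂, h2⟩ := ih (Module.finrank k (V ⧸ W)) (by omega) (V ⧸ W) (quotRep ρ W hW) rfl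
        obtain ⟨b, hb, φ, hφ⟩ := Cfsg.Agent.H179.SLC.irr_iso ι p (subRep ρ W hW) ι.injective (neg_one_pow_Q ι) hIW
        exact ⟨_, (isMult_rb ι p hF hb (subRep ρ W hW) φ hφ).add ι p h2⟩
  exact key _ V ρ rfl

end Cfsg.Agent.R2.H28.SL2
end

private theorem dce_66310a430e2a : _root_.True := by
  try have : _root_.True := by simp only [_root_.Cfsg.Agent.R2.H28.SL2.mf.congr_simp]
  exact _root_.True.intro
end

-- part: R2/H28/SL2/CF
section
prune_inst 0x120404030e2000000180016a2000024080000020043080022e00f060a418862e941a6410e700014029290c06800006001000010007000000400800000030000140356069318ad0c160000000000000000000000000000000000000000000000000000000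
set_option linter.all false
open scoped Cfsg.Agent.FastGrp

-- part: R2/H28/SL2/JH
section
/-!
# Composition factors (helper28)

`Sys k G I` : a labelling of the irreducible representations of `G` over `k` by `I`; `cf S ρ : Multiset I` : the multiset
of the composition factors of a finite-dimensional representation (Jordan-Hoelder); `cf_add`, `cf_iso`, `cf_irr`.
-/

set_option autoImplicit false
set_option linter.unusedSectionVars false

namespace Cfsg.Agent.R2.H28.SL2

open Cfsg.Agent.H943.RepAdd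

universe u v w

/-- irreducible -/
def Irrd {k : Type u} [Field k] {G : Type w} [Group G] {V : Type v} [AddCommGroup V] [Module k V]
    (ρ : Representation k G V) : Prop :=
  Nontrivial V ∧ ∀ W : Submodule k V, (∀ g, ∀ x ∈ W, ρ g x ∈ W) → W = ⊥ ∨ W = ⊤

/-- a labelling of the irreducible representations -/
structure Sys (k : Type u) [Field k] (G : Type w) [Group G] (I : Type*) where
  /-- the predicate -/
  P : ∀ {V : Type v} [AddCommGroup V] [Module k V], Representation k G V → I → Prop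
  iso : ∀ {V V' : Type v} [AddCommGroup V] [Module k V] [AddCommGroup V'] [Module k V'] (ρ : Representation k G V)
    (ρ' : Representation k G V') (i : I) (e : V ≃ₗ[k] V'), (∀ g x, e (ρ g x) = ρ' g (e x)) → P ρ i → P ρ' i
  irr : ∀ {V : Type v} [AddCommGroup V] [Module k V] (ρ : Representation k G V) (i : I), P ρ i → Irrd ρ
  uniq : ∀ {V : Type v} [AddCommGroup V] [Module k V] (ρ : Representation k G V) (i j : I), P ρ i → P ρ j → i = j
  ex : ∀ {V : Type v} [AddCommGroup V] [Module k V] [FiniteDimensional k V] (ρ : Representation k G V), Irrd ρ → ∃ i, P ρ i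

section Iso

variable {k : Type u} [Field k] {G : Type w} [Group G]

/-- the first isomorphism theorem -/
theorem quot_iso {A : Type*} [AddCommGroup A] [Module k A] {B : Type*} [AddCommGroup B] [Module k B]
    (ρ : Representation k G A) (σ : Representation k G B) (f : A →ₗ[k] B) (hf : ∀ g x, f (ρ g x) = σ g (f x))
    (hs : Function.Surjective f) (K : Submodule k A) (hK : ∀ g, ∀ x ∈ K, ρ g x ∈ K) (hker : ∀ x, f x = 0 ↔ x ∈ K) :
    ∃ e : (A ⧸ K) ≃ₗ[k] B, (∀ g x, e (quotRep ρ K hK g x) = σ g (e x)) ∧ ∀ x, e (K.mkQ x) = f x := by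
  have hK' : K = LinearMap.ker f := by
    ext x
    rw [LinearMap.mem_ker, hker]
  let e : (A ⧸ K) ≃ₗ[k] B := (Submodule.quotEquivOfEq _ _ hK').trans (f.quotKerEquivOfSurjective hs)
  have he : ∀ x, e (K.mkQ x) = f x := fun x => rfl
  refine ⟨e, fun g x => ?_, he⟩
  obtain ⟨y, rfl⟩ := K.mkQ_surjective x
  rw [quotRep_mk, he, he, hf]

/-- equivalence of representations -/
def Eqv {A : Type*} [AddCommGroup A] [Module k A] {B : Type*} [AddCommGroup B] [Module k B]
    (ρ : Representation k G A) (σ : Representation k G B) : Prop := ∃ e : A ≃ₗ[k] B, ∀ g x, e (ρ g x) = σ g (e x)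

theorem Eqv.symm {A : Type*} [AddCommGroup A] [Module k A] {B : Type*} [AddCommGroup B] [Module k B]
    {ρ : Representation k G A} {σ : Representation k G B} (h : Eqv ρ σ) : Eqv σ ρ := by
  obtain ⟨e, he⟩ := h
  refine ⟨e.symm, fun g x => e.injective ?_⟩
  rw [LinearEquiv.apply_symm_apply, he, LinearEquiv.apply_symm_apply]

theorem Eqv.trans {A : Type*} [AddCommGroup A] [Module k A] {B : Type*} [AddCommGroup B] [Module k B]
    {C : Type*} [AddCommGroup C] [Module k C]
    {ρ : Representation k G A} {σ : Representation k G B} {τ : Representation k G C} (h : Eqv ρ σ) (h' : Eqv σ τ) :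
    Eqv ρ τ := by
  obtain ⟨e, he⟩ := h
  obtain ⟨e', he'⟩ := h'
  exact ⟨e.trans e', fun g x => by rw [LinearEquiv.trans_apply, he, he']; rfl⟩

theorem Eqv.refl {A : Type*} [AddCommGroup A] [Module k A] (ρ : Representation k G A) : Eqv ρ ρ :=
  ⟨LinearEquiv.refl k A, fun _ _ => rfl⟩

/-- injective images -/
theorem eqv_map {A : Type*} [AddCommGroup A] [Module k A] {B : Type*} [AddCommGroup B] [Module k B]
    (ρ : Representation k G A) (σ : Representation k G B) (f : A →ₗ[k] B) (hf : ∀ g x, f (ρ g x) = σ g (f x))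
    (hi : Function.Injective f) (W : Submodule k A) (hW : ∀ g, ∀ x ∈ W, ρ g x ∈ W) :
    ∃ hW' : ∀ g, ∀ x ∈ W.map f, σ g x ∈ W.map f, Eqv (subRep ρ W hW) (subRep σ (W.map f) hW') := by
  refine ⟨?_, Submodule.equivMapOfInjective f hi W, fun g x => Subtype.ext ?_⟩
  · rintro g _ ⟨x, hx, rfl⟩
    exact ⟨_, hW g x hx, hf g x⟩
  · show f (ρ g x) = σ g (f x)
    rw [hf]

theorem eqv_quot {A : Type*} [AddCommGroup A] [Module k A] {B : Type*} [AddCommGroup B] [Module k B]
    (ρ : Representation k G A) (σ : Representation k G B) (e : A ≃ₗ[k] B) (he : ∀ g x, e (ρ g x) = σ g (e x))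
    (W : Submodule k A) (hW : ∀ g, ∀ x ∈ W, ρ g x ∈ W) (hW' : ∀ g, ∀ x ∈ W.map (e : A →ₗ[k] B), σ g x ∈ W.map (e : A →ₗ[k] B)) :
    Eqv (quotRep ρ W hW) (quotRep σ (W.map (e : A →ₗ[k] B)) hW') := by
  obtain ⟨e', he', -⟩ := quot_iso ρ (quotRep σ (W.map (e : A →ₗ[k] B)) hW')
    ((W.map (e : A →ₗ[k] B)).mkQ ∘ₗ (e : A →ₗ[k] B)) (fun g x => by
      rw [LinearMap.comp_apply, LinearMap.comp_apply, quotRep_mk]
      exact congrArg _ (he g x)) ((W.map (e : A →ₗ[k] B)).mkQ_surjective.comp e.surjective) W hW (fun x => by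
        rw [LinearMap.comp_apply, Submodule.mkQ_apply, Submodule.Quotient.mk_eq_zero]
        constructor
        · rintro ⟨y, hy, h⟩
          rwa [← e.injective h]
        · intro h
          exact ⟨x, h, rfl⟩)
  exact ⟨e', he'⟩

end Iso

variable {k : Type u} [Field k] {G : Type w} [Group G] {I : Type*} (S : Sys.{u, v, w} k G I)

/-- `ρ` has a composition series of length `n` with the factors `s` -/
def JHn : ℕ → ∀ {V : Type v} [AddCommGroup V] [Module k V], Representation k G V → Multiset I → Prop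
  | 0, V, _, _, _, s => Subsingleton V ∧ s = 0
  | n + 1, V, _, _, ρ, s => ∃ (W : Submodule k V) (hW : ∀ g, ∀ x ∈ W, ρ g x ∈ W) (b : I) (t : Multiset I),
      S.P (subRep ρ W hW) b ∧ s = b ::ₘ t ∧ JHn n (quotRep ρ W hW) t

theorem JHn_card {n : ℕ} : ∀ {V : Type v} [AddCommGroup V] [Module k V] {ρ : Representation k G V} {s : Multiset I},
    JHn S n ρ s → Multiset.card s = n := by
  induction n with
  | zero =>
    intro V _ _ ρ s h
    rw [h.2, Multiset.card_zero]
  | succ n ih =>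
    intro V _ _ ρ s h
    obtain ⟨W, hW, b, t, -, rfl, h3⟩ := h
    rw [Multiset.card_cons, ih h3]

theorem JHn_iso {n : ℕ} : ∀ {V V' : Type v} [AddCommGroup V] [Module k V] [AddCommGroup V'] [Module k V']
    {ρ : Representation k G V} {ρ' : Representation k G V'} {s : Multiset I},
    Eqv ρ ρ' → JHn S n ρ s → JHn S n ρ' s := by
  induction n with
  | zero =>
    intro V V' _ _ _ _ ρ ρ' s h h1
    obtain ⟨e, -⟩ := h
    exact ⟨e.toEquiv.symm.subsingleton_congr.2 h1.1, h1.2⟩
  | succ n ih =>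
    intro V V' _ _ _ _ ρ ρ' s h h1
    obtain ⟨e, he⟩ := h
    obtain ⟨W, hW, b, t, h2, rfl, h3⟩ := h1
    obtain ⟨hW', e2, he2⟩ := eqv_map ρ ρ' (e : V →ₗ[k] V') he e.injective W hW
    exact ⟨W.map (e : V →ₗ[k] V'), hW', b, t, S.iso _ _ b e2 he2 h2, rfl, ih (eqv_quot ρ ρ' e he W hW hW') h3⟩

/-- **extensions** -/
theorem JHn_ext {n₂ : ℕ} {s₂ : Multiset I} (n₁ : ℕ) : ∀ {V : Type v} [AddCommGroup V] [Module k V]
    {ρ : Representation k G V} (W : Submodule k V) (hW : ∀ g, ∀ x ∈ W, ρ g x ∈ W) {s₁ : Multiset I},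
    JHn S n₁ (subRep ρ W hW) s₁ → JHn S n₂ (quotRep ρ W hW) s₂ → JHn S (n₁ + n₂) ρ (s₁ + s₂) := by
  induction n₁ with
  | zero =>
    intro V _ _ ρ W hW s₁ h1 h2
    have hW0 : W = ⊥ := Submodule.subsingleton_iff_eq_bot.1 h1.1
    rw [h1.2, zero_add, zero_add]
    obtain ⟨e, he, -⟩ := quot_iso ρ ρ LinearMap.id (fun _ _ => rfl) Function.surjective_id W hW (fun x => by
      rw [hW0, Submodule.mem_bot]
      rfl)
    exact JHn_iso S ⟨e, he⟩ h2
  | succ n₁ ih =>
    intro V _ _ ρ W hW s₁ h1 h2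
    obtain ⟨W₀, hW₀, b, t, h3, rfl, h4⟩ := h1
    obtain ⟨X, hXdef⟩ : ∃ X : Submodule k V, X = W₀.map W.subtype := ⟨_, rfl⟩
    have hE := eqv_map (subRep ρ W hW) ρ W.subtype (fun g x => rfl) W.injective_subtype W₀ hW₀
    rw [← hXdef] at hE
    obtain ⟨hX, e1, he1⟩ := hE
    have hXW : X ≤ W := by
      rw [hXdef]
      exact Submodule.map_subtype_le _ _
    -- the image of `W`
    set W₁ : Submodule k (V ⧸ X) := W.map X.mkQ with hW₁def
    have hW₁ : ∀ g, ∀ x ∈ W₁, quotRep ρ X hX g x ∈ W₁ := by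
      rintro g _ ⟨x, hx, rfl⟩
      exact ⟨_, hW g x hx, rfl⟩
    have hXm : ∀ x : W, (x : V) ∈ X ↔ x ∈ W₀ := by
      intro x
      rw [hXdef]
      constructor
      · rintro ⟨y, hy, hxy⟩
        have : y = x := Subtype.ext hxy
        rwa [← this]
      · intro hx
        exact ⟨x, hx, rfl⟩
    obtain ⟨e2, he2, -⟩ := quot_iso (subRep ρ W hW) (subRep (quotRep ρ X hX) W₁ hW₁)
      (LinearMap.codRestrict W₁ (X.mkQ ∘ₗ W.subtype) fun x => ⟨x, x.2, rfl⟩) (fun g x => Subtype.ext rfl)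
      (by
        rintro ⟨_, x, hx, rfl⟩
        exact ⟨⟨x, hx⟩, rfl⟩) W₀ hW₀ (fun x => by
          rw [← hXm, ← Submodule.Quotient.mk_eq_zero X]
          constructor
          · intro h
            exact congrArg Subtype.val h
          · intro h
            exact Subtype.ext h)
    obtain ⟨e3, he3, -⟩ := quot_iso ρ (quotRep (quotRep ρ X hX) W₁ hW₁) (W₁.mkQ ∘ₗ X.mkQ) (fun g x => rfl)
      (W₁.mkQ_surjective.comp X.mkQ_surjective) W hW (fun x => by
        rw [LinearMap.comp_apply, Submodule.mkQ_apply, Submodule.Quotient.mk_eq_zero]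
        constructor
        · rintro ⟨y, hy, h⟩
          have h5 : y - x ∈ X := (Submodule.Quotient.eq X).1 h
          have h6 : x = y - (y - x) := by abel
          rw [h6]
          exact W.sub_mem hy (hXW h5)
        · intro h
          exact ⟨x, h, rfl⟩)
    have h5 := ih W₁ hW₁ (JHn_iso S ⟨e2, he2⟩ h4) (JHn_iso S ⟨e3, he3⟩ h2)
    have h6 : n₁ + 1 + n₂ = (n₁ + n₂) + 1 := by omega
    rw [h6, Multiset.cons_add]
    exact ⟨X, hX, b, _, S.iso _ _ b e1 he1 h3, rfl, h5⟩

/-- **existence** -/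
theorem exists_JHn {V : Type v} [AddCommGroup V] [Module k V] [FiniteDimensional k V] (ρ : Representation k G V) :
    ∃ n s, JHn S n ρ s := by
  have key : ∀ (d : ℕ) (V : Type v) [AddCommGroup V] [Module k V] [FiniteDimensional k V]
      (ρ : Representation k G V) (_ : Module.finrank k V = d), ∃ n s, JHn S n ρ s := by
    intro d
    induction d using Nat.strong_induction_on with
    | _ d ih =>
      intro V _ _ _ ρ hd
      rcases subsingleton_or_nontrivial V with hV | hV
      · exact ⟨0, 0, hV, rfl⟩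
      · obtain ⟨W, hW, hW0, hmin⟩ := exists_irr_sub ρ
        have hIW : Irrd (subRep ρ W hW) := by
          refine ⟨Submodule.nontrivial_iff_ne_bot.2 hW0, fun W' hW' => ?_⟩
          rcases hmin (W'.map W.subtype) (Submodule.map_subtype_le _ _) (by
            rintro g _ ⟨x, hx, rfl⟩
            exact ⟨_, hW' g x hx, rfl⟩) with h1 | h1
          · left
            rw [eq_bot_iff]
            intro x hx
            have h2 : (x : V) ∈ W'.map W.subtype := ⟨x, hx, rfl⟩
            rw [h1] at h2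
            exact (Submodule.mem_bot k).2 (Subtype.ext ((Submodule.mem_bot k).1 h2))
          · right
            rw [eq_top_iff]
            intro x _
            have h2 : (x : V) ∈ W'.map W.subtype := by rw [h1]; exact x.2
            obtain ⟨y, hy, e⟩ := h2
            rwa [← Subtype.ext (p := fun z => z ∈ W) e]
        have hpos : 0 < Module.finrank k W := by
          have := hIW.1
          exact Module.finrank_pos
        have hadd := Submodule.finrank_quotient_add_finrank W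
        obtain ⟨n, s, hs⟩ := ih (Module.finrank k (V ⧸ W)) (by omega) (V ⧸ W) (quotRep ρ W hW) rfl
        obtain ⟨b, hb⟩ := S.ex _ hIW
        exact ⟨n + 1, b ::ₘ s, W, hW, b, s, hb, rfl, hs⟩
  exact key _ V ρ rfl

/-- **uniqueness** -/
theorem JHn_uniq (n : ℕ) : ∀ (m : ℕ) {V : Type v} [AddCommGroup V] [Module k V] [FiniteDimensional k V]
    {ρ : Representation k G V} {s t : Multiset I}, JHn S n ρ s → JHn S m ρ t → s = t := by
  induction n with
  | zero =>
    intro m V _ _ _ ρ s t h1 h2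
    cases m with
    | zero => rw [h1.2, h2.2]
    | succ m =>
      obtain ⟨W, hW, b, t', h3, -, -⟩ := h2
      have := (S.irr _ _ h3).1
      have h4 := h1.1
      obtain ⟨x, y, hxy⟩ := this
      exact absurd (Subtype.ext (Subsingleton.elim _ _)) hxy
  | succ n ih =>
    intro m V _ _ _ ρ s t h1 h2
    obtain ⟨W, hW, b, s', hb, rfl, h1'⟩ := h1
    have hirrW := S.irr _ _ hb
    cases m with
    | zero =>
      obtain ⟨x, y, hxy⟩ := hirrW.1
      have h4 := h2.1
      exact absurd (Subtype.ext (Subsingleton.elim _ _)) hxy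
    | succ m =>
      obtain ⟨W', hW', b', t', hb', rfl, h2'⟩ := h2
      have hirrW' := S.irr _ _ hb'
      by_cases hWW : W = W'
      · subst hWW
        rw [S.uniq _ _ _ hb hb', ih m h1' h2']
      · -- distinct minimal submodules
        have hinf : W ⊓ W' = ⊥ := by
          have hinv : ∀ g, ∀ x ∈ W ⊓ W', ρ g x ∈ W ⊓ W' := fun g x hx => ⟨hW g x hx.1, hW' g x hx.2⟩
          have k1 := hirrW.2 ((W ⊓ W').comap W.subtype) (fun g x hx => hinv g x hx)
          rcases k1 with k1 | k1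
          · rw [eq_bot_iff]
            intro x hx
            have k2 : (⟨x, hx.1⟩ : W) ∈ (W ⊓ W').comap W.subtype := hx
            rw [k1, Submodule.mem_bot] at k2
            exact (Submodule.mem_bot k).2 (congrArg Subtype.val k2)
          · exfalso
            have hle : W ≤ W' := by
              intro x hx
              have k2 : (⟨x, hx⟩ : W) ∈ (W ⊓ W').comap W.subtype := by rw [k1]; trivial
              exact k2.2
            have k3 := hirrW'.2 (W.comap W'.subtype) (fun g x hx => hW g x hx)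
            rcases k3 with k3 | k3
            · obtain ⟨x, y, hxy⟩ := hirrW.1
              apply hxy
              have k4 : ∀ z : W, z = 0 := by
                intro z
                have k5 : (⟨z, hle z.2⟩ : W') ∈ W.comap W'.subtype := z.2
                rw [k3, Submodule.mem_bot] at k5
                have k6 : ((⟨z, hle z.2⟩ : W') : V) = ((0 : W') : V) := by rw [k5]
                exact Subtype.ext k6
              rw [k4 x, k4 y]
            · apply hWW
              refine le_antisymm hle fun x hx => ?_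
              have k4 : (⟨x, hx⟩ : W') ∈ W.comap W'.subtype := by rw [k3]; trivial
              exact k4
        -- a quotient by an irreducible submodule, then by the sum
        have key : ∀ (A B : Submodule k V) (hA : ∀ g, ∀ x ∈ A, ρ g x ∈ A) (hB : ∀ g, ∀ x ∈ B, ρ g x ∈ B)
            (c : I) (_ : S.P (subRep ρ B hB) c) (_ : A ⊓ B = ⊥)
            (hAB : ∀ g, ∀ x ∈ A ⊔ B, ρ g x ∈ A ⊔ B) (l : ℕ) (u : Multiset I)
            (_ : JHn S l (quotRep ρ (A ⊔ B) hAB) u), JHn S (l + 1) (quotRep ρ A hA) (c ::ₘ u) := by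
          intro A B hA hB c hc hAB0 hAB l u hu
          have hX : ∀ g, ∀ x ∈ B.map A.mkQ, quotRep ρ A hA g x ∈ B.map A.mkQ := by
            rintro g _ ⟨x, hx, rfl⟩
            exact ⟨_, hB g x hx, rfl⟩
          refine ⟨B.map A.mkQ, hX, c, u, ?_, rfl, ?_⟩
          · have hinj : Function.Injective (LinearMap.codRestrict (B.map A.mkQ) (A.mkQ ∘ₗ B.subtype)
                fun x => ⟨x, x.2, rfl⟩) := by
              rw [← LinearMap.ker_eq_bot, LinearMap.ker_eq_bot']
              intro x hx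
              have k1 : A.mkQ (x : V) = 0 := congrArg Subtype.val hx
              rw [Submodule.mkQ_apply, Submodule.Quotient.mk_eq_zero] at k1
              have k2 : (x : V) ∈ A ⊓ B := ⟨k1, x.2⟩
              rw [hAB0, Submodule.mem_bot] at k2
              exact Subtype.ext k2
            exact S.iso _ _ c (LinearEquiv.ofBijective _ ⟨hinj, by
              rintro ⟨_, x, hx, rfl⟩
              exact ⟨⟨x, hx⟩, rfl⟩⟩) (fun g x => Subtype.ext rfl) hc
          · obtain ⟨e, he, -⟩ := quot_iso ρ (quotRep (quotRep ρ A hA) (B.map A.mkQ) hX)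
              ((B.map A.mkQ).mkQ ∘ₗ A.mkQ) (fun g x => rfl) ((B.map A.mkQ).mkQ_surjective.comp A.mkQ_surjective)
              (A ⊔ B) hAB (fun x => by
                rw [LinearMap.comp_apply, Submodule.mkQ_apply, Submodule.Quotient.mk_eq_zero]
                constructor
                · rintro ⟨y, hy, h⟩
                  have h5 : y - x ∈ A := (Submodule.Quotient.eq A).1 h
                  have h6 : x = -(y - x) + y := by abel
                  rw [h6]
                  exact Submodule.add_mem_sup (A.neg_mem h5) hy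
                · intro h
                  obtain ⟨y, hy, z, hz, rfl⟩ := Submodule.mem_sup.1 h
                  refine ⟨z, hz, ?_⟩
                  rw [map_add, (Submodule.Quotient.mk_eq_zero A).2 hy |> fun h => (show A.mkQ y = 0 from h), zero_add])
            exact JHn_iso S ⟨e, he⟩ hu
        have hsup : ∀ g, ∀ x ∈ W ⊔ W', ρ g x ∈ W ⊔ W' := by
          intro g x hx
          obtain ⟨y, hy, z, hz, rfl⟩ := Submodule.mem_sup.1 hx
          rw [map_add]
          exact Submodule.add_mem_sup (hW g y hy) (hW' g z hz)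
        have hsup' : ∀ g, ∀ x ∈ W' ⊔ W, ρ g x ∈ W' ⊔ W := by
          rw [sup_comm]
          exact hsup
        obtain ⟨l, u, hu⟩ := exists_JHn S (quotRep ρ (W ⊔ W') hsup)
        have hu' : JHn S l (quotRep ρ (W' ⊔ W) hsup') u := by
          have : ∀ (X : Submodule k V) (hX : ∀ g, ∀ x ∈ X, ρ g x ∈ X), X = W ⊔ W' → JHn S l (quotRep ρ X hX) u := by
            rintro X hX rfl
            exact hu
          exact this _ _ (sup_comm _ _)
        have q1 := key W W' hW hW' b' hb' hinf hsup l u hu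
        have q2 := key W' W hW' hW b hb (by rw [inf_comm]; exact hinf) hsup' l u hu'
        have r1 : s' = b' ::ₘ u := ih _ h1' q1
        have hl : l + 1 = n := by
          rw [← JHn_card S h1', r1, ← JHn_card S q1]
        have q3 : JHn S n (quotRep ρ W' hW') (b ::ₘ u) := by
          rw [← hl]
          exact q2
        have r2 : b ::ₘ u = t' := ih _ q3 h2'
        rw [r1, ← r2, Multiset.cons_swap]

open Classical in
/-- **the multiset of the composition factors** -/
noncomputable def cf {V : Type v} [AddCommGroup V] [Module k V] (ρ : Representation k G V) : Multiset I :=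
  if h : ∃ n s, JHn S n ρ s then h.choose_spec.choose else 0

theorem cf_spec {V : Type v} [AddCommGroup V] [Module k V] [FiniteDimensional k V] (ρ : Representation k G V) :
    ∃ n, JHn S n ρ (cf S ρ) := by
  have h := exists_JHn S ρ
  unfold cf
  rw [dif_pos h]
  exact ⟨h.choose, h.choose_spec.choose_spec⟩

theorem cf_eq {V : Type v} [AddCommGroup V] [Module k V] [FiniteDimensional k V] {ρ : Representation k G V} {n : ℕ}
    {s : Multiset I} (h : JHn S n ρ s) : cf S ρ = s := by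
  obtain ⟨m, hm⟩ := cf_spec S ρ
  exact JHn_uniq S m n hm h

/-- **additivity** -/
theorem cf_add {V : Type v} [AddCommGroup V] [Module k V] [FiniteDimensional k V] (ρ : Representation k G V)
    (W : Submodule k V) (hW : ∀ g, ∀ x ∈ W, ρ g x ∈ W) : cf S ρ = cf S (subRep ρ W hW) + cf S (quotRep ρ W hW) := by
  obtain ⟨n, hn⟩ := cf_spec S (subRep ρ W hW)
  obtain ⟨m, hm⟩ := cf_spec S (quotRep ρ W hW)
  exact cf_eq S (JHn_ext S n W hW hn hm)

theorem cf_iso {V V' : Type v} [AddCommGroup V] [Module k V] [FiniteDimensional k V] [AddCommGroup V'] [Module k V']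
    [FiniteDimensional k V'] {ρ : Representation k G V} {ρ' : Representation k G V'} (h : Eqv ρ ρ') :
    cf S ρ = cf S ρ' := by
  obtain ⟨n, hn⟩ := cf_spec S ρ
  exact (cf_eq S (JHn_iso S h hn)).symm

theorem cf_zero {V : Type v} [AddCommGroup V] [Module k V] [Subsingleton V] (ρ : Representation k G V) :
    cf S ρ = 0 := by
  have : FiniteDimensional k V := inferInstance
  exact cf_eq S (n := 0) ⟨inferInstance, rfl⟩

theorem cf_eq_zero {V : Type v} [AddCommGroup V] [Module k V] [FiniteDimensional k V] {ρ : Representation k G V}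
    (h : cf S ρ = 0) : Subsingleton V := by
  obtain ⟨n, hn⟩ := cf_spec S ρ
  rw [h] at hn
  have h1 := JHn_card S hn
  rw [Multiset.card_zero] at h1
  subst h1
  exact hn.1

theorem cf_irr {V : Type v} [AddCommGroup V] [Module k V] [FiniteDimensional k V] {ρ : Representation k G V} {b : I}
    (h : S.P ρ b) : cf S ρ = {b} := by
  have htop : ∀ g, ∀ x ∈ (⊤ : Submodule k V), ρ g x ∈ (⊤ : Submodule k V) := fun _ _ _ => trivial
  refine cf_eq S (n := 1) ⟨⊤, htop, b, 0, S.iso ρ _ b Submodule.topEquiv.symm (fun g x => Subtype.ext rfl) h, rfl, ?_, rfl⟩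
  exact Submodule.Quotient.subsingleton_iff.2 rfl

theorem irr_of_cf {V : Type v} [AddCommGroup V] [Module k V] [FiniteDimensional k V] {ρ : Representation k G V} {b : I}
    (h : cf S ρ = {b}) : S.P ρ b := by
  obtain ⟨n, hn⟩ := cf_spec S ρ
  rw [h] at hn
  have h1 := JHn_card S hn
  rw [Multiset.card_singleton] at h1
  subst h1
  obtain ⟨W, hW, c, t, hc, hs, ht⟩ := hn
  have ht0 : t = 0 := ht.2
  rw [ht0] at hs
  have hbc : b = c := by
    have := congrArg (fun m => b ∈ m) hs
    simpa using this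
  have hWt : W = ⊤ := Submodule.Quotient.subsingleton_iff.1 ht.1
  subst hWt
  rw [hbc]
  exact S.iso _ ρ c Submodule.topEquiv (fun g x => rfl) hc

/-- composition factors of submodules and quotients -/
theorem cf_sub_le {V : Type v} [AddCommGroup V] [Module k V] [FiniteDimensional k V] (ρ : Representation k G V)
    (W : Submodule k V) (hW : ∀ g, ∀ x ∈ W, ρ g x ∈ W) : cf S (subRep ρ W hW) ≤ cf S ρ := by
  rw [cf_add S ρ W hW]
  exact Multiset.le_add_right _ _

theorem cf_quot_le {V : Type v} [AddCommGroup V] [Module k V] [FiniteDimensional k V] (ρ : Representation k G V)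
    (W : Submodule k V) (hW : ∀ g, ∀ x ∈ W, ρ g x ∈ W) : cf S (quotRep ρ W hW) ≤ cf S ρ := by
  rw [cf_add S ρ W hW]
  exact Multiset.le_add_left _ _

/-- exact sequences -/
theorem cf_exact {V V' : Type v} [AddCommGroup V] [Module k V] [FiniteDimensional k V] [AddCommGroup V'] [Module k V']
    [FiniteDimensional k V'] (ρ : Representation k G V) (ρ' : Representation k G V') (f : V →ₗ[k] V')
    (hf : ∀ g x, f (ρ g x) = ρ' g (f x)) :
    ∃ (hk : ∀ g, ∀ x ∈ LinearMap.ker f, ρ g x ∈ LinearMap.ker f) (hr : ∀ g, ∀ x ∈ LinearMap.range f, ρ' g x ∈ LinearMap.range f),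
      cf S ρ = cf S (subRep ρ _ hk) + cf S (subRep ρ' _ hr) ∧ Eqv (quotRep ρ _ hk) (subRep ρ' _ hr) := by
  have hk : ∀ g, ∀ x ∈ LinearMap.ker f, ρ g x ∈ LinearMap.ker f := by
    intro g x hx
    rw [LinearMap.mem_ker] at hx ⊢
    rw [hf, hx, map_zero]
  have hr : ∀ g, ∀ x ∈ LinearMap.range f, ρ' g x ∈ LinearMap.range f := by
    rintro g _ ⟨x, rfl⟩
    exact ⟨_, hf g x⟩
  obtain ⟨e, he, -⟩ := quot_iso ρ (subRep ρ' _ hr) f.rangeRestrict (fun g x => Subtype.ext (hf g x))
    f.surjective_rangeRestrict (LinearMap.ker f) hk (fun x => by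
      rw [LinearMap.mem_ker]
      constructor
      · intro h
        exact congrArg Subtype.val h
      · intro h
        exact Subtype.ext h)
  refine ⟨hk, hr, ?_, e, he⟩
  rw [cf_add S ρ _ hk, cf_iso S ⟨e, he⟩]

end Cfsg.Agent.R2.H28.SL2
end

-- part: R2/H28/SL2/CF
section
/-!
# The composition factors of the modules of `SL(2, q)` in the defining characteristic (helper28)

`IsV ρ b` : `ρ ≅ V_b`; `Sy` : the labelling; `isMult_cf` : `b ↦ count b (cf ρ)` is a multiplicity function.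
-/

set_option autoImplicit false
set_option linter.unusedSectionVars false

namespace Cfsg.Agent.R2.H28.SL2

open Matrix Cfsg.Agent.H943.SL2Rel Cfsg.Agent.H943.SL2Mod Cfsg.Agent.H943.RepAdd

universe u v w

variable {k : Type u} [Field k] [DecidableEq k] {F : Type w} [Field F] [Fintype F] [DecidableEq F] (ι : F →+* k)
variable (p : ℕ) [Fact p.Prime] [CharP k p] [CharP F p]

/-- `ρ ≅ V_b` -/
def IsV {V : Type*} [AddCommGroup V] [Module k V] (ρ : Representation k (SpecialLinearGroup (Fin 2) F) V) (b : ℕ) :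
    Prop :=
  ∃ (hb : b ≤ Fintype.card F - 1) (φ : Vb ι b ≃ₗ[k] V), ∀ g x, φ (RB ι p hb g x) = ρ g (φ x)

variable {V : Type*} [AddCommGroup V] [Module k V] {ρ : Representation k (SpecialLinearGroup (Fin 2) F) V}

theorem IsV.iso {V' : Type*} [AddCommGroup V'] [Module k V'] {ρ' : Representation k (SpecialLinearGroup (Fin 2) F) V'}
    {b : ℕ} (e : V ≃ₗ[k] V') (he : ∀ g x, e (ρ g x) = ρ' g (e x)) (h : IsV ι p ρ b) : IsV ι p ρ' b := by
  obtain ⟨hb, φ, hφ⟩ := h
  exact ⟨hb, φ.trans e, fun g x => by rw [LinearEquiv.trans_apply, LinearEquiv.trans_apply, hφ, he]⟩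

theorem IsV.finite {b : ℕ} (h : IsV ι p ρ b) : FiniteDimensional k V := by
  obtain ⟨hb, φ, hφ⟩ := h
  exact LinearEquiv.finiteDimensional φ

theorem IsV.irr {b : ℕ} (h : IsV ι p ρ b) : Irrd ρ := by
  obtain ⟨hb, φ, hφ⟩ := h
  have h1 := Cfsg.Agent.H179.SLC.irr_rb ι p ι.injective (neg_one_pow_Q ι) hb
  have hn := h1.1
  refine ⟨φ.symm.toEquiv.nontrivial, fun W hW => ?_⟩
  have hW' : Inv (RB ι p hb) (W.comap (φ : Vb ι b →ₗ[k] V)) := by
    intro g x hx
    show φ (RB ι p hb g x) ∈ W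
    rw [hφ]
    exact hW g _ hx
  rcases h1.2 _ hW' with h2 | h2
  · left
    rw [eq_bot_iff]
    intro x hx
    have h3 : φ.symm x ∈ W.comap (φ : Vb ι b →ₗ[k] V) := by
      show φ (φ.symm x) ∈ W
      rwa [φ.apply_symm_apply]
    rw [h2, Submodule.mem_bot] at h3
    rw [Submodule.mem_bot, ← φ.apply_symm_apply x, h3, map_zero]
  · right
    rw [eq_top_iff]
    intro x _
    have h3 : φ.symm x ∈ W.comap (φ : Vb ι b →ₗ[k] V) := by rw [h2]; trivial
    have h4 : φ (φ.symm x) ∈ W := h3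
    rwa [φ.apply_symm_apply] at h4

/-- the highest weight vector -/
theorem IsV.hw {b : ℕ} (h : IsV ι p ρ b) : ∃ m : V, m ≠ 0 ∧ (∀ t, ρ (u t) m = m) ∧ (∀ a, ρ (Cfsg.Agent.H943.SL2Rel.h a) m = ι a ^ b • m) ∧
    SS ρ m = cb k F b • m ∧ ∀ x, (∀ t, ρ (u t) x = x) → ∃ c : k, x = c • m := by
  obtain ⟨hb, φ, hφ⟩ := h
  have hgood := Cfsg.Agent.H179.SLC.good_Db ι p (neg_one_pow_Q ι) hb
  have hmb : mon ι b b ∈ Vb ι b := Cfsg.Agent.H179.SLC.Db_le ι p (neg_one_pow_Q ι) hb (mon_mem_Db ι b)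
  have hm0 : (⟨_, hmb⟩ : Vb ι b) ≠ 0 := fun h0 => mon_ne_zero ι b (congrArg Subtype.val h0)
  refine ⟨φ ⟨_, hmb⟩, fun h0 => hm0 (φ.map_eq_zero_iff.1 h0), fun t => ?_, fun a => ?_, ?_, fun x hx => ?_⟩
  · rw [← hφ]
    congr 1
    exact Subtype.ext (hgood.ufix t _ (mon_mem_Db ι b))
  · rw [← hφ, ← map_smul]
    congr 1
    apply Subtype.ext
    show fRep k F (Cfsg.Agent.H943.SL2Rel.h a) (mon ι b b) = ι a ^ b • mon ι b b
    rw [h_mon, Nat.sub_self, pow_zero, mul_one]
  · have h1 : SS (RB ι p hb) ⟨_, hmb⟩ = cb k F b • (⟨_, hmb⟩ : Vb ι b) := by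
      apply Subtype.ext
      rw [SS_apply, Submodule.coe_sum]
      show ∑ t : F, fRep k F (u t) (fRep k F Cfsg.Agent.H943.SL2Rel.w (mon ι b b)) = cb k F b • mon ι b b
      rw [← SS_apply, hgood.ss _ (mon_mem_Db ι b)]
    rw [← map_smul, ← h1, SS_apply, SS_apply, map_sum]
    exact Finset.sum_congr rfl fun t _ => by rw [hφ, hφ]
  · have hq : b < Fintype.card F := by
      have := one_lt (F := F)
      omega
    have h1 : ((φ.symm x : Vb ι b) : F × F → k) ∈ Db ι b := fixed_Vb ι ι.injective hq (φ.symm x).2 fun t => by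
      have h2 : RB ι p hb (u t) (φ.symm x) = φ.symm x := by
        apply φ.injective
        rw [hφ, φ.apply_symm_apply, hx]
      exact congrArg Subtype.val h2
    obtain ⟨c, hc⟩ := Submodule.mem_span_singleton.1 h1
    refine ⟨c, ?_⟩
    rw [← map_smul, ← φ.apply_symm_apply x]
    congr 1
    exact Subtype.ext hc.symm

theorem IsV.uniq {b c : ℕ} (h : IsV ι p ρ b) (h' : IsV ι p ρ c) : b = c := by
  have hb := h.choose
  have hc := h'.choose
  have hq := one_lt (F := F)
  obtain ⟨m, hm0, hmu, hmh, hms, -⟩ := h.hw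
  obtain ⟨n, hn0, hnu, hnh, hns, hn⟩ := h'.hw
  obtain ⟨x, rfl⟩ := hn m hmu
  have hx : x ≠ 0 := by
    rintro rfl
    exact hm0 (zero_smul _ _)
  -- the scalars
  have h1 : cb k F b = cb k F c := by
    rw [map_smul, hns, smul_comm] at hms
    have h2 : (cb k F c - cb k F b) • (x • n) = 0 := by rw [sub_smul, hms, sub_self]
    rw [smul_eq_zero, or_iff_left hm0] at h2
    exact (sub_eq_zero.1 h2).symm
  have h2 : ∀ a : Fˣ, ι a ^ b = ι a ^ c := by
    intro a
    have h3 := hmh a
    rw [map_smul, hnh, smul_comm] at h3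
    have h4 : (ι a ^ c - ι a ^ b) • (x • n) = 0 := by rw [sub_smul, h3, sub_self]
    rw [smul_eq_zero, or_iff_left hm0] at h4
    exact (sub_eq_zero.1 h4).symm
  obtain ⟨lam, hlam⟩ := IsCyclic.exists_generator (α := Fˣ)
  have hprim := primitive ι ι.injective hlam
  unfold cb at h1
  by_cases hbq : b < Fintype.card F - 1
  · by_cases hcq : c < Fintype.card F - 1
    · exact hprim.pow_inj hbq hcq (h2 lam)
    · rw [if_pos hbq, if_neg hcq] at h1
      exact absurd h1.symm (neg_ne_zero.2 one_ne_zero)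
  · by_cases hcq : c < Fintype.card F - 1
    · rw [if_neg hbq, if_pos hcq] at h1
      exact absurd h1 (neg_ne_zero.2 one_ne_zero)
    · omega

/-- **the labelling of the irreducible modules** -/
def Sy [IsAlgClosed k] : Sys.{u, v, w} k (SpecialLinearGroup (Fin 2) F) ℕ where
  P := fun ρ b => IsV ι p ρ b
  iso := fun _ _ _ e he h => IsV.iso ι p e he h
  irr := fun _ _ h => IsV.irr ι p h
  uniq := fun _ _ _ h h' => IsV.uniq ι p h h'
  ex := fun ρ h => Cfsg.Agent.H179.SLC.irr_iso ι p ρ ι.injective (neg_one_pow_Q ι) h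

variable [IsAlgClosed k] {a : ℕ} (hF : Fintype.card F = p ^ a)

include hF in
theorem isMult_JHn (n : ℕ) : ∀ {V : Type v} [AddCommGroup V] [Module k V] [FiniteDimensional k V]
    {ρ : Representation k (SpecialLinearGroup (Fin 2) F) V} {s : Multiset ℕ},
    JHn (Sy.{u, v, w} ι p) n ρ s → IsMult ι p a ρ fun b => s.count b := by
  induction n with
  | zero =>
    intro V _ _ _ ρ s h
    have h1 := h.1
    rw [h.2]
    have h2 := isMult_zero ι p (a := a) ρ
    exact h2
  | succ n ih =>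
    intro V _ _ _ ρ s h
    obtain ⟨W, hW, b, t, hb, rfl, ht⟩ := h
    obtain ⟨hb', φ, hφ⟩ := hb
    have h1 := (isMult_rb ι p hF hb' (subRep ρ W hW) φ hφ).add ι p (ih ht)
    have h2 : (fun c => (b ::ₘ t).count c) = (Pi.single b 1 : ℕ → ℕ) + fun c => t.count c := by
      funext c
      rw [Pi.add_apply, Multiset.count_cons, add_comm]
      congr 1
      by_cases hcb : c = b
      · rw [if_pos hcb, hcb, Pi.single_eq_same]
      · rw [if_neg hcb, Pi.single_eq_of_ne hcb]
    rw [h2]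
    exact h1

include hF in
/-- **the multiplicities of the composition factors** -/
theorem isMult_cf {V : Type v} [AddCommGroup V] [Module k V] [FiniteDimensional k V]
    (ρ : Representation k (SpecialLinearGroup (Fin 2) F) V) :
    IsMult ι p a ρ fun b => (cf (Sy.{u, v, w} ι p) ρ).count b := by
  obtain ⟨n, hn⟩ := cf_spec (Sy.{u, v, w} ι p) ρ
  exact isMult_JHn ι p hF n hn

end Cfsg.Agent.R2.H28.SL2
end
end

-- part: R2/H28/SL2/Dual
section
prune_inst 0x120040030e2000000180010a2000020400000000003080002800f02020108022041860102300014028210404800006001000000420000000a000000000000001000140400000008020000000000000000000000000000000000000000000000000000000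
set_option linter.all false
open scoped Cfsg.Agent.FastGrp

-- part: R2/H28/SL2/Lift
section
/-!
# Lifting of highest weight vectors (helper28)

* `exists_m` : the functional `m` on a module containing `W ≅ V_b`;
* `lift_one` : `x` fixed by `U` and of weight `c` modulo `W ≅ V_b`: if `c + 2 (b_i + 1) p ^ i` is never `b` modulo
  `q - 1`, then `x` can be changed by an element of `W` to a vector fixed by `U` and of weight `c`;
* `lift_hw` : the same for all `W`;
* `gen_hw` : a vector `x` fixed by `U` of weight `c`, with `S x = c_b x`, `D_n (w x) = 0` for `n = (c_i + 1) p ^ i`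
  generates a module `≅ V_c`.
-/

set_option autoImplicit false
set_option linter.unusedSectionVars false

namespace Cfsg.Agent.R2.H28.SL2

open Matrix Cfsg.Agent.H943.SL2Rel Cfsg.Agent.H943.SL2Mod Cfsg.Agent.H943.RepAdd

universe u v w

variable {k : Type u} [Field k] [DecidableEq k] {F : Type w} [Field F] [Fintype F] [DecidableEq F] (ι : F →+* k)
variable (p : ℕ) [Fact p.Prime] [CharP k p] [CharP F p]

theorem en_pos {p b i : ℕ} (hp : 0 < p) : 1 ≤ en p b i := Nat.mul_pos (Nat.succ_pos _) (Nat.pow_pos hp)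

theorem en_le {p a b i : ℕ} (hp : 0 < p) (hi : i < a) (h1 : b / p ^ i % p + 1 < p) : en p b i ≤ p ^ a - 1 := by
  have h2 : en p b i < p ^ a := by
    unfold en
    calc (b / p ^ i % p + 1) * p ^ i < p * p ^ i := Nat.mul_lt_mul_of_pos_right h1 (Nat.pow_pos hp)
      _ = p ^ (i + 1) := by rw [pow_succ, mul_comm]
      _ ≤ p ^ a := Nat.pow_le_pow_right hp hi
  omega

theorem dvd_choose_en {p b i : ℕ} (hp : p.Prime) (h1 : b / p ^ i % p + 1 < p) : p ∣ b.choose (en p b i) := by
  by_contra hc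
  rw [not_dvd_choose_iff hp] at hc
  have h2 := hc i
  have h3 : en p b i / p ^ i % p = b / p ^ i % p + 1 := by
    unfold en
    rw [dg_single hp.one_lt h1, if_pos rfl]
  omega

section Main

variable {E : Type*} [AddCommGroup E] [Module k E]
  (ρ : Representation k (_root_.Matrix.SpecialLinearGroup (Fin 2) F) E) (W : Submodule k E) (hW : ∀ g, ∀ x ∈ W, ρ g x ∈ W)

/-- the functional -/
theorem exists_m {b : ℕ} (hV : IsV ι p (subRep ρ W hW) b) :
    ∃ m : E →ₗ[k] k, (∀ (a : Fˣ) x, m (ρ (h a) x) = ι (a : F) ^ b * m x) ∧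
      (∀ n, 1 ≤ n → n ≤ Fintype.card F - 1 → p ∣ b.choose n → ∀ y ∈ W, m (Dm ι ρ n y) = 0) ∧
      (∀ y ∈ W, m y = 0 → (∀ n, 1 ≤ n → n ≤ Fintype.card F - 1 → m (Dm ι ρ n y) = 0) → y = 0) ∧
      ∀ γ : ℕ → k, ∃ v ∈ W, m v = γ 0 ∧ ∀ n, 1 ≤ n → n ≤ Fintype.card F - 1 → ¬ p ∣ b.choose n →
        m (Dm ι ρ n v) = γ n := by
  obtain ⟨hb, φ, hφ⟩ := hV
  have hp : p.Prime := Fact.out
  have hq := one_lt (F := F)
  obtain ⟨Q, hQ⟩ : ∃ Q, Q = Fintype.card F - 1 := ⟨_, rfl⟩
  have hb' : b ≤ Q := by omega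
  have hs1 := neg_one_pow_Q ι
  have hcard : (Fintype.card Fˣ : k) = -1 := by
    rw [Fintype.card_units]
    exact cast_Q p
  have hane : ∀ a : Fˣ, ι (a : F) ≠ 0 := fun a => (map_ne_zero ι).2 a.ne_zero
  -- the functional
  let δ : Vb ι b →ₗ[k] k := (LinearMap.proj ((1 : F), (0 : F))) ∘ₗ (Vb ι b).subtype
  obtain ⟨m', hm'⟩ := LinearMap.exists_extend (δ ∘ₗ (φ.symm : W →ₗ[k] Vb ι b))
  have hm'φ : ∀ f : Vb ι b, m' (φ f : E) = (f : F × F → k) (1, 0) := by
    intro f
    have h1 := LinearMap.congr_fun hm' (φ f)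
    have h2 : m' (φ f : E) = δ (φ.symm (φ f)) := h1
    rw [h2, LinearEquiv.symm_apply_apply]
    rfl
  have hφ' : ∀ g f, ρ g (φ f : E) = (φ (RB ι p hb g f) : E) := by
    intro g f
    rw [hφ]
    rfl
  let m : E →ₗ[k] k := -∑ a : Fˣ, ((ι (a : F))⁻¹ ^ b) • (m' ∘ₗ (ρ (h a) : E →ₗ[k] E))
  have hm_apply : ∀ x, m x = -∑ a : Fˣ, ((ι (a : F))⁻¹ ^ b) * m' (ρ (h a) x) := by
    intro x
    simp only [m, LinearMap.sum_apply, _root_.inv_pow, _root_.LinearMap.neg_apply, _root_.LinearMap.smul_apply, _root_.LinearMap.coe_comp, _root_.Function.comp_apply, _root_.smul_eq_mul]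
  have hmφ : ∀ f : Vb ι b, m (φ f : E) = (f : F × F → k) (1, 0) := by
    intro f
    rw [hm_apply]
    have h1 : ∀ a : Fˣ, ((ι (a : F))⁻¹ ^ b) * m' (ρ (h a) (φ f : E)) = (f : F × F → k) (1, 0) := by
      intro a
      rw [hφ', hm'φ]
      have h2 : ((RB ι p hb (h a) f : Vb ι b) : F × F → k) (1, 0) = (f : F × F → k) ((a : F), 0) := by
        show fRep k F (h a) (f : F × F → k) (1, 0) = _
        rw [fRep_h, one_mul, zero_mul]
      rw [h2, eval_one ι f.2, ← mul_assoc, ← mul_pow, inv_mul_cancel₀ (hane a), one_pow, one_mul]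
    rw [Finset.sum_congr rfl fun a _ => h1 a, Finset.sum_const, Finset.card_univ, nsmul_eq_mul, hcard]
    ring
  have hmh : ∀ (a : Fˣ) x, m (ρ (h a) x) = ι (a : F) ^ b * m x := by
    intro a x
    rw [hm_apply, hm_apply, mul_neg, Finset.mul_sum]
    congr 1
    refine Fintype.sum_equiv (Equiv.mulRight a) _ _ fun c => ?_
    rw [apply_mul, ← h_mul]
    show _ = ι (a : F) ^ b * ((ι ((c * a : Fˣ) : F))⁻¹ ^ b * m' (ρ (h (c * a)) x))
    rw [← mul_assoc]
    congr 1
    rw [Units.val_mul, map_mul, mul_inv, mul_pow, mul_comm ((ι (c : F))⁻¹ ^ b), ← mul_assoc, ← mul_pow,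
      mul_inv_cancel₀ (hane a), one_pow, one_mul]
  -- the functionals `z_n`
  have hDφ : ∀ n (f : Vb ι b), ((Dm ι ρ n (φ f : E)) : E) = (φ (Dm ι (RB ι p hb) n f) : E) := by
    intro n f
    rw [Dm_apply, Dm_apply, map_neg, map_sum]
    push_cast
    congr 1
    refine Finset.sum_congr rfl fun t _ => ?_
    rw [map_smul, Submodule.coe_smul, hφ']
  have hDco : ∀ n (f : Vb ι b), ((Dm ι (RB ι p hb) n f : Vb ι b) : F × F → k) =
      Dm ι (fRep k F) n (f : F × F → k) := by
    intro n f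
    rw [Dm_apply, Dm_apply]
    push_cast
    rfl
  obtain ⟨e, he⟩ := Cfsg.Agent.H179.SLC.exists_coord ι p ι.injective hs1 hb
  have hzφ : ∀ (x : Bf k b → k) (n : ℕ), 1 ≤ n → n ≤ Q → m (Dm ι ρ n (φ (e x) : E)) =
      if h : n ≤ b ∧ b - n ∈ Bf k b then x ⟨b - n, h.2⟩ else 0 := by
    intro x n hn hn'
    rw [hDφ, hmφ, hDco, he, Dm_eval ι hb x hn (by omega)]
  have hBf : ∀ n ≤ b, (b - n ∈ Bf k b ↔ ¬ p ∣ b.choose n) := by
    intro n hn
    rw [mem_Bf]
    unfold Bb
    rw [Set.mem_ofPred_eq, Nat.choose_symm hn, Ne, CharP.cast_eq_zero_iff k p]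
    exact ⟨fun h => h.2, fun h => ⟨Nat.sub_le _ _, h⟩⟩
  have hz0 : ∀ n, 1 ≤ n → n ≤ Q → p ∣ b.choose n → ∀ y ∈ W, m (Dm ι ρ n y) = 0 := by
    intro n hn hn' hl y hy
    obtain ⟨f, hf⟩ := φ.surjective ⟨y, hy⟩
    obtain ⟨x, rfl⟩ := e.surjective f
    have h1 : y = (φ (e x) : E) := by rw [hf]
    rw [h1, hzφ x n hn hn', dif_neg]
    rintro ⟨h2, h3⟩
    exact (hBf n h2).1 h3 hl
  have hbB : b ∈ Bf k b := by
    rw [mem_Bf]
    exact ⟨le_rfl, by rw [Nat.choose_self, Nat.cast_one]; exact one_ne_zero⟩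
  have hcoef : ∀ y : Bf k b → k, m (φ (e y) : E) = y ⟨b, hbB⟩ := by
    intro y
    rw [hmφ, he, Finset.sum_apply, Finset.sum_eq_single (⟨b, hbB⟩ : Bf k b)]
    · show y _ * mon ι b b (1, 0) = _
      rw [mon_self, map_one, one_pow, mul_one]
    · intro j _ hj
      show y _ * mon ι b j (1, 0) = 0
      have h1 := (mem_Bf.1 j.2).1
      have h2 : (j : ℕ) ≠ b := fun h => hj (Subtype.ext h)
      unfold mon
      rw [map_zero, zero_pow (show b - (j : ℕ) ≠ 0 by omega)]
      ring
    · intro h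
      exact absurd (Finset.mem_univ _) h
  refine ⟨m, hmh, fun n h1 h2 => hz0 n h1 (by omega), ?_, fun γ => ?_⟩
  · intro y hy h1 h2
    obtain ⟨f, hf⟩ := φ.surjective ⟨y, hy⟩
    obtain ⟨c, rfl⟩ := e.surjective f
    have h4 : y = (φ (e c) : E) := by rw [hf]
    have h5 : c = 0 := by
      funext j
      have hj := (mem_Bf.1 j.2).1
      by_cases hjb : (j : ℕ) = b
      · have h6 := hcoef c
        rw [← h4, h1] at h6
        have h7 : j = ⟨b, hbB⟩ := Subtype.ext hjb
        rw [h7, ← h6]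
        rfl
      · have h6 := h2 (b - j) (by omega) (by omega)
        rw [h4, hzφ c _ (by omega) (by omega), dif_pos ⟨Nat.sub_le _ _, by
          rw [show b - (b - (j : ℕ)) = j by omega]; exact j.2⟩] at h6
        have h7 : (⟨b - (b - (j : ℕ)), by rw [show b - (b - (j : ℕ)) = j by omega]; exact j.2⟩ : Bf k b) = j :=
          Subtype.ext (show b - (b - (j : ℕ)) = j by omega)
        rw [h7] at h6
        exact h6
    rw [h4, h5, map_zero, map_zero]
    rfl
  · refine ⟨(φ (e fun j => γ (b - j)) : E), (φ _).2, ?_, fun n hn hn' hl => ?_⟩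
    · rw [hcoef]
      show γ (b - b) = γ 0
      rw [Nat.sub_self]
    · have hnb : n ≤ b := by
        by_contra hc
        rw [Nat.choose_eq_zero_of_lt (by omega)] at hl
        exact hl (dvd_zero p)
      rw [hzφ _ n hn (by omega), dif_pos ⟨hnb, (hBf n hnb).2 hl⟩]
      show γ (b - (b - n)) = γ n
      rw [show b - (b - n) = n by omega]

include p in
/-- averaging over the torus -/
theorem exists_tavg {c : ℕ} {x : E} (hh : ∀ a : Fˣ, ρ (h a) x - ι (a : F) ^ c • x ∈ W) :
    ∃ x₀, x₀ - x ∈ W ∧ ∀ a : Fˣ, ρ (h a) x₀ = ι (a : F) ^ c • x₀ := by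
  have hane : ∀ a : Fˣ, ι (a : F) ≠ 0 := fun a => (map_ne_zero ι).2 a.ne_zero
  have hcard : (Fintype.card Fˣ : k) = -1 := by
    rw [Fintype.card_units]
    exact cast_Q p
  refine ⟨-∑ a : Fˣ, ((ι (a : F))⁻¹ ^ c) • ρ (h a) x, ?_, fun a => ?_⟩
  · have h1 : -∑ a : Fˣ, ((ι (a : F))⁻¹ ^ c) • ρ (h a) x - x =
        -∑ a : Fˣ, ((ι (a : F))⁻¹ ^ c) • (ρ (h a) x - ι (a : F) ^ c • x) := by
      have h2 : ∀ a : Fˣ, ((ι (a : F))⁻¹ ^ c) • (ρ (h a) x - ι (a : F) ^ c • x) =
          ((ι (a : F))⁻¹ ^ c) • ρ (h a) x - x := by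
        intro a
        rw [smul_sub, smul_smul, ← mul_pow, inv_mul_cancel₀ (hane a), one_pow, one_smul]
      rw [Finset.sum_congr rfl fun a _ => h2 a, Finset.sum_sub_distrib, Finset.sum_const, Finset.card_univ,
        ← Nat.cast_smul_eq_nsmul k, hcard, neg_one_smul]
      abel
    rw [h1]
    exact W.neg_mem (sum_mem fun a _ => W.smul_mem _ (hh a))
  · rw [map_neg, map_sum, smul_neg, Finset.smul_sum]
    congr 1
    refine Fintype.sum_equiv (Equiv.mulLeft a) _ _ fun b => ?_
    rw [map_smul, apply_mul, ← h_mul, smul_smul]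
    show _ = (ι (a : F) ^ c * (ι ((a * b : Fˣ) : F))⁻¹ ^ c) • ρ (h (a * b)) x
    congr 1
    rw [Units.val_mul, map_mul, mul_inv, mul_pow, ← mul_assoc, ← mul_pow, mul_inv_cancel₀ (hane a), one_pow, one_mul]

/-- elements which are fixed by `U` modulo `W` -/
theorem Dm_mem' {x : E} (hu : ∀ t : F, ρ (u t) x - x ∈ W) {m : ℕ} (hm : 1 ≤ m) : Dm ι ρ m x ∈ W := by
  have hq := one_lt (F := F)
  rw [Dm_apply, neg_mem_iff]
  have h1 : ∑ t : F, ι t ^ (Fintype.card F - 1 - m) • x = 0 := by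
    rw [← Finset.sum_smul, psum ι (by omega), if_neg (by omega), zero_smul]
  have h2 : ∑ t : F, ι t ^ (Fintype.card F - 1 - m) • ρ (u t) x =
      ∑ t : F, ι t ^ (Fintype.card F - 1 - m) • (ρ (u t) x - x) := by
    simp only [smul_sub, Finset.sum_sub_distrib]
    rw [h1, sub_zero]
  rw [h2]
  exact sum_mem fun t _ => W.smul_mem _ (hu t)

/-- equality of powers -/
theorem mod_of_pow {m n : ℕ} (h : ∀ a : Fˣ, ι (a : F) ^ m = ι (a : F) ^ n) :
    m % (Fintype.card F - 1) = n % (Fintype.card F - 1) := by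
  have hq := one_lt (F := F)
  obtain ⟨lam, hlam⟩ := IsCyclic.exists_generator (α := Fˣ)
  have hprim := primitive ι ι.injective hlam
  have h3 := (hprim.isOfFinOrder (by omega)).pow_eq_pow_iff_modEq.1 (h lam)
  rw [← hprim.eq_orderOf] at h3
  exact h3

include hW in
/-- **the lifting of a highest weight vector, one composition factor** -/
theorem lift_one {a : ℕ} (hF : Fintype.card F = p ^ a) {b : ℕ} (hV : IsV ι p (subRep ρ W hW) b) {c : ℕ}
    (hc : ∀ i < a, b / p ^ i % p + 1 < p → (c + 2 * en p b i) % (p ^ a - 1) ≠ b % (p ^ a - 1)) {x : E}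
    (hu : ∀ t : F, ρ (u t) x - x ∈ W) (hh : ∀ a : Fˣ, ρ (h a) x - ι (a : F) ^ c • x ∈ W) :
    ∃ x', x' - x ∈ W ∧ (∀ t : F, ρ (u t) x' = x') ∧ ∀ a : Fˣ, ρ (h a) x' = ι (a : F) ^ c • x' := by
  have hp : p.Prime := Fact.out
  have hq := one_lt (F := F)
  obtain ⟨Q, hQ⟩ : ∃ Q, Q = Fintype.card F - 1 := ⟨_, rfl⟩
  have hpa : p ^ a - 1 = Q := by omega
  have hane : ∀ a : Fˣ, ι (a : F) ≠ 0 := fun a => (map_ne_zero ι).2 a.ne_zero
  obtain ⟨m, hmh, hz0, hvan, hv⟩ := exists_m ι p ρ W hW hV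
  obtain ⟨x₀, hx₀, hxh⟩ := exists_tavg ι p ρ W hh
  have hxu : ∀ t : F, ρ (u t) x₀ - x₀ ∈ W := by
    intro t
    have h1 : ρ (u t) x₀ - x₀ = ρ (u t) (x₀ - x) - (x₀ - x) + (ρ (u t) x - x) := by
      rw [map_sub]
      abel
    rw [h1]
    exact W.add_mem (W.sub_mem (hW _ _ hx₀) hx₀) (hu t)
  have hDW : ∀ n, 1 ≤ n → Dm ι ρ n x₀ ∈ W := fun n hn => Dm_mem' ι ρ W hxu hn
  -- the weights
  have hwt : ∀ n, n ≤ Q → ∀ a : Fˣ, ι (a : F) ^ b * m (Dm ι ρ n x₀) = ι (a : F) ^ (2 * n + c) * m (Dm ι ρ n x₀) := by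
    intro n hn a
    rw [← hmh, h_Dm ι ρ (by omega), hxh, map_smul, map_smul, map_smul, smul_eq_mul, smul_eq_mul, pow_add]
    ring
  have hzero : ∀ n, 1 ≤ n → n ≤ Q → p ∣ b.choose n → m (Dm ι ρ n x₀) = 0 := by
    intro n hn hn' hl
    obtain ⟨i, hi, hlt, hd1, hd2⟩ := exists_digit hp (a := a) (b := b) (n := n) (by omega) hl
    have hle : en p b i ≤ n := by
      by_contra hc
      rw [Nat.choose_eq_zero_of_lt (by omega)] at hd1
      exact hd1 (dvd_zero p)
    have he1 : 1 ≤ en p b i := en_pos hp.pos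
    rcases Nat.lt_or_ge (en p b i) n with hlt' | hge
    · have h1 := hz0 _ he1 (by omega) hd2 _ (hDW (n - en p b i) (by omega))
      rw [Dm_mul' ι ρ p hF he1 (by omega) (by omega), map_smul, smul_eq_mul,
        show en p b i + (n - en p b i) = n by omega] at h1
      refine (mul_eq_zero.1 h1).resolve_left ?_
      rw [CharP.cast_eq_zero_iff k p]
      exact hd1
    · have hni : n = en p b i := by omega
      by_contra hne
      have h2 : ∀ a : Fˣ, ι (a : F) ^ (c + 2 * en p b i) = ι (a : F) ^ b := by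
        intro a
        rw [← hni, add_comm]
        exact (mul_right_cancel₀ hne (hwt n hn' a)).symm
      have h3 := mod_of_pow ι h2
      rw [← hQ, ← hpa] at h3
      exact hc i hi hlt h3
  -- the correction
  obtain ⟨v, hvW, hv0, hvn⟩ := hv (fun n => if n = 0 then 0 else m (Dm ι ρ n x₀))
  rw [if_pos rfl] at hv0
  have hvn' : ∀ n, 1 ≤ n → n ≤ Q → m (Dm ι ρ n v) = m (Dm ι ρ n x₀) := by
    intro n hn hn'
    by_cases hl : p ∣ b.choose n
    · rw [hz0 n hn (by omega) hl v hvW, hzero n hn hn' hl]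
    · rw [hvn n hn (by omega) hl, if_neg (by omega)]
  have hDh : ∀ (a : Fˣ) (n : ℕ) (y : E), n ≤ Q → m (Dm ι ρ n (ρ (h a) y)) * ι (a : F) ^ (2 * n) = ι (a : F) ^ b * m (Dm ι ρ n y) := by
    intro a n y hn
    rw [← hmh, h_Dm ι ρ (by omega), map_smul, smul_eq_mul, mul_comm]
  have hvh : ∀ a : Fˣ, ρ (h a) v = ι (a : F) ^ c • v := by
    intro a
    rw [← sub_eq_zero]
    refine hvan _ (W.sub_mem (hW _ _ hvW) (W.smul_mem _ hvW)) ?_ fun n hn hn' => ?_
    · rw [map_sub, hmh, map_smul, hv0, mul_zero, smul_zero, sub_zero]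
    · have h1 := hDh a n v (by omega)
      rw [hvn' n hn (by omega), hwt n (by omega) a, pow_add] at h1
      have h2 : m (Dm ι ρ n (ρ (h a) v)) = ι (a : F) ^ c * m (Dm ι ρ n x₀) := by
        have h3 : ι (a : F) ^ (2 * n) ≠ 0 := pow_ne_zero _ (hane a)
        apply mul_right_cancel₀ h3
        rw [h1]
        ring
      rw [map_sub, map_sub, h2, map_smul, map_smul, hvn' n hn (by omega), smul_eq_mul, sub_self]
  refine ⟨x₀ - v, ?_, fun t => ?_, fun a => ?_⟩
  · have : x₀ - v - x = (x₀ - x) - v := by abel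
    rw [this]
    exact W.sub_mem hx₀ hvW
  · rw [← sub_eq_zero]
    have hx2 : ∀ n, 1 ≤ n → n ≤ Q → m (Dm ι ρ n (x₀ - v)) = 0 := by
      intro n hn hn'
      rw [map_sub, map_sub, hvn' n hn hn', sub_self]
    have h1 : ρ (u t) (x₀ - v) - (x₀ - v) = ∑ j ∈ Finset.Icc 1 Q, ι t ^ j • Dm ι ρ j (x₀ - v) := by
      rw [u_eq ι ρ p t (x₀ - v), add_sub_cancel_left, hQ]
    have h2 : ρ (u t) (x₀ - v) - (x₀ - v) ∈ W := by
      have : ρ (u t) (x₀ - v) - (x₀ - v) = (ρ (u t) x₀ - x₀) - (ρ (u t) v - v) := by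
        rw [map_sub]
        abel
      rw [this]
      exact W.sub_mem (hxu t) (W.sub_mem (hW _ _ hvW) hvW)
    refine hvan _ h2 ?_ ?_
    · rw [h1, map_sum]
      refine Finset.sum_eq_zero fun j hj => ?_
      rw [Finset.mem_Icc] at hj
      rw [map_smul, hx2 j hj.1 hj.2, smul_zero]
    · intro n hn hn'
      rw [h1, map_sum, map_sum]
      refine Finset.sum_eq_zero fun j hj => ?_
      rw [Finset.mem_Icc] at hj
      rw [map_smul, map_smul]
      by_cases hnj : n + j ≤ Q
      · rw [Dm_mul' ι ρ p hF hn hj.1 (by omega), map_smul, hx2 _ (by omega) hnj, smul_zero, smul_zero]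
      · rw [Dm_mul_zero ι ρ hn hj.1 (by omega) (by omega) (by omega), map_zero, smul_zero]
  · rw [map_sub, hxh, hvh, smul_sub]

end Main

end Cfsg.Agent.R2.H28.SL2
end

-- part: R2/H28/SL2/Gen2
section
/-!
# Modules generated by highest weight vectors, lifting of submodules (helper28)

* `IsV.hw2` : the highest weight vector of `V_c`, with `D_n (w m) = 0` if `p ∣ C(c, n)`;
* `gen_hw` : a vector `x` fixed by `U`, of weight `c`, `S x = c_b x`, `D_n (w x) = 0` for `n = (c_i + 1) p ^ i` is the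
  image of the highest weight vector under a homomorphism `V_c → V`;
* `mem_cf_of_hw` : the weight of a vector fixed by `U` is (modulo `q - 1`) in `cf ρ`;
* `wt_cf` : the weights of a module;
* `lift_hw` : lifting of highest weight vectors;
* `Lft`, `lift_irr` : `V_c ≤ V / W` lifts to `V` if `Lft p a c b` for all `b ∈ cf W`.
-/

set_option autoImplicit false
set_option linter.unusedSectionVars false

namespace Cfsg.Agent.R2.H28.SL2

open Matrix Cfsg.Agent.H943.SL2Rel Cfsg.Agent.H943.SL2Mod Cfsg.Agent.H943.RepAdd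

universe u v w

variable {k : Type u} [Field k] [DecidableEq k] {F : Type w} [Field F] [Fintype F] [DecidableEq F] (ι : F →+* k)
variable (p : ℕ) [Fact p.Prime] [CharP k p] [CharP F p]

/-- the highest weight vector -/
theorem IsV.hw2 {V : Type*} [AddCommGroup V] [Module k V] {ρ : Representation k (_root_.Matrix.SpecialLinearGroup (Fin 2) F) V}
    {c : ℕ} (hV : IsV ι p ρ c) : ∃ m : V, m ≠ 0 ∧ (∀ t, ρ (u t) m = m) ∧
      (∀ a, ρ (Cfsg.Agent.H943.SL2Rel.h a) m = ι a ^ c • m) ∧
      SS ρ m = cb k F c • m ∧ (∀ n, 1 ≤ n → n ≤ Fintype.card F - 1 → p ∣ c.choose n →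
        Dm ι ρ n (ρ Cfsg.Agent.H943.SL2Rel.w m) = 0) ∧ Module.finrank k V = (Bf k c).card ∧
      ∀ x, (∀ t, ρ (u t) x = x) → ∃ c : k, x = c • m := by
  obtain ⟨m, h0, h1, h2, h3, h4⟩ := hV.hw
  obtain ⟨hb, φ, hφ⟩ := hV
  refine ⟨m, h0, h1, h2, h3, fun n hn hn' hl => ?_, ?_, h4⟩
  · have hgood := Cfsg.Agent.H179.SLC.good_Db ι p (neg_one_pow_Q ι) hb
    have hmb : mon ι c c ∈ Vb ι c := Cfsg.Agent.H179.SLC.Db_le ι p (neg_one_pow_Q ι) hb (mon_mem_Db ι c)
    obtain ⟨d, hd⟩ := h4 (φ ⟨_, hmb⟩) fun t => by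
      rw [← hφ]
      congr 1
      exact Subtype.ext (hgood.ufix t _ (mon_mem_Db ι c))
    have hm0 : (⟨_, hmb⟩ : Vb ι c) ≠ 0 := fun h0 => mon_ne_zero ι c (congrArg Subtype.val h0)
    have hd0 : d ≠ 0 := by
      rintro rfl
      rw [zero_smul] at hd
      exact hm0 (φ.map_eq_zero_iff.1 hd)
    have h5 : Dm ι ρ n (ρ Cfsg.Agent.H943.SL2Rel.w (φ ⟨_, hmb⟩)) = 0 := by
      rw [← hφ]
      have h6 := Dm_comm ι (RB ι p hb) ρ (φ : Vb ι c →ₗ[k] V) (fun g x => hφ g x) n
        (RB ι p hb Cfsg.Agent.H943.SL2Rel.w ⟨_, hmb⟩)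
      have h7 : Dm ι (RB ι p hb) n (RB ι p hb Cfsg.Agent.H943.SL2Rel.w ⟨_, hmb⟩) = 0 := by
        apply Subtype.ext
        have h8 : ((Dm ι (RB ι p hb) n (RB ι p hb Cfsg.Agent.H943.SL2Rel.w ⟨_, hmb⟩) : Vb ι c) : F × F → k) =
            Dm ι (fRep k F) n (fRep k F Cfsg.Agent.H943.SL2Rel.w (mon ι c c)) := by
          rw [Dm_apply, Dm_apply]
          push_cast
          rfl
        have h9 : fRep k F Cfsg.Agent.H943.SL2Rel.w (mon ι c c) = (-1 : k) ^ c • mon ι c 0 := by
          funext z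
          obtain ⟨x, y⟩ := z
          rw [fRep_w, mon_self]
          show ι (-y) ^ c = (-1) ^ c * (ι x ^ 0 * ι y ^ (c - 0))
          rw [map_neg, neg_pow, pow_zero, one_mul, Nat.sub_zero]
        rw [h8, h9, map_smul, Dm_mon ι hb (Nat.zero_le _) hn hn', Nat.sub_zero, (CharP.cast_eq_zero_iff k p _).2 hl,
          zero_smul, smul_zero]
        rfl
      rw [h7, map_zero] at h6
      exact h6.symm
    rw [hd, map_smul, map_smul] at h5
    exact (smul_eq_zero.1 h5).resolve_left hd0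
  · rw [← φ.finrank_eq, Cfsg.Agent.H179.SLC.finrank_Vb ι p ι.injective (neg_one_pow_Q ι) hb]

/-- the divided powers on the lowest weight vector -/
theorem Dm_zero_of {V : Type*} [AddCommGroup V] [Module k V] (ρ : Representation k (_root_.Matrix.SpecialLinearGroup (Fin 2) F) V)
    {a : ℕ} (hF : Fintype.card F = p ^ a) {c : ℕ} {y : V}
    (hD : ∀ i < a, c / p ^ i % p + 1 < p → Dm ι ρ (en p c i) y = 0) {n : ℕ}
    (hn' : n ≤ Fintype.card F - 1) (hl : p ∣ c.choose n) : Dm ι ρ n y = 0 := by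
  have hp : p.Prime := Fact.out
  have hq := one_lt (F := F)
  obtain ⟨i, hi, hlt, hd1, hd2⟩ := exists_digit hp (a := a) (b := c) (n := n) (by omega) hl
  have hle : en p c i ≤ n := by
    by_contra hc
    rw [Nat.choose_eq_zero_of_lt (by omega)] at hd1
    exact hd1 (dvd_zero p)
  have he1 : 1 ≤ en p c i := en_pos hp.pos
  rcases Nat.lt_or_ge (en p c i) n with hlt' | hge
  · have h1 := Dm_mul' ι ρ p hF (m := n - en p c i) (n := en p c i) (by omega) he1 (by omega) y
    rw [hD i hi hlt, map_zero, show n - en p c i + en p c i = n by omega] at h1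
    refine (smul_eq_zero.1 h1.symm).resolve_left ?_
    have h2 := Nat.choose_symm hle
    rw [h2, CharP.cast_eq_zero_iff k p]
    exact hd1
  · have : n = en p c i := by omega
    rw [this]
    exact hD i hi hlt

/-- **modules generated by a highest weight vector** -/
theorem gen_hw {V₁ : Type*} [AddCommGroup V₁] [Module k V₁] {σ : Representation k (_root_.Matrix.SpecialLinearGroup (Fin 2) F) V₁}
    {V : Type*} [AddCommGroup V] [Module k V] (ρ : Representation k (_root_.Matrix.SpecialLinearGroup (Fin 2) F) V)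
    {a : ℕ} (hF : Fintype.card F = p ^ a) {c : ℕ} (hσ : IsV ι p σ c) {m : V₁} (hm0 : m ≠ 0)
    (hmu : ∀ t, σ (u t) m = m) {x : V} (hu : ∀ t, ρ (u t) x = x)
    (hh : ∀ a, ρ (h a) x = ι a ^ c • x) (hS : SS ρ x = cb k F c • x)
    (hD : ∀ i < a, c / p ^ i % p + 1 < p → Dm ι ρ (en p c i) (ρ w x) = 0) :
    ∃ f : V₁ →ₗ[k] V, (∀ g y, f (σ g y) = ρ g (f y)) ∧ f m = x := by
  have hp : p.Prime := Fact.out
  have hq := one_lt (F := F)
  have hirr := hσ.irr
  have hfin := hσ.finite
  obtain ⟨m', hm'0, -, hm'h, hm'S, hm'D, hfr, hm'u⟩ := hσ.hw2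
  -- the properties of `m`
  obtain ⟨d, rfl⟩ := hm'u m hmu
  have hmh : ∀ a, σ (h a) (d • m') = ι a ^ c • (d • m') := fun a => by rw [map_smul, hm'h, smul_comm]
  have hmS : SS σ (d • m') = cb k F c • (d • m') := by rw [map_smul, hm'S, smul_comm]
  have hmD : ∀ n, 1 ≤ n → n ≤ Fintype.card F - 1 → p ∣ c.choose n → Dm ι σ n (σ w (d • m')) = 0 := by
    intro n h1 h2 h3
    rw [map_smul, map_smul, hm'D n h1 h2 h3, smul_zero]
  generalize d • m' = m at hm0 hmu hmh hmS hmD
  set τ := prodRep σ ρ with hτ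
  have hτ' : ∀ g y, τ g y = (σ g y.1, ρ g y.2) := fun g y => prodRep_apply σ ρ g y
  have G : Good τ (Submodule.span k {((m, x) : V₁ × V)}) (cb k F c) := by
    constructor
    · intro a y hy
      obtain ⟨e, rfl⟩ := Submodule.mem_span_singleton.1 hy
      rw [map_smul, hτ']
      refine Submodule.smul_mem _ _ ?_
      show (σ (h a) m, ρ (h a) x) ∈ _
      rw [hmh, hh]
      exact Submodule.smul_mem _ (ι a ^ c) (Submodule.mem_span_singleton_self ((m, x) : V₁ × V))
    · intro t y hy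
      obtain ⟨e, rfl⟩ := Submodule.mem_span_singleton.1 hy
      rw [map_smul, hτ']
      show e • (σ (u t) m, ρ (u t) x) = _
      rw [hmu, hu]
    · intro y hy
      obtain ⟨e, rfl⟩ := Submodule.mem_span_singleton.1 hy
      rw [map_smul, smul_comm]
      congr 1
      rw [SS_apply]
      refine Prod.ext ?_ ?_
      · rw [Prod.fst_sum]
        show ∑ t : F, σ (u t) (σ w m) = cb k F c • m
        rw [← SS_apply, hmS]
      · rw [Prod.snd_sum]
        show ∑ t : F, ρ (u t) (ρ w x) = cb k F c • x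
        rw [← SS_apply, hS]
  obtain ⟨N, hN⟩ : ∃ N, N = MM τ (Submodule.span k {((m, x) : V₁ × V)}) := ⟨_, rfl⟩
  have hNi : _root_.Cfsg.Agent.H943.SL2Mod.Inv τ N := by rw [hN]; exact inv_MM τ G
  have hmN : ((m, x) : V₁ × V) ∈ N := by
    rw [hN]
    exact le_MM τ G (Submodule.mem_span_singleton_self _)
  -- the dimension
  let z : ℕ → V₁ × V := fun n => if n = 0 then τ w (m, x) else Dm ι τ n (τ w (m, x))
  have hzD : ∀ n, 1 ≤ n → n ≤ Fintype.card F - 1 → p ∣ c.choose n → z n = 0 := by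
    intro n hn hn' hl
    show (if n = 0 then _ else _) = _
    rw [if_neg (by omega)]
    have h1 := Dm_comm ι τ σ (LinearMap.fst k V₁ V) (fun g y => rfl) n (τ w (m, x))
    have h2 := Dm_comm ι τ ρ (LinearMap.snd k V₁ V) (fun g y => rfl) n (τ w (m, x))
    refine Prod.ext ?_ ?_
    · refine h1.trans ?_
      exact hmD n hn hn' hl
    · refine h2.trans ?_
      exact Dm_zero_of ι p ρ hF hD hn' hl
  have hle : N ≤ Submodule.span k (z '' ((Bf k c : Finset ℕ) : Set ℕ)) := by
    rw [hN]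
    refine Submodule.span_le.2 ?_
    rintro _ ⟨t, y, hy, rfl⟩
    obtain ⟨e, rfl⟩ := Submodule.mem_span_singleton.1 hy
    rw [map_smul, map_smul]
    refine Submodule.smul_mem _ _ ?_
    rw [u_eq ι τ p t]
    refine Submodule.add_mem _ (Submodule.subset_span ⟨0, ?_, if_pos rfl⟩) (sum_mem fun n hn => Submodule.smul_mem _ _ ?_)
    · rw [Finset.mem_coe, mem_Bf]
      exact ⟨Nat.zero_le _, by rw [Nat.choose_zero_right, Nat.cast_one]; exact one_ne_zero⟩
    · rw [Finset.mem_Icc] at hn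
      have hzn : z n = Dm ι τ n (τ w (m, x)) := if_neg (by omega)
      rw [← hzn]
      by_cases hl : p ∣ c.choose n
      · rw [hzD n hn.1 hn.2 hl]
        exact Submodule.zero_mem _
      · refine Submodule.subset_span ⟨n, ?_, rfl⟩
        rw [Finset.mem_coe, mem_Bf]
        refine ⟨?_, ?_⟩
        · by_contra hc
          rw [Nat.choose_eq_zero_of_lt (by omega)] at hl
          exact hl (dvd_zero p)
        · rw [Ne, CharP.cast_eq_zero_iff k p]
          exact hl
  have hfinS : FiniteDimensional k (Submodule.span k (z '' ((Bf k c : Finset ℕ) : Set ℕ))) :=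
    FiniteDimensional.span_of_finite k ((Finset.finite_toSet _).image _)
  have hfinN : FiniteDimensional k N := Submodule.finiteDimensional_of_le hle
  have hdim : Module.finrank k N ≤ Module.finrank k V₁ := by
    classical
    rw [hfr]
    refine (Submodule.finrank_mono hle).trans ?_
    have h1 := finrank_span_finset_le_card (R := k) ((Bf k c).image z)
    rw [Finset.coe_image] at h1
    exact h1.trans Finset.card_image_le
  -- the first projection
  let f₁ : N →ₗ[k] V₁ := (LinearMap.fst k V₁ V) ∘ₗ N.subtype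
  have hf₁s : Function.Surjective f₁ := by
    rw [← LinearMap.range_eq_top]
    refine (hirr.2 _ ?_).resolve_left ?_
    · rintro g _ ⟨y, rfl⟩
      exact ⟨⟨_, hNi g y y.2⟩, rfl⟩
    · intro h0
      have h1 : m ∈ LinearMap.range f₁ := ⟨⟨_, hmN⟩, rfl⟩
      rw [h0, Submodule.mem_bot] at h1
      exact hm0 h1
  have hf₁i : Function.Injective f₁ := by
    rw [← LinearMap.ker_eq_bot, ← Submodule.finrank_eq_zero]
    have h1 := LinearMap.finrank_range_add_finrank_ker f₁
    rw [LinearMap.range_eq_top.2 hf₁s, finrank_top] at h1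
    omega
  let e₁ := LinearEquiv.ofBijective f₁ ⟨hf₁i, hf₁s⟩
  refine ⟨((LinearMap.snd k V₁ V) ∘ₗ N.subtype) ∘ₗ (e₁.symm : V₁ →ₗ[k] N), fun g y => ?_, ?_⟩
  · obtain ⟨y, rfl⟩ := e₁.surjective y
    have h1 : σ g (e₁ y) = e₁ ⟨_, hNi g y y.2⟩ := rfl
    rw [h1]
    show ((e₁.symm (e₁ ⟨_, hNi g y y.2⟩) : N) : V₁ × V).2 = ρ g ((e₁.symm (e₁ y) : N) : V₁ × V).2
    rw [LinearEquiv.symm_apply_apply, LinearEquiv.symm_apply_apply]
    rfl
  · have h1 : m = e₁ ⟨_, hmN⟩ := rfl
    show ((e₁.symm m : N) : V₁ × V).2 = x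
    rw [h1, LinearEquiv.symm_apply_apply]

/-! ### weights and highest weights of composition factors -/

variable [IsAlgClosed k]

/-- the highest weights -/
theorem mem_cf_of_hw' {e : ℕ} (n : ℕ) : ∀ {V : Type v} [AddCommGroup V] [Module k V]
    {ρ : Representation k (_root_.Matrix.SpecialLinearGroup (Fin 2) F) V} {s : Multiset ℕ}, JHn (Sy.{u, v, w} ι p) n ρ s →
    ∀ x : V, x ≠ 0 → (∀ t, ρ (u t) x = x) → (∀ a, ρ (h a) x = ι a ^ e • x) →
    ∃ b ∈ s, b % (Fintype.card F - 1) = e % (Fintype.card F - 1) := by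
  induction n with
  | zero =>
    intro V _ _ ρ s hs x hx hu hh
    have := hs.1
    exact absurd (Subsingleton.elim _ _) hx
  | succ n ih =>
    intro V _ _ ρ s hs x hx hu hh
    obtain ⟨W, hW, b, t, hb, rfl, ht⟩ := hs
    by_cases hxW : x ∈ W
    · refine ⟨b, Multiset.mem_cons_self b t, ?_⟩
      obtain ⟨m, hm0, -, hmh, -, hm⟩ := IsV.hw ι p hb
      obtain ⟨c, hc⟩ := hm ⟨x, hxW⟩ fun t => Subtype.ext (hu t)
      have hc0 : c ≠ 0 := by
        rintro rfl
        rw [zero_smul] at hc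
        exact hx (congrArg Subtype.val hc)
      refine mod_of_pow ι fun a => ?_
      have h1 : subRep ρ W hW (h a) ⟨x, hxW⟩ = ι a ^ e • (⟨x, hxW⟩ : W) := Subtype.ext (hh a)
      rw [hc, map_smul, hmh, smul_comm] at h1
      have h2 : (ι a ^ b - ι a ^ e) • (c • m) = 0 := by rw [sub_smul, h1, sub_self]
      rw [smul_eq_zero, or_iff_left (smul_ne_zero hc0 hm0)] at h2
      exact sub_eq_zero.1 h2
    · obtain ⟨b', hb', h⟩ := ih ht (W.mkQ x) (fun h0 => hxW ((Submodule.Quotient.mk_eq_zero W).1 h0))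
        (fun t => by rw [quotRep_mk, hu]) (fun a => by rw [quotRep_mk, hh, map_smul])
      exact ⟨b', Multiset.mem_cons_of_mem hb', h⟩

/-- the highest weights -/
theorem mem_cf_of_hw {V : Type v} [AddCommGroup V] [Module k V] [FiniteDimensional k V]
    {ρ : Representation k (_root_.Matrix.SpecialLinearGroup (Fin 2) F) V} {e : ℕ} {x : V} (hx : x ≠ 0) (hu : ∀ t, ρ (u t) x = x)
    (hh : ∀ a, ρ (h a) x = ι a ^ e • x) :
    ∃ b ∈ cf (Sy.{u, v, w} ι p) ρ, b % (Fintype.card F - 1) = e % (Fintype.card F - 1) := by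
  obtain ⟨n, hn⟩ := cf_spec (Sy.{u, v, w} ι p) ρ
  exact mem_cf_of_hw' ι p n hn x hx hu hh

/-- the weights -/
theorem wt_cf {a : ℕ} (hF : Fintype.card F = p ^ a) {V : Type v} [AddCommGroup V] [Module k V] [FiniteDimensional k V]
    {ρ : Representation k (_root_.Matrix.SpecialLinearGroup (Fin 2) F) V} {e : ℕ} {x : V} (hx : x ≠ 0)
    (hh : ∀ a, ρ (h a) x = ι a ^ e • x) :
    ∃ b ∈ cf (Sy.{u, v, w} ι p) ρ, ∃ m ≤ b, ¬ p ∣ b.choose m ∧
      2 * m % (Fintype.card F - 1) = (b + e) % (Fintype.card F - 1) := by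
  have hq := one_lt (F := F)
  obtain ⟨lam, hlam⟩ := IsCyclic.exists_generator (α := Fˣ)
  have hprim := primitive ι ι.injective hlam
  have h1 := (isMult_cf ι p hF ρ).eigen (h lam) (ι lam) (Fintype.card F - 1) (Cfsg.Agent.H179.SLC.isSS_h ι lam)
    hprim.pow_eq_one (by rw [cast_Q p]; exact neg_ne_zero.2 one_ne_zero) (ι lam ^ e)
    (by rw [← pow_mul, mul_comm, pow_mul, hprim.pow_eq_one, one_pow])
  have h2 : Module.finrank k (eig ρ (h lam) (ι lam ^ e)) ≠ 0 := by
    rw [Ne, Submodule.finrank_eq_zero]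
    intro h0
    have h3 : x ∈ eig ρ (h lam) (ι lam ^ e) := mem_eig ρ |>.2 (hh lam)
    rw [h0, Submodule.mem_bot] at h3
    exact hx h3
  rw [h1] at h2
  obtain ⟨b, -, hb⟩ := Finset.exists_ne_zero_of_sum_ne_zero h2
  have hb1 := left_ne_zero_of_mul hb
  have hb2 := right_ne_zero_of_mul hb
  refine ⟨b, Multiset.count_ne_zero.1 hb1, ?_⟩
  unfold mf at hb2
  rw [Ne, Finset.card_eq_zero, ← Ne, ← Finset.nonempty_iff_ne_empty] at hb2
  obtain ⟨m, hm⟩ := hb2
  rw [Finset.mem_filter, mem_Bf] at hm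
  obtain ⟨⟨hm1, hm2⟩, hm3⟩ := hm
  refine ⟨m, hm1, ?_, ?_⟩
  · rwa [Ne, CharP.cast_eq_zero_iff k p] at hm2
  · have hl0 : ι (lam : F) ≠ 0 := (map_ne_zero ι).2 lam.ne_zero
    have h4 : ι (lam : F) ^ (2 * m) = ι (lam : F) ^ (b + e) := by
      rw [pow_add, ← hm3]
      have h5 : ι (lam : F) ^ (b - m) * (ι (lam : F))⁻¹ ^ (b - m) = 1 := by
        rw [← mul_pow, mul_inv_cancel₀ hl0, one_pow]
      calc ι (lam : F) ^ (2 * m) = ι (lam : F) ^ m * ι (lam : F) ^ m := by rw [two_mul, pow_add]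
        _ = ι (lam : F) ^ m * ι (lam : F) ^ m * (ι (lam : F) ^ (b - m) * (ι (lam : F))⁻¹ ^ (b - m)) := by
          rw [h5, mul_one]
        _ = ι (lam : F) ^ (m + (b - m)) * (ι (lam : F) ^ m * (ι (lam : F))⁻¹ ^ (b - m)) := by
          rw [pow_add]
          ring
        _ = _ := by rw [show m + (b - m) = b by omega]
    have h6 := (hprim.isOfFinOrder (by omega)).pow_eq_pow_iff_modEq.1 h4
    rw [← hprim.eq_orderOf] at h6
    exact h6

end Cfsg.Agent.R2.H28.SL2
end

-- part: R2/H28/SL2/Lift2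
section
/-!
# Lifting of submodules (helper28)

`Lft p a c b` : arithmetic condition on `b`, `c`, which implies `Ext¹(V_c, V_b) = 0`;
`lift_irr` : `V_c ≤ V / W` lifts to `V` if `Lft p a c b` for all `b ∈ cf W`.
-/

set_option autoImplicit false
set_option linter.unusedSectionVars false

namespace Cfsg.Agent.R2.H28.SL2

open Matrix Cfsg.Agent.H943.SL2Rel Cfsg.Agent.H943.SL2Mod Cfsg.Agent.H943.RepAdd

universe u v w

/-- a submodule of a submodule -/
theorem step {k : Type*} [Field k] {G : Type*} [Group G] {V : Type*} [AddCommGroup V] [Module k V]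
    (ρ : Representation k G V) (W : Submodule k V) (hW : ∀ g, ∀ x ∈ W, ρ g x ∈ W) (W₀ : Submodule k W)
    (hW₀ : ∀ g, ∀ x ∈ W₀, subRep ρ W hW g x ∈ W₀) :
    ∃ (X : Submodule k V) (hX : ∀ g, ∀ x ∈ X, ρ g x ∈ X)
      (hW₁ : ∀ g, ∀ x ∈ W.map X.mkQ, quotRep ρ X hX g x ∈ W.map X.mkQ), X ≤ W ∧ (∀ x : W, (x : V) ∈ X ↔ x ∈ W₀) ∧
      Eqv (subRep (subRep ρ W hW) W₀ hW₀) (subRep ρ X hX) ∧
      Eqv (quotRep (subRep ρ W hW) W₀ hW₀) (subRep (quotRep ρ X hX) (W.map X.mkQ) hW₁) := by
  obtain ⟨X, hXdef⟩ : ∃ X : Submodule k V, X = W₀.map W.subtype := ⟨_, rfl⟩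
  have hE := eqv_map (subRep ρ W hW) ρ W.subtype (fun g x => rfl) W.injective_subtype W₀ hW₀
  rw [← hXdef] at hE
  obtain ⟨hX, e1, he1⟩ := hE
  have hXW : X ≤ W := by
    rw [hXdef]
    exact Submodule.map_subtype_le _ _
  have hW₁ : ∀ g, ∀ x ∈ W.map X.mkQ, quotRep ρ X hX g x ∈ W.map X.mkQ := by
    rintro g _ ⟨x, hx, rfl⟩
    exact ⟨_, hW g x hx, rfl⟩
  have hXm : ∀ x : W, (x : V) ∈ X ↔ x ∈ W₀ := by
    intro x
    rw [hXdef]
    constructor
    · rintro ⟨y, hy, hxy⟩
      have : y = x := Subtype.ext hxy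
      rwa [← this]
    · intro hx
      exact ⟨x, hx, rfl⟩
  obtain ⟨e2, he2, -⟩ := quot_iso (subRep ρ W hW) (subRep (quotRep ρ X hX) (W.map X.mkQ) hW₁)
    (LinearMap.codRestrict (W.map X.mkQ) (X.mkQ ∘ₗ W.subtype) fun x => ⟨x, x.2, rfl⟩) (fun g x => Subtype.ext rfl)
    (by
      rintro ⟨_, x, hx, rfl⟩
      exact ⟨⟨x, hx⟩, rfl⟩) W₀ hW₀ (fun x => by
        rw [← hXm, ← Submodule.Quotient.mk_eq_zero X]
        constructor
        · intro h
          exact congrArg Subtype.val h
        · intro h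
          exact Subtype.ext h)
  exact ⟨X, hX, hW₁, hXW, hXm, ⟨e1, he1⟩, e2, he2⟩

/-- the arithmetic condition -/
def Lft (p a c b : ℕ) : Prop :=
  (∀ i < a, b / p ^ i % p + 1 < p → (c + 2 * en p b i) % (p ^ a - 1) ≠ b % (p ^ a - 1)) ∧
  (b + c) % (p ^ a - 1) ≠ 0 ∧
  ∀ i < a, c / p ^ i % p + 1 < p → ∀ m ≤ b, ¬ p ∣ b.choose m →
    (2 * m + c) % (p ^ a - 1) ≠ (b + 2 * en p c i) % (p ^ a - 1)

variable {k : Type u} [Field k] [DecidableEq k] {F : Type w} [Field F] [Fintype F] [DecidableEq F] (ι : F →+* k)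
variable (p : ℕ) [Fact p.Prime] [CharP k p] [CharP F p] [IsAlgClosed k]

/-- **lifting of highest weight vectors** -/
theorem lift_hw' {a : ℕ} (hF : Fintype.card F = p ^ a) {c : ℕ} (n : ℕ) : ∀ {V : Type v} [AddCommGroup V] [Module k V]
    {ρ : Representation k (_root_.Matrix.SpecialLinearGroup (Fin 2) F) V} (W : Submodule k V) (hW : ∀ g, ∀ x ∈ W, ρ g x ∈ W)
    {s : Multiset ℕ}, JHn (Sy.{u, v, w} ι p) n (subRep ρ W hW) s →
    (∀ b ∈ s, ∀ i < a, b / p ^ i % p + 1 < p → (c + 2 * en p b i) % (p ^ a - 1) ≠ b % (p ^ a - 1)) → ∀ x : V,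
    (∀ t, ρ (u t) x - x ∈ W) → (∀ a, ρ (h a) x - ι a ^ c • x ∈ W) →
    ∃ x', x' - x ∈ W ∧ (∀ t, ρ (u t) x' = x') ∧ ∀ a, ρ (h a) x' = ι a ^ c • x' := by
  induction n with
  | zero =>
    intro V _ _ ρ W hW s hs _ x hu hh
    have hW0 : W = ⊥ := Submodule.subsingleton_iff_eq_bot.1 hs.1
    subst hW0
    refine ⟨x, by rw [sub_self]; exact Submodule.zero_mem _, fun t => ?_, fun a => ?_⟩
    · exact sub_eq_zero.1 ((Submodule.mem_bot k).1 (hu t))
    · exact sub_eq_zero.1 ((Submodule.mem_bot k).1 (hh a))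
  | succ n ih =>
    intro V _ _ ρ W hW s hs hc x hu hh
    obtain ⟨W₀, hW₀, b, t, hb, rfl, ht⟩ := hs
    obtain ⟨X, hX, hW₁, hXW, -, ⟨e1, he1⟩, he2⟩ := step ρ W hW W₀ hW₀
    have hbX : IsV ι p (subRep ρ X hX) b := IsV.iso ι p e1 he1 hb
    obtain ⟨y, hy1, hy2, hy3⟩ := ih (W.map X.mkQ) hW₁ (JHn_iso _ he2 ht)
      (fun b' hb' => hc b' (Multiset.mem_cons_of_mem hb')) (X.mkQ x)
      (fun t => ⟨_, hu t, by rw [map_sub, quotRep_mk]⟩) (fun a => ⟨_, hh a, by rw [map_sub, quotRep_mk, map_smul]⟩)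
    obtain ⟨x₁, rfl⟩ := X.mkQ_surjective y
    have hmem : ∀ z : V, X.mkQ z = 0 → z ∈ X := fun z hz => (Submodule.Quotient.mk_eq_zero X).1 hz
    have h1 : x₁ - x ∈ W := by
      obtain ⟨z, hz, e⟩ := hy1
      have h2 : z - (x₁ - x) ∈ X := hmem _ (by rw [map_sub, e, map_sub, sub_self])
      have h3 : x₁ - x = z - (z - (x₁ - x)) := by abel
      rw [h3]
      exact W.sub_mem hz (hXW h2)
    obtain ⟨x', hx', hx'u, hx'h⟩ := lift_one ι p ρ X hX hF hbX (hc b (Multiset.mem_cons_self b t)) (x := x₁)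
      (fun t => hmem _ (by rw [map_sub, ← quotRep_mk ρ X hX, hy2, sub_self]))
      (fun a => hmem _ (by rw [map_sub, ← quotRep_mk ρ X hX, hy3, map_smul, sub_self]))
    refine ⟨x', ?_, hx'u, hx'h⟩
    have h4 : x' - x = (x' - x₁) + (x₁ - x) := by abel
    rw [h4]
    exact W.add_mem (hXW hx') h1

omit [DecidableEq k] [CharP F p] [IsAlgClosed k] [CharP k p] [Fact p.Prime] in
theorem SS_u {V : Type*} [AddCommGroup V] [Module k V] (ρ : Representation k (_root_.Matrix.SpecialLinearGroup (Fin 2) F) V) (s : F)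
    (x : V) : ρ (u s) (SS ρ x) = SS ρ x := by
  rw [SS_apply, map_sum]
  refine Fintype.sum_equiv (Equiv.addLeft s) _ _ fun t => ?_
  rw [apply_mul, ← u_add]
  rfl

theorem inv_pow_eq (a : Fˣ) (c : ℕ) : ι ((a⁻¹ : Fˣ) : F) ^ c = ι (a : F) ^ ((Fintype.card F - 1 - 1) * c) := by
  have hq := one_lt (F := F)
  rw [pow_mul]
  congr 1
  rw [Units.val_inv_eq_inv_val, map_inv₀]
  apply inv_eq_of_mul_eq_one_left
  rw [← pow_succ, show Fintype.card F - 1 - 1 + 1 = Fintype.card F - 1 by omega]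
  exact powQ ι a.ne_zero

theorem SS_h {V : Type*} [AddCommGroup V] [Module k V] (ρ : Representation k (_root_.Matrix.SpecialLinearGroup (Fin 2) F) V) (a : Fˣ)
    (x : V) : ρ (h a) (SS ρ x) = SS ρ (ρ (h a⁻¹) x) := by
  rw [SS_apply, SS_apply, map_sum]
  have ha : (a : F) ^ 2 ≠ 0 := pow_ne_zero _ a.ne_zero
  refine Fintype.sum_equiv (Equiv.mulLeft₀ ((a : F) ^ 2) ha) _ _ fun t => ?_
  rw [apply_mul3, h_u, mul_assoc, h_w, map_mul, map_mul]
  rfl

/-- **lifting of submodules** -/
theorem lift_irr {a : ℕ} (hF : Fintype.card F = p ^ a) {V : Type v} [AddCommGroup V] [Module k V]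
    [FiniteDimensional k V] {ρ : Representation k (_root_.Matrix.SpecialLinearGroup (Fin 2) F) V} (W : Submodule k V)
    (hW : ∀ g, ∀ x ∈ W, ρ g x ∈ W) (Z : Submodule k (V ⧸ W)) (hZ : ∀ g, ∀ x ∈ Z, quotRep ρ W hW g x ∈ Z) {c : ℕ}
    (hc : IsV ι p (subRep (quotRep ρ W hW) Z hZ) c) (hL : ∀ b ∈ cf (Sy.{u, v, w} ι p) (subRep ρ W hW), Lft p a c b) :
    ∃ (X : Submodule k V) (hX : ∀ g, ∀ x ∈ X, ρ g x ∈ X), IsV ι p (subRep ρ X hX) c ∧ X.map W.mkQ = Z ∧ X ⊓ W = ⊥ := by
  have hp : p.Prime := Fact.out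
  have hq := one_lt (F := F)
  obtain ⟨Q, hQ⟩ : ∃ Q, Q = Fintype.card F - 1 := ⟨_, rfl⟩
  have hpa : p ^ a - 1 = Q := by omega
  have hmem : ∀ z : V, W.mkQ z = 0 → z ∈ W := fun z hz => (Submodule.Quotient.mk_eq_zero W).1 hz
  obtain ⟨m, hm0, hmu, hmh, hmS, hmD, hmf, -⟩ := hc.hw2
  obtain ⟨x₀, hx₀⟩ := W.mkQ_surjective (m : V ⧸ W)
  obtain ⟨n, hn⟩ := cf_spec (Sy.{u, v, w} ι p) (subRep ρ W hW)
  have hmu' : ∀ t, quotRep ρ W hW (u t) (m : V ⧸ W) = m := fun t => congrArg Subtype.val (hmu t)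
  have hmh' : ∀ a, quotRep ρ W hW (h a) (m : V ⧸ W) = ι a ^ c • (m : V ⧸ W) := fun a => congrArg Subtype.val (hmh a)
  obtain ⟨x, hx, hxu, hxh⟩ := lift_hw' ι p hF n W hW hn (fun b hb => (hL b hb).1) x₀
    (fun t => hmem _ (by rw [map_sub, ← quotRep_mk ρ W hW, hx₀, hmu', sub_self]))
    (fun a => hmem _ (by rw [map_sub, ← quotRep_mk ρ W hW, hx₀, hmh', map_smul, hx₀, sub_self]))
  have hxm : W.mkQ x = (m : V ⧸ W) := by
    have h1 : W.mkQ (x - x₀) = 0 := (Submodule.Quotient.mk_eq_zero W).2 hx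
    rw [map_sub, sub_eq_zero] at h1
    rw [h1, hx₀]
  have hwx : ∀ a, ρ (h a) (ρ w x) = ι (a : F) ^ ((Fintype.card F - 1 - 1) * c) • ρ w x := by
    intro a
    rw [apply_mul, h_w, ← apply_mul, hxh, map_smul, inv_pow_eq]
  have hcc : ((Fintype.card F - 1 - 1) * c + c) % Q = 0 := by
    have h1 : (Fintype.card F - 1 - 1) * c + c = Q * c := by
      rw [← Nat.succ_mul]
      congr 1
      omega
    rw [h1, Nat.mul_mod_right]
  -- the second condition
  have hS : SS ρ x = cb k F c • x := by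
    rw [← sub_eq_zero]
    by_contra hne
    have h1 : SS ρ x - cb k F c • x ∈ W := by
      apply hmem
      rw [map_sub, map_smul, hxm, sub_eq_zero, SS_apply, map_sum]
      have h2 := congrArg (Submodule.subtype Z) hmS
      rw [SS_apply, map_sum] at h2
      have h3 : ∀ t : F, W.mkQ (ρ (u t) (ρ w x)) = quotRep ρ W hW (u t) (quotRep ρ W hW w (m : V ⧸ W)) := by
        intro t
        rw [← quotRep_mk ρ W hW, ← quotRep_mk ρ W hW, hxm]
      rw [Finset.sum_congr rfl fun t _ => h3 t]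
      exact h2
    obtain ⟨b, hb, hbe⟩ := mem_cf_of_hw (V := W) ι p (ρ := subRep ρ W hW) (e := (Fintype.card F - 1 - 1) * c)
      (x := ⟨_, h1⟩) (fun h0 => hne (congrArg Subtype.val h0)) (fun t => Subtype.ext (by
        show ρ (u t) (SS ρ x - cb k F c • x) = SS ρ x - cb k F c • x
        rw [map_sub, map_smul, SS_u, hxu])) (fun a => Subtype.ext (by
        show ρ (h a) (SS ρ x - cb k F c • x) = ι a ^ ((Fintype.card F - 1 - 1) * c) • (SS ρ x - cb k F c • x)
        rw [map_sub, map_smul, SS_h, hxh, map_smul, inv_pow_eq, hxh, smul_sub]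
        congr 1
        unfold cb
        by_cases hcq : c < Fintype.card F - 1
        · rw [if_pos hcq, zero_smul, zero_smul, smul_zero]
        · rw [if_neg hcq, smul_comm]
          have hcQ : c = Fintype.card F - 1 := by
            have := hc.choose
            omega
          have e1 : ι (a : F) ^ c = 1 := by
            rw [hcQ]
            exact powQ ι a.ne_zero
          have e2 : ι (a : F) ^ ((Fintype.card F - 1 - 1) * c) = 1 := by
            rw [mul_comm, pow_mul, e1, one_pow]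
          rw [e1, e2]))
    apply (hL b hb).2.1
    rw [hpa, Nat.add_mod, hQ, hbe, ← Nat.add_mod]
    rw [hQ] at hcc
    exact hcc
  -- the third condition
  have hD : ∀ i < a, c / p ^ i % p + 1 < p → Dm ι ρ (en p c i) (ρ w x) = 0 := by
    intro i hi hlt
    by_contra hne
    have he1 : 1 ≤ en p c i := en_pos hp.pos
    have he2 : en p c i ≤ Fintype.card F - 1 := by
      rw [hF]
      exact en_le hp.pos hi hlt
    have h1 : Dm ι ρ (en p c i) (ρ w x) ∈ W := by
      apply hmem
      rw [Dm_comm ι ρ (quotRep ρ W hW) W.mkQ (fun g y => (quotRep_mk ρ W hW g y).symm)]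
      have h2 := Dm_comm ι (subRep (quotRep ρ W hW) Z hZ) (quotRep ρ W hW) Z.subtype (fun g y => rfl) (en p c i)
        (subRep (quotRep ρ W hW) Z hZ w m)
      rw [hmD _ he1 he2 (dvd_choose_en hp hlt), map_zero] at h2
      rw [← quotRep_mk ρ W hW, hxm]
      exact h2.symm
    obtain ⟨b, hb, j, hj, hj1, hj2⟩ := wt_cf (V := W) ι p hF (ρ := subRep ρ W hW)
      (e := 2 * en p c i + (Fintype.card F - 1 - 1) * c)
      (x := ⟨_, h1⟩) (fun h0 => hne (congrArg Subtype.val h0)) (fun a => Subtype.ext (by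
        show ρ (h a) (Dm ι ρ (en p c i) (ρ w x)) = ι a ^ (2 * en p c i + (Fintype.card F - 1 - 1) * c) •
          Dm ι ρ (en p c i) (ρ w x)
        rw [h_Dm ι ρ he2, hwx, map_smul, smul_smul, pow_add]))
    apply (hL b hb).2.2 i hi hlt j hj hj1
    rw [hpa]
    have h3 : (2 * j + c) % Q = (b + (2 * en p c i + (Fintype.card F - 1 - 1) * c) + c) % Q := by
      rw [Nat.add_mod, hQ, hj2, ← Nat.add_mod]
    rw [h3, show b + (2 * en p c i + (Fintype.card F - 1 - 1) * c) + c =
      (b + 2 * en p c i) + ((Fintype.card F - 1 - 1) * c + c) by ring, Nat.add_mod, hcc, Nat.add_zero, Nat.mod_mod]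
  obtain ⟨f, hf, hfm⟩ := gen_hw ι p ρ hF hc hm0 hmu hxu hxh hS hD
  have hirr := hc.irr
  -- the section
  have hsec : ∀ z : Z, W.mkQ (f z) = (z : V ⧸ W) := by
    have h1 := hirr.2 (LinearMap.eqLocus (W.mkQ ∘ₗ f) Z.subtype) (by
      intro g z hz
      rw [LinearMap.mem_eqLocus] at hz ⊢
      have hz' : W.mkQ (f z) = (z : V ⧸ W) := hz
      show W.mkQ (f (subRep (quotRep ρ W hW) Z hZ g z)) = quotRep ρ W hW g (z : V ⧸ W)
      rw [hf, ← hz', quotRep_mk])
    rcases h1 with h1 | h1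
    · exfalso
      have h2 : m ∈ LinearMap.eqLocus (W.mkQ ∘ₗ f) Z.subtype := by
        rw [LinearMap.mem_eqLocus]
        show W.mkQ (f m) = m
        rw [hfm, hxm]
      rw [h1, Submodule.mem_bot] at h2
      exact hm0 h2
    · intro z
      have h2 : z ∈ LinearMap.eqLocus (W.mkQ ∘ₗ f) Z.subtype := by rw [h1]; trivial
      exact h2
  have hfi : Function.Injective f := by
    intro y z hyz
    apply Subtype.ext
    rw [← hsec y, hyz, hsec z]
  have hX : ∀ g, ∀ x ∈ LinearMap.range f, ρ g x ∈ LinearMap.range f := by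
    rintro g _ ⟨y, rfl⟩
    exact ⟨_, hf g y⟩
  refine ⟨LinearMap.range f, hX, IsV.iso ι p (LinearEquiv.ofInjective f hfi) (fun g y => Subtype.ext (hf g y)) hc, ?_, ?_⟩
  · ext z
    constructor
    · rintro ⟨_, ⟨y, rfl⟩, rfl⟩
      rw [hsec]
      exact y.2
    · intro hz
      exact ⟨f ⟨z, hz⟩, ⟨_, rfl⟩, hsec ⟨z, hz⟩⟩
  · rw [eq_bot_iff]
    rintro _ ⟨⟨y, rfl⟩, hy⟩
    have h1 : (y : V ⧸ W) = 0 := by
      rw [← hsec y]
      exact (Submodule.Quotient.mk_eq_zero W).2 hy
    have h2 : y = 0 := Subtype.ext h1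
    rw [Submodule.mem_bot, h2, map_zero]

end Cfsg.Agent.R2.H28.SL2
end

-- part: R2/H28/SL2/Dual
section
/-!
# Duality (helper28)

`cf_dual` : modules of `SL(2, q)` in perfect duality have the same composition factors.
-/

set_option autoImplicit false
set_option linter.unusedSectionVars false

namespace Cfsg.Agent.R2.H28.SL2

open Matrix Cfsg.Agent.H943.SL2Rel Cfsg.Agent.H943.SL2Mod Cfsg.Agent.H943.RepAdd

universe u v w

section Pairing

variable {k : Type*} [Field k] {G : Type*} [Group G]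

/-- perfect dualities of representations -/
structure Dul {V : Type*} [AddCommGroup V] [Module k V] {V' : Type*} [AddCommGroup V'] [Module k V']
    (ρ : Representation k G V) (ρ' : Representation k G V') (B : V →ₗ[k] V' →ₗ[k] k) : Prop where
  inv : ∀ g x y, B (ρ g x) (ρ' g y) = B x y
  left : ∀ x, (∀ y, B x y = 0) → x = 0
  right : ∀ y, (∀ x, B x y = 0) → y = 0

variable {V : Type*} [AddCommGroup V] [Module k V] {V' : Type*} [AddCommGroup V'] [Module k V']
  {ρ : Representation k G V} {ρ' : Representation k G V'} {B : V →ₗ[k] V' →ₗ[k] k}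

theorem Dul.flip (D : Dul ρ ρ' B) : Dul ρ' ρ B.flip where
  inv g x y := D.inv g y x
  left := D.right
  right := D.left

theorem Dul.inv' (D : Dul ρ ρ' B) (g : G) (x : V) (y : V') : B x (ρ' g y) = B (ρ g⁻¹ x) y := by
  have h := D.inv g (ρ g⁻¹ x) y
  rw [← h, ← Module.End.mul_apply, ← map_mul, mul_inv_cancel, map_one, Module.End.one_apply]

theorem Dul.surj [FiniteDimensional k V] [FiniteDimensional k V'] (D : Dul ρ ρ' B) (f : V →ₗ[k] k) :
    ∃ y, ∀ x, B x y = f x := by
  have i1 : Function.Injective B := by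
    rw [← LinearMap.ker_eq_bot, LinearMap.ker_eq_bot']
    intro x hx
    exact D.left x fun y => by rw [hx]; rfl
  have i2 : Function.Injective B.flip := by
    rw [← LinearMap.ker_eq_bot, LinearMap.ker_eq_bot']
    intro y hy
    exact D.right y fun x => by
      have := LinearMap.congr_fun hy x
      exact this
  have e1 := LinearMap.finrank_le_finrank_of_injective i1
  have e2 := LinearMap.finrank_le_finrank_of_injective i2
  have e3 : Module.finrank k (Module.Dual k V) = Module.finrank k V := Subspace.dual_finrank_eq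
  have e4 : Module.finrank k (Module.Dual k V') = Module.finrank k V' := Subspace.dual_finrank_eq
  have e5 : Module.finrank k V' = Module.finrank k (Module.Dual k V) := by
    have e1' : Module.finrank k V ≤ Module.finrank k (Module.Dual k V') := e1
    have e2' : Module.finrank k V' ≤ Module.finrank k (Module.Dual k V) := e2
    omega
  obtain ⟨y, hy⟩ := (LinearMap.injective_iff_surjective_of_finrank_eq_finrank e5).1 i2 f
  exact ⟨y, fun x => by rw [← hy]; rfl⟩

theorem Dul.finrank_eq [FiniteDimensional k V] [FiniteDimensional k V'] (D : Dul ρ ρ' B) :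
    Module.finrank k V = Module.finrank k V' := by
  have i1 : Function.Injective B := by
    rw [← LinearMap.ker_eq_bot, LinearMap.ker_eq_bot']
    intro x hx
    exact D.left x fun y => by rw [hx]; rfl
  have i2 : Function.Injective B.flip := by
    rw [← LinearMap.ker_eq_bot, LinearMap.ker_eq_bot']
    intro y hy
    exact D.right y fun x => by
      have := LinearMap.congr_fun hy x
      exact this
  have e1 := LinearMap.finrank_le_finrank_of_injective i1
  have e2 := LinearMap.finrank_le_finrank_of_injective i2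
  have e3 : Module.finrank k (Module.Dual k V) = Module.finrank k V := Subspace.dual_finrank_eq
  have e4 : Module.finrank k (Module.Dual k V') = Module.finrank k V' := Subspace.dual_finrank_eq
  have e1' : Module.finrank k V ≤ Module.finrank k (Module.Dual k V') := e1
  have e2' : Module.finrank k V' ≤ Module.finrank k (Module.Dual k V) := e2
  omega

/-- the orthogonal space -/
def orth (B : V →ₗ[k] V' →ₗ[k] k) (W : Submodule k V) : Submodule k V' where
  carrier := {y | ∀ x ∈ W, B x y = 0}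
  zero_mem' := fun x _ => map_zero _
  add_mem' := fun {y z} hy hz x hx => by rw [map_add, hy x hx, hz x hx, add_zero]
  smul_mem' := fun c y hy x hx => by rw [map_smul, hy x hx, smul_zero]

theorem mem_orth {W : Submodule k V} {y : V'} : y ∈ orth B W ↔ ∀ x ∈ W, B x y = 0 := Iff.rfl

theorem Dul.orth_inv (D : Dul ρ ρ' B) {W : Submodule k V} (hW : ∀ g, ∀ x ∈ W, ρ g x ∈ W) :
    ∀ g, ∀ y ∈ orth B W, ρ' g y ∈ orth B W := by
  intro g y hy x hx
  rw [D.inv']
  exact hy _ (hW _ x hx)

/-- the double orthogonal -/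
theorem Dul.orth_orth [FiniteDimensional k V] [FiniteDimensional k V'] (D : Dul ρ ρ' B) (W : Submodule k V) (x : V)
    (hx : ∀ y ∈ orth B W, B x y = 0) : x ∈ W := by
  by_contra hxW
  obtain ⟨f, hf, hfW⟩ := Submodule.exists_le_ker_of_notMem (p := W) hxW
  obtain ⟨y, hy⟩ := D.surj f
  apply hf
  rw [← hy x]
  exact hx y fun z hz => by rw [hy z]; exact hfW hz

/-- the duality of the quotient and the orthogonal space -/
theorem Dul.quot [FiniteDimensional k V] [FiniteDimensional k V'] (D : Dul ρ ρ' B) {W : Submodule k V}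
    (hW : ∀ g, ∀ x ∈ W, ρ g x ∈ W) :
    ∃ B' : (V ⧸ W) →ₗ[k] (orth B W) →ₗ[k] k, Dul (quotRep ρ W hW) (subRep ρ' (orth B W) (D.orth_inv hW)) B' ∧
      ∀ x y, B' (W.mkQ x) y = B x y := by
  let B' : (V ⧸ W) →ₗ[k] (orth B W) →ₗ[k] k := W.liftQ
    (LinearMap.mk₂ k (fun x (y : orth B W) => B x (y : V')) (fun x x' y => by rw [map_add]; rfl)
      (fun c x y => by rw [map_smul]; rfl) (fun x y y' => by rw [Submodule.coe_add, map_add])
      (fun c x y => by rw [Submodule.coe_smul, map_smul])) (by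
      intro x hx
      rw [LinearMap.mem_ker]
      ext y
      exact y.2 x hx)
  have hB : ∀ x y, B' (W.mkQ x) y = B x y := fun x y => rfl
  refine ⟨B', ⟨?_, ?_, ?_⟩, hB⟩
  · intro g x y
    obtain ⟨x, rfl⟩ := W.mkQ_surjective x
    rw [quotRep_mk, hB, hB]
    exact D.inv g x y
  · intro x hx
    obtain ⟨x, rfl⟩ := W.mkQ_surjective x
    rw [Submodule.mkQ_apply, Submodule.Quotient.mk_eq_zero]
    refine D.orth_orth W x fun y hy => ?_
    have := hx ⟨y, hy⟩
    rwa [hB] at this
  · intro y hy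
    apply Subtype.ext
    refine D.right _ fun x => ?_
    have := hy (W.mkQ x)
    rwa [hB] at this

/-- the duality of the submodule and the quotient by the orthogonal space -/
theorem Dul.sub (D : Dul ρ ρ' B) {W : Submodule k V} (hW : ∀ g, ∀ x ∈ W, ρ g x ∈ W) :
    ∃ B' : W →ₗ[k] (V' ⧸ orth B W) →ₗ[k] k, Dul (subRep ρ W hW) (quotRep ρ' (orth B W) (D.orth_inv hW)) B' ∧
      ∀ x y, B' x ((orth B W).mkQ y) = B x y := by
  let B0 : (V' ⧸ orth B W) →ₗ[k] W →ₗ[k] k := (orth B W).liftQ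
    (LinearMap.mk₂ k (fun y (x : W) => B (x : V) y) (fun y y' x => by rw [map_add])
      (fun c y x => by rw [map_smul]) (fun y x x' => by rw [Submodule.coe_add, map_add]; rfl)
      (fun c y x => by rw [Submodule.coe_smul, map_smul]; rfl)) (by
      intro y hy
      rw [LinearMap.mem_ker]
      ext x
      exact hy x x.2)
  have hB : ∀ x y, B0.flip x ((orth B W).mkQ y) = B x y := fun x y => rfl
  refine ⟨B0.flip, ⟨?_, ?_, ?_⟩, hB⟩
  · intro g x y
    obtain ⟨y, rfl⟩ := (orth B W).mkQ_surjective y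
    rw [quotRep_mk, hB, hB]
    exact D.inv g x y
  · intro x hx
    apply Subtype.ext
    refine D.left _ fun y => ?_
    have := hx ((orth B W).mkQ y)
    rwa [hB] at this
  · intro y hy
    obtain ⟨y, rfl⟩ := (orth B W).mkQ_surjective y
    rw [Submodule.mkQ_apply, Submodule.Quotient.mk_eq_zero]
    intro x hx
    have := hy ⟨x, hx⟩
    rwa [hB] at this

/-- the dual of an irreducible module is irreducible -/
theorem Dul.irr [FiniteDimensional k V] [FiniteDimensional k V'] (D : Dul ρ ρ' B)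
    (h : Nontrivial V ∧ ∀ W : Submodule k V, (∀ g, ∀ x ∈ W, ρ g x ∈ W) → W = ⊥ ∨ W = ⊤) :
    Nontrivial V' ∧ ∀ W : Submodule k V', (∀ g, ∀ x ∈ W, ρ' g x ∈ W) → W = ⊥ ∨ W = ⊤ := by
  refine ⟨?_, fun U hU => ?_⟩
  · by_contra hc
    rw [not_nontrivial_iff_subsingleton] at hc
    obtain ⟨x, y, hxy⟩ := h.1
    have h0 : ∀ z : V, z = 0 := fun z => D.left z fun y => by rw [Subsingleton.elim y 0, map_zero]
    exact hxy (by rw [h0 x, h0 y])
  · rcases h.2 (orth B.flip U) (D.flip.orth_inv hU) with h1 | h1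
    · right
      rw [eq_top_iff]
      intro y _
      refine D.flip.orth_orth U y fun x hx => ?_
      rw [h1, Submodule.mem_bot] at hx
      rw [hx, map_zero]
    · left
      rw [eq_bot_iff]
      intro y hy
      rw [Submodule.mem_bot]
      refine D.right y fun x => ?_
      have h2 : x ∈ orth B.flip U := by rw [h1]; trivial
      exact h2 y hy

end Pairing

variable {k : Type u} [Field k] [DecidableEq k] {F : Type w} [Field F] [Fintype F] [DecidableEq F] (ι : F →+* k)
variable (p : ℕ) [Fact p.Prime] [CharP k p] [CharP F p]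

/-- the coefficient of `mon 0` -/
theorem eval_zero {b : ℕ} {f : F × F → k} (hf : f ∈ Vb ι b) (a : F) : f (0, a) = ι a ^ b * f (0, 1) := by
  obtain ⟨c, rfl⟩ := mem_span_mon ι (Vb_le ι b hf)
  rw [Finset.sum_apply, Finset.sum_apply, Finset.mul_sum]
  refine Finset.sum_congr rfl fun m hm => ?_
  rw [Finset.mem_range] at hm
  show c m * mon ι b m (0, a) = ι a ^ b * (c m * mon ι b m (0, 1))
  unfold mon
  by_cases hmb : m = 0
  · rw [hmb, pow_zero, Nat.sub_zero, map_one, one_pow]
    ring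
  · rw [map_zero, zero_pow hmb]
    ring

/-- the lowest weight functional -/
theorem IsV.lw {V : Type*} [AddCommGroup V] [Module k V] {ρ : Representation k (_root_.Matrix.SpecialLinearGroup (Fin 2) F) V}
    {b : ℕ} (hV : IsV ι p ρ b) : ∃ f : V →ₗ[k] k, f ≠ 0 ∧ (∀ t x, f (ρ (u t) x) = f x) ∧
      ∀ (a : Fˣ) x, f (ρ (Cfsg.Agent.H943.SL2Rel.h a⁻¹) x) = ι (a : F) ^ b * f x := by
  obtain ⟨hb, φ, hφ⟩ := hV
  let δ : Vb ι b →ₗ[k] k := (LinearMap.proj ((0 : F), (1 : F))) ∘ₗ (Vb ι b).subtype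
  have hδ : ∀ x, δ x = (x : F × F → k) (0, 1) := fun _ => rfl
  have h0 : mon ι b 0 ∈ Vb ι b := Cfsg.Agent.H179.SLC.mon_mem_Vb ι p (neg_one_pow_Q ι) hb
    ⟨Nat.zero_le _, by rw [Nat.choose_zero_right, Nat.cast_one]; exact one_ne_zero⟩
  refine ⟨δ ∘ₗ (φ.symm : V →ₗ[k] Vb ι b), fun hc => ?_, fun t x => ?_, fun a x => ?_⟩
  · have h1 := LinearMap.congr_fun hc (φ ⟨_, h0⟩)
    have h2 : δ (φ.symm (φ ⟨_, h0⟩)) = 0 := h1
    rw [φ.symm_apply_apply, hδ] at h2
    have h3 : mon ι b 0 ((0 : F), (1 : F)) = 1 := by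
      unfold mon
      rw [pow_zero, Nat.sub_zero, map_one, one_pow, one_mul]
    exact one_ne_zero (h3.symm.trans h2)
  · obtain ⟨y, rfl⟩ := φ.surjective x
    show δ (φ.symm (ρ (u t) (φ y))) = δ (φ.symm (φ y))
    rw [← hφ, φ.symm_apply_apply, φ.symm_apply_apply, hδ, hδ]
    show fRep k F (u t) (y : F × F → k) (0, 1) = _
    rw [fRep_u, zero_mul, zero_add]
  · obtain ⟨y, rfl⟩ := φ.surjective x
    show δ (φ.symm (ρ _ (φ y))) = ι (a : F) ^ b * δ (φ.symm (φ y))
    rw [← hφ, φ.symm_apply_apply, φ.symm_apply_apply, hδ, hδ]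
    show fRep k F _ (y : F × F → k) (0, 1) = _
    rw [fRep_h, zero_mul, one_mul, Units.val_inv_eq_inv_val, inv_inv, eval_zero ι y.2]

omit [Fact p.Prime] [CharP k p] [CharP F p] [Fintype F] [DecidableEq F] in
theorem card_Bf_zero : (Bf k 0).card = 1 := by
  have : Bf k 0 = {0} := by
    ext m
    rw [mem_Bf, Finset.mem_singleton]
    unfold Bb
    rw [Set.mem_ofPred_eq]
    constructor
    · intro h
      omega
    · rintro rfl
      exact ⟨le_rfl, by rw [Nat.choose_self, Nat.cast_one]; exact one_ne_zero⟩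
  rw [this, Finset.card_singleton]

theorem card_Bf_pos {b : ℕ} (hb : 0 < b) : 2 ≤ (Bf k b).card := by
  have h1 : ({0, b} : Finset ℕ) ⊆ Bf k b := by
    intro m hm
    rw [Finset.mem_insert, Finset.mem_singleton] at hm
    rw [mem_Bf]
    rcases hm with rfl | rfl
    · exact ⟨Nat.zero_le _, by rw [Nat.choose_zero_right, Nat.cast_one]; exact one_ne_zero⟩
    · exact ⟨le_rfl, by rw [Nat.choose_self, Nat.cast_one]; exact one_ne_zero⟩
  have h2 := Finset.card_le_card h1
  rwa [Finset.card_pair (by omega)] at h2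

variable [IsAlgClosed k]

/-- **the simple modules are self-dual** -/
theorem IsV.dual {V : Type v} [AddCommGroup V] [Module k V] {V' : Type v} [AddCommGroup V'] [Module k V']
    [FiniteDimensional k V'] {ρ : Representation k (_root_.Matrix.SpecialLinearGroup (Fin 2) F) V}
    {ρ' : Representation k (_root_.Matrix.SpecialLinearGroup (Fin 2) F) V'} {B : V →ₗ[k] V' →ₗ[k] k} {b : ℕ} (hV : IsV ι p ρ b)
    (D : Dul ρ ρ' B) : IsV ι p ρ' b := by
  have hq := one_lt (F := F)
  have hfin := hV.finite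
  obtain ⟨c, hc⟩ := (Sy.{u, v, w} ι p).ex ρ' (D.irr hV.irr)
  have hc' : IsV ι p ρ' c := hc
  obtain ⟨f, hf0, hfu, hfh⟩ := hV.lw
  obtain ⟨y, hy⟩ := D.surj f
  have hy0 : y ≠ 0 := by
    rintro rfl
    apply hf0
    ext x
    rw [← hy x, map_zero]
    rfl
  have hyu : ∀ t, ρ' (u t) y = y := by
    intro t
    rw [← sub_eq_zero]
    refine D.right _ fun x => ?_
    rw [map_sub, D.inv', hy, hy, ← u_neg, hfu, sub_self]
  have hyh : ∀ a, ρ' (Cfsg.Agent.H943.SL2Rel.h a) y = ι (a : F) ^ b • y := by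
    intro a
    rw [← sub_eq_zero]
    refine D.right _ fun x => ?_
    rw [map_sub, D.inv', hy, ← h_inv, hfh, map_smul, hy, smul_eq_mul, sub_self]
  obtain ⟨m, hm0, hmu, hmh, hmS, hmD, hmf, hm⟩ := hc'.hw2
  obtain ⟨d, hd⟩ := hm y hyu
  have h1 : b % (Fintype.card F - 1) = c % (Fintype.card F - 1) := by
    refine mod_of_pow ι fun a => ?_
    have h2 := hyh a
    rw [hd, map_smul, hmh, smul_comm, ← hd] at h2
    have h3 : (ι (a : F) ^ c - ι (a : F) ^ b) • y = 0 := by rw [sub_smul, h2, sub_self]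
    exact (sub_eq_zero.1 ((smul_eq_zero.1 h3).resolve_right hy0)).symm
  have hbq := hV.choose
  have hcq := hc'.choose
  have hfr : (Bf k b).card = (Bf k c).card := by
    obtain ⟨m', -, -, -, -, -, hmf', -⟩ := hV.hw2
    rw [← hmf', ← hmf, D.finrank_eq]
  have hbc : b = c := by
    by_cases h2 : b < Fintype.card F - 1
    · by_cases h3 : c < Fintype.card F - 1
      · rwa [Nat.mod_eq_of_lt h2, Nat.mod_eq_of_lt h3] at h1
      · have h4 : c = Fintype.card F - 1 := by omega
        rw [h4, Nat.mod_self, Nat.mod_eq_of_lt h2] at h1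
        have h5 := card_Bf_pos (k := k) (b := c) (by omega)
        rw [← hfr, h1, card_Bf_zero] at h5
        omega
    · have h4 : b = Fintype.card F - 1 := by omega
      by_cases h3 : c < Fintype.card F - 1
      · rw [h4, Nat.mod_self, Nat.mod_eq_of_lt h3] at h1
        have h5 := card_Bf_pos (k := k) (b := b) (by omega)
        rw [hfr, ← h1, card_Bf_zero] at h5
        omega
      · omega
  rw [hbc]
  exact hc'

/-- **duality** -/
theorem cf_dual {V : Type v} [AddCommGroup V] [Module k V] [FiniteDimensional k V] {V' : Type v} [AddCommGroup V']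
    [Module k V'] [FiniteDimensional k V'] {ρ : Representation k (_root_.Matrix.SpecialLinearGroup (Fin 2) F) V}
    {ρ' : Representation k (_root_.Matrix.SpecialLinearGroup (Fin 2) F) V'} {B : V →ₗ[k] V' →ₗ[k] k} (D : Dul ρ ρ' B) :
    cf (Sy.{u, v, w} ι p) ρ' = cf (Sy.{u, v, w} ι p) ρ := by
  have key : ∀ (n : ℕ) (V : Type v) [AddCommGroup V] [Module k V] [FiniteDimensional k V] (V' : Type v)
      [AddCommGroup V'] [Module k V'] [FiniteDimensional k V'] (ρ : Representation k (_root_.Matrix.SpecialLinearGroup (Fin 2) F) V)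
      (ρ' : Representation k (_root_.Matrix.SpecialLinearGroup (Fin 2) F) V') (B : V →ₗ[k] V' →ₗ[k] k) (_ : Dul ρ ρ' B)
      (s : Multiset ℕ) (_ : JHn (Sy.{u, v, w} ι p) n ρ s), cf (Sy.{u, v, w} ι p) ρ' = s := by
    intro n
    induction n with
    | zero =>
      intro V _ _ _ V' _ _ _ ρ ρ' B D s hs
      have h1 := hs.1
      have h2 : Subsingleton V' := ⟨fun y z => by
        rw [← sub_eq_zero]
        exact D.right _ fun x => by rw [Subsingleton.elim x 0, map_zero]; rfl⟩
      rw [hs.2]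
      exact cf_zero _ ρ'
    | succ n ih =>
      intro V _ _ _ V' _ _ _ ρ ρ' B D s hs
      obtain ⟨W, hW, b, t, hb, rfl, ht⟩ := hs
      obtain ⟨B₁, D₁, -⟩ := D.quot hW
      obtain ⟨B₂, D₂, -⟩ := D.sub hW
      have h1 := ih _ _ _ _ B₁ D₁ t ht
      have h2 : IsV ι p (quotRep ρ' (orth B W) (D.orth_inv hW)) b := IsV.dual ι p hb D₂
      rw [cf_add _ ρ' (orth B W) (D.orth_inv hW), h1, cf_irr (Sy.{u, v, w} ι p) h2, add_comm]
      rfl
  obtain ⟨n, hn⟩ := cf_spec (Sy.{u, v, w} ι p) ρ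
  exact key n V V' ρ ρ' B D _ hn

end Cfsg.Agent.R2.H28.SL2
end
end

-- part: R2/H28/SL2/ExtY
section
prune_inst 0x20404030c0000000180596b30000204c000102004308000be00f060a41c8626945a6410ef01414029688d06800004000000010006000002400880040010020940356269318ad0c360007800004000000000000000000000000000000000000000000000
set_option linter.all false
open scoped Cfsg.Agent.FastGrp

-- part: R2/H28/SL2/ExtZ
section
/-!
# Splitting of modules (helper28)

For a labelling `S` of the irreducible representations: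
* `Ext0 S c b` : every extension of the irreducible module `c` by the irreducible module `b` splits;
* `lift0` : lifting of irreducible submodules of `V / W`;
* `compl_of_ext0` : `W` has an invariant complement if `Ext0 S c b` for all `b ∈ cf W`, `c ∈ cf (V / W)`;
* `block` : the decomposition of a module if there are no extensions between two sets of irreducible modules.
For `SL(2, q)`: `ext0_of_lft`, `ext0_symm`.
-/

set_option autoImplicit false
set_option linter.unusedSectionVars false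

namespace Cfsg.Agent.R2.H28.SL2

open Matrix Cfsg.Agent.H943.SL2Rel Cfsg.Agent.H943.SL2Mod Cfsg.Agent.H943.RepAdd

universe u v w

section General

variable {k : Type u} [Field k] {G : Type w} [Group G] {I : Type*} (S : Sys.{u, v, w} k G I)

/-- invariant subspaces -/
def Inva {V : Type*} [AddCommGroup V] [Module k V] (ρ : Representation k G V) (W : Submodule k V) : Prop :=
  ∀ g, ∀ x ∈ W, ρ g x ∈ W

/-- every extension of `c` by `b` splits -/
def Ext0 (c b : I) : Prop := ∀ (V : Type v) [AddCommGroup V] [Module k V] [FiniteDimensional k V]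
  (ρ : Representation k G V) (W : Submodule k V) (hW : ∀ g, ∀ x ∈ W, ρ g x ∈ W), S.P (subRep ρ W hW) b →
    S.P (quotRep ρ W hW) c → ∃ X : Submodule k V, Inva ρ X ∧ IsCompl W X

/-- the preimage of a submodule of a quotient -/
theorem eqv_comap {V : Type*} [AddCommGroup V] [Module k V] (ρ : Representation k G V) (W : Submodule k V)
    (hW : ∀ g, ∀ x ∈ W, ρ g x ∈ W) (Z : Submodule k (V ⧸ W)) (hZ : ∀ g, ∀ x ∈ Z, quotRep ρ W hW g x ∈ Z) :
    ∃ (hY : ∀ g, ∀ x ∈ Z.comap W.mkQ, ρ g x ∈ Z.comap W.mkQ)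
      (hW' : ∀ g, ∀ x ∈ W.comap (Z.comap W.mkQ).subtype, subRep ρ _ hY g x ∈ W.comap (Z.comap W.mkQ).subtype),
      Eqv (quotRep (subRep ρ _ hY) _ hW') (subRep (quotRep ρ W hW) Z hZ) ∧ Eqv (subRep (subRep ρ _ hY) _ hW') (subRep ρ W hW) := by
  have hY : ∀ g, ∀ x ∈ Z.comap W.mkQ, ρ g x ∈ Z.comap W.mkQ := fun g x hx => by
    show W.mkQ (ρ g x) ∈ Z
    rw [← quotRep_mk ρ W hW]
    exact hZ g _ hx
  have hW' : ∀ g, ∀ x ∈ W.comap (Z.comap W.mkQ).subtype, subRep ρ _ hY g x ∈ W.comap (Z.comap W.mkQ).subtype :=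
    fun g x hx => hW g x hx
  have hle : W ≤ Z.comap W.mkQ := fun x hx => by
    show W.mkQ x ∈ Z
    rw [(Submodule.Quotient.mk_eq_zero W).2 hx |> fun h => (show W.mkQ x = 0 from h)]
    exact Z.zero_mem
  refine ⟨hY, hW', ?_, ?_⟩
  · obtain ⟨e, he, -⟩ := quot_iso (subRep ρ _ hY) (subRep (quotRep ρ W hW) Z hZ)
      (LinearMap.codRestrict Z (W.mkQ ∘ₗ (Z.comap W.mkQ).subtype) fun x => x.2) (fun g x => Subtype.ext rfl)
      (by
        rintro ⟨z, hz⟩
        obtain ⟨x, rfl⟩ := W.mkQ_surjective z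
        exact ⟨⟨x, hz⟩, rfl⟩) _ hW' (fun x => by
          constructor
          · intro h
            exact (Submodule.Quotient.mk_eq_zero W).1 (congrArg Subtype.val h)
          · intro h
            exact Subtype.ext ((Submodule.Quotient.mk_eq_zero W).2 h))
    exact ⟨e, he⟩
  · let f : W.comap (Z.comap W.mkQ).subtype →ₗ[k] W :=
      { toFun := fun x => ⟨((x : Z.comap W.mkQ) : V), x.2⟩
        map_add' := fun _ _ => rfl
        map_smul' := fun _ _ => rfl }
    refine ⟨LinearEquiv.ofBijective f ⟨fun x y h => Subtype.ext (Subtype.ext ?_), fun x =>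
      ⟨⟨⟨x, hle x.2⟩, x.2⟩, rfl⟩⟩, fun g x => rfl⟩
    have h1 : ((f x : W) : V) = ((f y : W) : V) := by rw [h]
    exact h1

variable {S}

/-- **lifting of irreducible submodules** -/
theorem lift0' {c : I} (n : ℕ) : ∀ {V : Type v} [AddCommGroup V] [Module k V] [FiniteDimensional k V]
    {ρ : Representation k G V} (W : Submodule k V) (hW : ∀ g, ∀ x ∈ W, ρ g x ∈ W)
    {s : Multiset I}, JHn S n (subRep ρ W hW) s → (∀ b ∈ s, Ext0 S c b) → ∀ (Z : Submodule k (V ⧸ W))
    (hZ : ∀ g, ∀ x ∈ Z, quotRep ρ W hW g x ∈ Z), S.P (subRep (quotRep ρ W hW) Z hZ) c →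
    ∃ (X : Submodule k V) (hX : ∀ g, ∀ x ∈ X, ρ g x ∈ X), S.P (subRep ρ X hX) c ∧ X.map W.mkQ = Z ∧ X ⊓ W = ⊥ := by
  induction n with
  | zero =>
    intro V _ _ _ ρ W hW s hs _ Z hZ hc
    have hW00 : W = ⊥ := Submodule.subsingleton_iff_eq_bot.1 hs.1
    have hW0 : ∀ x ∈ W, x = 0 := fun x hx => by
      rw [hW00] at hx
      exact (Submodule.mem_bot k).1 hx
    obtain ⟨hY, hW', ⟨e1, he1⟩, -⟩ := eqv_comap ρ W hW Z hZ
    refine ⟨Z.comap W.mkQ, hY, ?_, Submodule.map_comap_eq_of_surjective W.mkQ_surjective Z, by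
      rw [eq_bot_iff]
      rintro x ⟨-, hx⟩
      exact (Submodule.mem_bot k).2 (hW0 x hx)⟩
    have h0 : ∀ x, x ∈ W.comap (Z.comap W.mkQ).subtype ↔ x = 0 := by
      intro x
      constructor
      · intro h
        exact Subtype.ext (hW0 _ h)
      · rintro rfl
        exact Submodule.zero_mem _
    obtain ⟨e, he, -⟩ := quot_iso (subRep ρ _ hY) (subRep ρ _ hY) LinearMap.id (fun _ _ => rfl)
      Function.surjective_id _ hW' (fun x => (h0 x).symm)
    exact S.iso _ _ c ((e1.symm).trans e) (fun g x => by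
      obtain ⟨y, rfl⟩ := e1.surjective x
      rw [← he1, LinearEquiv.trans_apply, LinearEquiv.trans_apply, e1.symm_apply_apply, e1.symm_apply_apply, he]) hc
  | succ n ih =>
    intro V _ _ _ ρ W hW s hs hE Z hZ hc
    obtain ⟨W₀, hW₀, b, t, hb, rfl, ht⟩ := hs
    obtain ⟨X, hX, hW₁, hXW, -, ⟨e1, he1⟩, he2⟩ := step ρ W hW W₀ hW₀
    have hbX : S.P (subRep ρ X hX) b := S.iso _ _ b e1 he1 hb
    -- the isomorphism of the quotients
    obtain ⟨e3, he3, he3'⟩ := quot_iso ρ (quotRep (quotRep ρ X hX) (W.map X.mkQ) hW₁) ((W.map X.mkQ).mkQ ∘ₗ X.mkQ)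
      (fun g x => rfl)
      ((W.map X.mkQ).mkQ_surjective.comp X.mkQ_surjective) W hW (fun x => by
        rw [LinearMap.comp_apply, Submodule.mkQ_apply, Submodule.Quotient.mk_eq_zero]
        constructor
        · rintro ⟨y, hy, h⟩
          have h5 : y - x ∈ X := (Submodule.Quotient.eq X).1 h
          have h6 : x = y - (y - x) := by abel
          rw [h6]
          exact W.sub_mem hy (hXW h5)
        · intro h
          exact ⟨x, h, rfl⟩)
    obtain ⟨hZ', e4, he4⟩ := eqv_map (quotRep ρ W hW) (quotRep (quotRep ρ X hX) (W.map X.mkQ) hW₁)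
      (e3 : (V ⧸ W) →ₗ[k] _) he3 e3.injective Z hZ
    obtain ⟨X₁, hX₁, hcX₁, hX₁Z, hX₁W⟩ := ih (W.map X.mkQ) hW₁ (JHn_iso _ he2 ht)
      (fun b' hb' => hE b' (Multiset.mem_cons_of_mem hb')) _ hZ' (S.iso _ _ c e4 he4 hc)
    obtain ⟨hY, hX', ⟨e5, he5⟩, ⟨e6, he6⟩⟩ := eqv_comap ρ X hX X₁ hX₁
    have hX'b : S.P (subRep (subRep ρ (X₁.comap X.mkQ) hY) (X.comap (X₁.comap X.mkQ).subtype) hX') b :=
      S.iso _ _ b e6.symm (fun g x => e6.injective (by rw [e6.apply_symm_apply, he6, e6.apply_symm_apply])) hbX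
    have hY'c : S.P (quotRep (subRep ρ (X₁.comap X.mkQ) hY) (X.comap (X₁.comap X.mkQ).subtype) hX') c :=
      S.iso _ _ c e5.symm (fun g x => e5.injective (by rw [e5.apply_symm_apply, he5, e5.apply_symm_apply])) hcX₁
    obtain ⟨T, hT, hcompl⟩ := hE b (Multiset.mem_cons_self b t) _ (subRep ρ (X₁.comap X.mkQ) hY) _ hX' hX'b hY'c
    -- the complement
    obtain ⟨hT', e7, he7⟩ := eqv_map (subRep ρ (X₁.comap X.mkQ) hY) ρ (X₁.comap X.mkQ).subtype (fun g x => rfl)
      (Submodule.injective_subtype _) T hT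
    have hTX : T.map (X₁.comap X.mkQ).subtype ⊓ X = ⊥ := by
      rw [eq_bot_iff]
      rintro _ ⟨⟨y, hy, rfl⟩, hyX⟩
      have h1 : y ∈ X.comap (X₁.comap X.mkQ).subtype ⊓ T := ⟨hyX, hy⟩
      rw [hcompl.inf_eq_bot, Submodule.mem_bot] at h1
      rw [h1, Submodule.mem_bot, map_zero]
    have hTsup : ∀ y, X.mkQ y ∈ X₁ → ∃ z ∈ T.map (X₁.comap X.mkQ).subtype, X.mkQ z = X.mkQ y := by
      intro y hy
      have h1 : (⟨y, hy⟩ : X₁.comap X.mkQ) ∈ X.comap (X₁.comap X.mkQ).subtype ⊔ T := by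
        rw [hcompl.sup_eq_top]
        trivial
      obtain ⟨a, ha, z, hz, e⟩ := Submodule.mem_sup.1 h1
      refine ⟨z, ⟨z, hz, rfl⟩, ?_⟩
      have h2 : (a : V) + z = y := congrArg Subtype.val e
      rw [← h2, map_add, (Submodule.Quotient.mk_eq_zero X).2 ha |> fun h => (show X.mkQ (a : V) = 0 from h), zero_add]
    refine ⟨T.map (X₁.comap X.mkQ).subtype, hT', ?_, ?_, ?_⟩
    · refine S.iso _ _ c e7 he7 ?_
      -- `T` is isomorphic to the quotient
      let f : T →ₗ[k] ((X₁.comap X.mkQ) ⧸ (X.comap (X₁.comap X.mkQ).subtype)) :=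
        (X.comap (X₁.comap X.mkQ).subtype).mkQ ∘ₗ T.subtype
      have hfi : Function.Injective f := by
        rw [← LinearMap.ker_eq_bot, LinearMap.ker_eq_bot']
        intro y hy
        have h1 : (y : X₁.comap X.mkQ) ∈ X.comap (X₁.comap X.mkQ).subtype ⊓ T :=
          ⟨(Submodule.Quotient.mk_eq_zero _).1 hy, y.2⟩
        rw [hcompl.inf_eq_bot, Submodule.mem_bot] at h1
        exact Subtype.ext h1
      have hfs : Function.Surjective f := by
        intro z
        obtain ⟨y, rfl⟩ := Submodule.mkQ_surjective _ z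
        have h1 : y ∈ X.comap (X₁.comap X.mkQ).subtype ⊔ T := by
          rw [hcompl.sup_eq_top]
          trivial
        obtain ⟨a, ha, z, hz, e⟩ := Submodule.mem_sup.1 h1
        refine ⟨⟨z, hz⟩, ?_⟩
        show (X.comap (X₁.comap X.mkQ).subtype).mkQ z = _
        rw [← e, map_add, (Submodule.Quotient.mk_eq_zero _).2 ha |> fun h =>
          (show (X.comap (X₁.comap X.mkQ).subtype).mkQ a = 0 from h), zero_add]
      let ef := LinearEquiv.ofBijective f ⟨hfi, hfs⟩
      exact S.iso _ (subRep (subRep ρ (X₁.comap X.mkQ) hY) T hT) c ef.symm (fun g x => ef.injective (by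
        rw [ef.apply_symm_apply]
        have h1 : ∀ y, ef (subRep (subRep ρ (X₁.comap X.mkQ) hY) T hT g y) =
          quotRep (subRep ρ (X₁.comap X.mkQ) hY) (X.comap (X₁.comap X.mkQ).subtype) hX' g (ef y) := fun y => rfl
        rw [h1, ef.apply_symm_apply])) hY'c
    · ext z
      constructor
      · rintro ⟨_, ⟨y, hy, rfl⟩, rfl⟩
        have h1 : (W.map X.mkQ).mkQ (X.mkQ (y : V)) ∈ X₁.map (W.map X.mkQ).mkQ := ⟨_, y.2, rfl⟩
        rw [hX₁Z] at h1
        obtain ⟨z', hz', e⟩ := h1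
        have h2 : e3 z' = e3 (W.mkQ (y : V)) := by
          rw [he3']
          exact e
        have h3 := e3.injective h2
        show W.mkQ (y : V) ∈ Z
        rw [← h3]
        exact hz'
      · intro hz
        have h1 : e3 z ∈ X₁.map (W.map X.mkQ).mkQ := by
          rw [hX₁Z]
          exact ⟨z, hz, rfl⟩
        obtain ⟨y', hy', e⟩ := h1
        obtain ⟨y, rfl⟩ := X.mkQ_surjective y'
        obtain ⟨z', hz', e'⟩ := hTsup y hy'
        refine ⟨z', hz', e3.injective ?_⟩
        rw [he3', ← e]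
        show (W.map X.mkQ).mkQ (X.mkQ z') = _
        rw [e']
    · rw [eq_bot_iff]
      rintro x ⟨hx1, hx2⟩
      have h1 : X.mkQ x ∈ X₁ ⊓ W.map X.mkQ := by
        obtain ⟨y, hy, rfl⟩ := hx1
        exact ⟨y.2, _, hx2, rfl⟩
      rw [hX₁W, Submodule.mem_bot] at h1
      have h2 : x ∈ T.map (X₁.comap X.mkQ).subtype ⊓ X := ⟨hx1, (Submodule.Quotient.mk_eq_zero X).1 h1⟩
      rwa [hTX] at h2

/-- **lifting of irreducible submodules** -/
theorem lift0 {V : Type v} [AddCommGroup V] [Module k V] [FiniteDimensional k V]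
    {ρ : Representation k G V} (W : Submodule k V) (hW : ∀ g, ∀ x ∈ W, ρ g x ∈ W) {c : I}
    (hE : ∀ b ∈ cf S (subRep ρ W hW), Ext0 S c b) (Z : Submodule k (V ⧸ W))
    (hZ : ∀ g, ∀ x ∈ Z, quotRep ρ W hW g x ∈ Z) (hc : S.P (subRep (quotRep ρ W hW) Z hZ) c) :
    ∃ (X : Submodule k V) (hX : ∀ g, ∀ x ∈ X, ρ g x ∈ X), S.P (subRep ρ X hX) c ∧ X.map W.mkQ = Z ∧ X ⊓ W = ⊥ := by
  obtain ⟨n, hn⟩ := cf_spec S (subRep ρ W hW)
  exact lift0' n W hW hn hE Z hZ hc

end General

end Cfsg.Agent.R2.H28.SL2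
end

-- part: R2/H28/SL2/ExtY
section
/-!
# Splitting of modules, II (helper28)

* `compl_of_ext0` : `W` has an invariant complement if `Ext0 S c b` for all `b ∈ cf W`, `c ∈ cf (V / W)`;
* `semisimple_of_ext0`, `block`;
* `exists_dul`, `ext0_symm`, `ext0_of_lft` for `SL(2, q)`.
-/

set_option autoImplicit false
set_option linter.unusedSectionVars false

namespace Cfsg.Agent.R2.H28.SL2

open Matrix Cfsg.Agent.H943.SL2Rel Cfsg.Agent.H943.SL2Mod Cfsg.Agent.H943.RepAdd

universe u v w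

section General

variable {k : Type u} [Field k] {G : Type w} [Group G]

/-- complements are isomorphic to the quotient -/
theorem eqv_of_compl {V : Type*} [AddCommGroup V] [Module k V] {ρ : Representation k G V} {W X : Submodule k V}
    (hW : ∀ g, ∀ x ∈ W, ρ g x ∈ W) (hX : ∀ g, ∀ x ∈ X, ρ g x ∈ X) (h : IsCompl W X) :
    Eqv (subRep ρ X hX) (quotRep ρ W hW) := by
  have hi : Function.Injective (W.mkQ ∘ₗ X.subtype) := by
    rw [← LinearMap.ker_eq_bot, LinearMap.ker_eq_bot']
    intro y hy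
    have h1 : (y : V) ∈ W ⊓ X := ⟨(Submodule.Quotient.mk_eq_zero _).1 hy, y.2⟩
    rw [h.inf_eq_bot, Submodule.mem_bot] at h1
    exact Subtype.ext h1
  have hs : Function.Surjective (W.mkQ ∘ₗ X.subtype) := by
    intro z
    obtain ⟨y, rfl⟩ := Submodule.mkQ_surjective _ z
    have h1 : y ∈ W ⊔ X := by
      rw [h.sup_eq_top]
      trivial
    obtain ⟨a, ha, z, hz, e⟩ := Submodule.mem_sup.1 h1
    refine ⟨⟨z, hz⟩, ?_⟩
    show W.mkQ z = _
    rw [← e, map_add, (Submodule.Quotient.mk_eq_zero _).2 ha |> fun h => (show W.mkQ a = 0 from h), zero_add]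
  exact ⟨LinearEquiv.ofBijective _ ⟨hi, hs⟩, fun g x => rfl⟩

/-- every representation has a dual one (on the same space) -/
theorem exists_dul {V : Type*} [AddCommGroup V] [Module k V] [FiniteDimensional k V] (ρ : Representation k G V) :
    ∃ (ρ' : Representation k G V) (B : V →ₗ[k] V →ₗ[k] k), Dul ρ ρ' B := by
  let e : V ≃ₗ[k] Module.Dual k V := (Module.finBasis k V).toDualEquiv
  let ρ' : Representation k G V :=
    { toFun := fun g => (e.symm : Module.Dual k V →ₗ[k] V) ∘ₗ (Representation.dual ρ g) ∘ₗ (e : V →ₗ[k] Module.Dual k V)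
      map_one' := by
        refine LinearMap.ext fun x => ?_
        show e.symm (Representation.dual ρ 1 (e x)) = x
        rw [map_one, Module.End.one_apply, e.symm_apply_apply]
      map_mul' := fun g g' => by
        refine LinearMap.ext fun x => ?_
        show e.symm (Representation.dual ρ (g * g') (e x)) =
          e.symm (Representation.dual ρ g (e (e.symm (Representation.dual ρ g' (e x)))))
        rw [map_mul, e.apply_symm_apply, Module.End.mul_apply] }
  have hρ' : ∀ g x, ρ' g x = e.symm (Representation.dual ρ g (e x)) := fun _ _ => rfl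
  refine ⟨ρ', (e : V →ₗ[k] Module.Dual k V).flip, ?_, ?_, ?_⟩
  · intro g x y
    show e (ρ' g y) (ρ g x) = e y x
    rw [hρ', e.apply_symm_apply]
    show e y (ρ g⁻¹ (ρ g x)) = e y x
    rw [← Module.End.mul_apply, ← map_mul, inv_mul_cancel, map_one, Module.End.one_apply]
  · intro x hx
    refine (Module.forall_dual_apply_eq_zero_iff k x).1 fun f => ?_
    have h1 := hx (e.symm f)
    have h2 : e (e.symm f) x = 0 := h1
    rwa [e.apply_symm_apply] at h2
  · intro y hy
    have h1 : e y = 0 := LinearMap.ext hy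
    exact e.map_eq_zero_iff.1 h1

variable {I : Type*} {S : Sys.{u, v, w} k G I}

/-- **complements** -/
theorem compl_of_ext0 {V : Type v} [AddCommGroup V] [Module k V] [FiniteDimensional k V]
    {ρ : Representation k G V} (W : Submodule k V) (hW : ∀ g, ∀ x ∈ W, ρ g x ∈ W)
    (hE : ∀ b ∈ cf S (subRep ρ W hW), ∀ c ∈ cf S (quotRep ρ W hW), Ext0 S c b) :
    ∃ (X : Submodule k V) (_ : ∀ g, ∀ x ∈ X, ρ g x ∈ X), IsCompl W X := by
  have key : ∀ (n : ℕ) (V : Type v) [AddCommGroup V] [Module k V] [FiniteDimensional k V]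
      (ρ : Representation k G V) (W : Submodule k V) (hW : ∀ g, ∀ x ∈ W, ρ g x ∈ W) (s t : Multiset I)
      (_ : cf S (subRep ρ W hW) = s) (_ : JHn S n (quotRep ρ W hW) t) (_ : ∀ b ∈ s, ∀ c ∈ t, Ext0 S c b),
      ∃ (X : Submodule k V) (_ : ∀ g, ∀ x ∈ X, ρ g x ∈ X), IsCompl W X := by
    intro n
    induction n with
    | zero =>
      intro V _ _ _ ρ W hW s t _ ht _
      have h1 : W = ⊤ := Submodule.Quotient.subsingleton_iff.1 ht.1
      refine ⟨⊥, fun g x hx => ?_, by rw [h1]; exact isCompl_top_bot⟩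
      rw [Submodule.mem_bot] at hx ⊢
      rw [hx, map_zero]
    | succ n ih =>
      intro V _ _ _ ρ W hW s t hs ht hE
      obtain ⟨Z, hZ, c, t', hc, rfl, ht'⟩ := ht
      obtain ⟨X, hX, hcX, hXZ, hXW⟩ := lift0 (S := S) W hW (c := c)
        (fun b hb => hE b (by rw [← hs]; exact hb) c (Multiset.mem_cons_self c t')) Z hZ hc
      -- the image of `W` modulo `X`
      have hW₁ : ∀ g, ∀ x ∈ W.map X.mkQ, quotRep ρ X hX g x ∈ W.map X.mkQ := by
        rintro g _ ⟨x, hx, rfl⟩
        exact ⟨_, hW g x hx, rfl⟩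
      have hfi : Function.Injective (LinearMap.codRestrict (W.map X.mkQ) (X.mkQ ∘ₗ W.subtype)
          fun x => ⟨x, x.2, rfl⟩) := by
        rw [← LinearMap.ker_eq_bot, LinearMap.ker_eq_bot']
        intro x hx
        have k1 : X.mkQ (x : V) = 0 := congrArg Subtype.val hx
        rw [Submodule.mkQ_apply, Submodule.Quotient.mk_eq_zero] at k1
        have k2 : (x : V) ∈ X ⊓ W := ⟨k1, x.2⟩
        rw [hXW, Submodule.mem_bot] at k2
        exact Subtype.ext k2
      have he1 : Eqv (subRep ρ W hW) (subRep (quotRep ρ X hX) (W.map X.mkQ) hW₁) :=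
        ⟨LinearEquiv.ofBijective _ ⟨hfi, by
          rintro ⟨_, x, hx, rfl⟩
          exact ⟨⟨x, hx⟩, rfl⟩⟩, fun g x => Subtype.ext rfl⟩
      -- the quotients
      have hker : ∀ x, (W.map X.mkQ).mkQ (X.mkQ x) = 0 ↔ Z.mkQ (W.mkQ x) = 0 := by
        intro x
        rw [Submodule.mkQ_apply, Submodule.Quotient.mk_eq_zero, Submodule.mkQ_apply (p := Z),
          Submodule.Quotient.mk_eq_zero, ← hXZ]
        constructor
        · rintro ⟨y, hy, h⟩
          have h5 : y - x ∈ X := (Submodule.Quotient.eq X).1 h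
          refine ⟨x - y, by rw [← neg_sub]; exact X.neg_mem h5, ?_⟩
          rw [map_sub, (Submodule.Quotient.mk_eq_zero W).2 hy |> fun h => (show W.mkQ y = 0 from h), sub_zero]
        · rintro ⟨y, hy, h⟩
          have h5 : y - x ∈ W := (Submodule.Quotient.eq W).1 h
          refine ⟨x - y, by rw [← neg_sub]; exact W.neg_mem h5, ?_⟩
          rw [map_sub, (Submodule.Quotient.mk_eq_zero X).2 hy |> fun h => (show X.mkQ y = 0 from h), sub_zero]
      have hinv : ∀ g, ∀ x ∈ LinearMap.ker (Z.mkQ ∘ₗ W.mkQ), ρ g x ∈ LinearMap.ker (Z.mkQ ∘ₗ W.mkQ) := by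
        intro g x hx
        rw [LinearMap.mem_ker, LinearMap.comp_apply] at hx ⊢
        rw [← quotRep_mk ρ W hW, ← quotRep_mk (quotRep ρ W hW) Z hZ, hx, map_zero]
      obtain ⟨e2, he2, -⟩ := quot_iso ρ (quotRep (quotRep ρ W hW) Z hZ) (Z.mkQ ∘ₗ W.mkQ) (fun g x => rfl)
        (Z.mkQ_surjective.comp W.mkQ_surjective) _ hinv (fun x => Iff.rfl)
      obtain ⟨e3, he3, -⟩ := quot_iso ρ (quotRep (quotRep ρ X hX) (W.map X.mkQ) hW₁) ((W.map X.mkQ).mkQ ∘ₗ X.mkQ)
        (fun g x => rfl) ((W.map X.mkQ).mkQ_surjective.comp X.mkQ_surjective) _ hinv (fun x => hker x)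
      have he4 : Eqv (quotRep (quotRep ρ W hW) Z hZ) (quotRep (quotRep ρ X hX) (W.map X.mkQ) hW₁) :=
        Eqv.trans (Eqv.symm ⟨e2, he2⟩) ⟨e3, he3⟩
      obtain ⟨Y', hY', hcompl⟩ := ih (V ⧸ X) (quotRep ρ X hX) (W.map X.mkQ) hW₁ s t'
        (by rw [← hs]; exact (cf_iso S he1).symm) (JHn_iso S he4 ht')
        (fun b hb c' hc' => hE b hb c' (Multiset.mem_cons_of_mem hc'))
      refine ⟨Y'.comap X.mkQ, fun g x hx => hY' g _ hx, ?_⟩
      rw [isCompl_iff, disjoint_iff, codisjoint_iff]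
      constructor
      · rw [eq_bot_iff]
        rintro x ⟨hx1, hx2⟩
        have h1 : X.mkQ x ∈ W.map X.mkQ ⊓ Y' := ⟨⟨x, hx1, rfl⟩, hx2⟩
        rw [hcompl.inf_eq_bot, Submodule.mem_bot] at h1
        have h2 : x ∈ X ⊓ W := ⟨(Submodule.Quotient.mk_eq_zero X).1 h1, hx1⟩
        rwa [hXW] at h2
      · rw [eq_top_iff]
        intro x _
        have h1 : X.mkQ x ∈ W.map X.mkQ ⊔ Y' := by
          rw [hcompl.sup_eq_top]
          trivial
        obtain ⟨_, ⟨y, hy, rfl⟩, z, hz, e⟩ := Submodule.mem_sup.1 h1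
        have h2 : x - y ∈ Y'.comap X.mkQ := by
          show X.mkQ (x - y) ∈ Y'
          rw [map_sub, ← e, add_sub_cancel_left]
          exact hz
        have h3 : x = y + (x - y) := by abel
        rw [h3]
        exact Submodule.add_mem_sup hy h2
  obtain ⟨n, hn⟩ := cf_spec S (quotRep ρ W hW)
  exact key n V ρ W hW _ _ rfl hn hE

theorem cf_sup {V : Type v} [AddCommGroup V] [Module k V] [FiniteDimensional k V] {ρ : Representation k G V}
    {W X : Submodule k V} (hW : ∀ g, ∀ x ∈ W, ρ g x ∈ W) (hX : ∀ g, ∀ x ∈ X, ρ g x ∈ X) (h : IsCompl W X) :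
    cf S ρ = cf S (subRep ρ W hW) + cf S (subRep ρ X hX) := by
  rw [cf_add S ρ W hW, cf_iso S (eqv_of_compl hW hX h)]

/-- **block decomposition** -/
theorem block (P : I → Prop) {V : Type v} [AddCommGroup V] [Module k V] [FiniteDimensional k V]
    {ρ : Representation k G V} (hE : ∀ b ∈ cf S ρ, ∀ c ∈ cf S ρ, P b → ¬ P c → Ext0 S c b ∧ Ext0 S b c) :
    ∃ (X : Submodule k V) (Y : Submodule k V) (hX : ∀ g, ∀ x ∈ X, ρ g x ∈ X) (hY : ∀ g, ∀ x ∈ Y, ρ g x ∈ Y),
      IsCompl X Y ∧ (∀ b ∈ cf S (subRep ρ X hX), P b) ∧ ∀ b ∈ cf S (subRep ρ Y hY), ¬ P b := by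
  classical
  have key : ∀ (n : ℕ) (V : Type v) [AddCommGroup V] [Module k V] [FiniteDimensional k V]
      (ρ : Representation k G V) (s : Multiset I) (_ : JHn S n ρ s)
      (_ : ∀ b ∈ s, ∀ c ∈ s, P b → ¬ P c → Ext0 S c b ∧ Ext0 S b c),
      ∃ (X : Submodule k V) (Y : Submodule k V) (hX : ∀ g, ∀ x ∈ X, ρ g x ∈ X) (hY : ∀ g, ∀ x ∈ Y, ρ g x ∈ Y),
      IsCompl X Y ∧ (∀ b ∈ cf S (subRep ρ X hX), P b) ∧ ∀ b ∈ cf S (subRep ρ Y hY), ¬ P b := by
    intro n
    induction n with
    | zero =>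
      intro V _ _ _ ρ s hs _
      have hV := hs.1
      have hinv : ∀ (X : Submodule k V), ∀ g, ∀ x ∈ X, ρ g x ∈ X := fun X g x hx => by
        rw [Subsingleton.elim (ρ g x) x]
        exact hx
      refine ⟨⊥, ⊤, hinv _, hinv _, isCompl_bot_top, ?_, ?_⟩
      · intro b hb
        rw [cf_zero S] at hb
        exact absurd hb (Multiset.notMem_zero b)
      · intro b hb
        rw [cf_zero S] at hb
        exact absurd hb (Multiset.notMem_zero b)
    | succ n ih =>
      intro V _ _ _ ρ s hs hE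
      obtain ⟨W, hW, b, t, hb, rfl, ht⟩ := hs
      obtain ⟨U₁, U₂, hU₁, hU₂, hU, hP₁, hP₂⟩ := ih (V ⧸ W) (quotRep ρ W hW) t ht
        (fun b' hb' c' hc' => hE b' (Multiset.mem_cons_of_mem hb') c' (Multiset.mem_cons_of_mem hc'))
      have hcft : cf S (quotRep ρ W hW) = t := cf_eq S ht
      have hcfW : cf S (subRep ρ W hW) = {b} := cf_irr S hb
      -- general argument
      have gen : ∀ (A B : Submodule k (V ⧸ W)) (hA : ∀ g, ∀ x ∈ A, quotRep ρ W hW g x ∈ A)
          (hB : ∀ g, ∀ x ∈ B, quotRep ρ W hW g x ∈ B) (_ : IsCompl A B)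
          (_ : ∀ c ∈ cf S (subRep (quotRep ρ W hW) B hB), Ext0 S c b),
          ∃ (X Y : Submodule k V) (hX : ∀ g, ∀ x ∈ X, ρ g x ∈ X) (hY : ∀ g, ∀ x ∈ Y, ρ g x ∈ Y), IsCompl X Y ∧
            cf S (subRep ρ X hX) = cf S (subRep (quotRep ρ W hW) A hA) + {b} ∧
            cf S (subRep ρ Y hY) = cf S (subRep (quotRep ρ W hW) B hB) := by
        intro A B hA hB hAB hext
        obtain ⟨hYA, hWA, he1, he2⟩ := eqv_comap ρ W hW A hA
        obtain ⟨hYB, hWB, he3, he4⟩ := eqv_comap ρ W hW B hB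
        have hle : ∀ C : Submodule k (V ⧸ W), W ≤ C.comap W.mkQ := fun C x hx => by
          show W.mkQ x ∈ C
          rw [(Submodule.Quotient.mk_eq_zero W).2 hx |> fun h => (show W.mkQ x = 0 from h)]
          exact C.zero_mem
        -- a complement in the preimage of `B`
        obtain ⟨T, hT, hTc⟩ := compl_of_ext0 (S := S) (ρ := subRep ρ (B.comap W.mkQ) hYB) _ hWB (by
          intro b' hb' c hc
          rw [cf_iso S he4, hcfW, Multiset.mem_singleton] at hb'
          rw [cf_iso S he3] at hc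
          rw [hb']
          exact hext c hc)
        obtain ⟨hT', he5⟩ := eqv_map (subRep ρ (B.comap W.mkQ) hYB) ρ (B.comap W.mkQ).subtype (fun g x => rfl)
          (Submodule.injective_subtype _) T hT
        have hTW : ∀ x, x ∈ T.map (B.comap W.mkQ).subtype → x ∈ W → x = 0 := by
          rintro _ ⟨y, hy, rfl⟩ hyW
          have h1 : y ∈ W.comap (B.comap W.mkQ).subtype ⊓ T := ⟨hyW, hy⟩
          rw [hTc.inf_eq_bot, Submodule.mem_bot] at h1
          rw [h1, map_zero]
        refine ⟨A.comap W.mkQ, T.map (B.comap W.mkQ).subtype, hYA, hT', ?_, ?_, ?_⟩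
        · rw [isCompl_iff, disjoint_iff, codisjoint_iff]
          constructor
          · rw [eq_bot_iff]
            rintro x ⟨hx1, hx2⟩
            have h1 : W.mkQ x ∈ A ⊓ B := by
              refine ⟨hx1, ?_⟩
              obtain ⟨y, -, rfl⟩ := hx2
              exact y.2
            rw [hAB.inf_eq_bot, Submodule.mem_bot] at h1
            exact (Submodule.mem_bot k).2 (hTW x hx2 ((Submodule.Quotient.mk_eq_zero W).1 h1))
          · rw [eq_top_iff]
            intro x _
            have h1 : W.mkQ x ∈ A ⊔ B := by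
              rw [hAB.sup_eq_top]
              trivial
            obtain ⟨y, hy, z, hz, e⟩ := Submodule.mem_sup.1 h1
            obtain ⟨z, rfl⟩ := W.mkQ_surjective z
            have h2 : (⟨z, hz⟩ : B.comap W.mkQ) ∈ W.comap (B.comap W.mkQ).subtype ⊔ T := by
              rw [hTc.sup_eq_top]
              trivial
            obtain ⟨a, ha, t', ht', e'⟩ := Submodule.mem_sup.1 h2
            have e'' : (a : V) + t' = z := congrArg Subtype.val e'
            have h3 : x - t' ∈ A.comap W.mkQ := by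
              show W.mkQ (x - t') ∈ A
              rw [map_sub, ← e, ← e'', map_add,
                (Submodule.Quotient.mk_eq_zero W).2 ha |> fun h => (show W.mkQ (a : V) = 0 from h), zero_add,
                add_sub_cancel_right]
              exact hy
            have h4 : x = (x - t') + t' := by abel
            rw [h4]
            exact Submodule.add_mem_sup h3 ⟨t', ht', rfl⟩
        · rw [cf_add S (subRep ρ (A.comap W.mkQ) hYA) _ hWA, cf_iso S he1, cf_iso S he2, hcfW, add_comm]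
        · rw [← cf_iso S he5, cf_iso S (eqv_of_compl hWB hT hTc), cf_iso S he3]
      have hmem₁ : ∀ c ∈ cf S (subRep (quotRep ρ W hW) U₁ hU₁), c ∈ t := fun c hc => by
        rw [← hcft]
        exact Multiset.mem_of_le (cf_sub_le S _ _ _) hc
      have hmem₂ : ∀ c ∈ cf S (subRep (quotRep ρ W hW) U₂ hU₂), c ∈ t := fun c hc => by
        rw [← hcft]
        exact Multiset.mem_of_le (cf_sub_le S _ _ _) hc
      by_cases hPb : P b
      · obtain ⟨X, Y, hX, hY, hXY, h1, h2⟩ := gen U₁ U₂ hU₁ hU₂ hU fun c hc =>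
          (hE b (Multiset.mem_cons_self b t) c (Multiset.mem_cons_of_mem (hmem₂ c hc)) hPb (hP₂ c hc)).1
        refine ⟨X, Y, hX, hY, hXY, fun c hc => ?_, fun c hc => ?_⟩
        · rw [h1, Multiset.mem_add, Multiset.mem_singleton] at hc
          rcases hc with hc | rfl
          · exact hP₁ c hc
          · exact hPb
        · rw [h2] at hc
          exact hP₂ c hc
      · obtain ⟨X, Y, hX, hY, hXY, h1, h2⟩ := gen U₂ U₁ hU₂ hU₁ hU.symm fun c hc =>
          (hE c (Multiset.mem_cons_of_mem (hmem₁ c hc)) b (Multiset.mem_cons_self b t) (hP₁ c hc) hPb).2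
        refine ⟨Y, X, hY, hX, hXY.symm, fun c hc => ?_, fun c hc => ?_⟩
        · rw [h2] at hc
          exact hP₁ c hc
        · rw [h1, Multiset.mem_add, Multiset.mem_singleton] at hc
          rcases hc with hc | rfl
          · exact hP₂ c hc
          · exact hPb
  obtain ⟨n, hn⟩ := cf_spec S ρ
  exact key n V ρ _ hn hE

end General

variable {k : Type u} [Field k] [DecidableEq k] {F : Type w} [Field F] [Fintype F] [DecidableEq F] (ι : F →+* k)
variable (p : ℕ) [Fact p.Prime] [CharP k p] [CharP F p] [IsAlgClosed k]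

/-- **no extensions** -/
theorem ext0_of_lft {a : ℕ} (hF : Fintype.card F = p ^ a) {c b : ℕ} (h : Lft p a c b) :
    Ext0 (Sy.{u, v, w} ι p) c b := by
  intro V _ _ _ ρ W hW hb hc
  have htop : ∀ g, ∀ x ∈ (⊤ : Submodule k (V ⧸ W)), quotRep ρ W hW g x ∈ (⊤ : Submodule k (V ⧸ W)) :=
    fun _ _ _ => trivial
  obtain ⟨X, hX, -, h1, h2⟩ := lift_irr ι p hF W hW ⊤ htop
    (IsV.iso ι p Submodule.topEquiv.symm (fun g x => Subtype.ext rfl) hc) (fun b' hb' => by
      have h3 : cf (Sy.{u, v, w} ι p) (subRep ρ W hW) = {b} := cf_irr _ hb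
      rw [h3, Multiset.mem_singleton] at hb'
      rw [hb']
      exact h)
  refine ⟨X, hX, ?_⟩
  rw [isCompl_iff, disjoint_iff, codisjoint_iff]
  refine ⟨by rw [inf_comm]; exact h2, ?_⟩
  rw [eq_top_iff]
  intro x _
  have h3 : W.mkQ x ∈ X.map W.mkQ := by
    rw [h1]
    trivial
  obtain ⟨y, hy, e⟩ := h3
  have h4 : x - y ∈ W := by
    have h5 : y - x ∈ W := (Submodule.Quotient.eq W).1 e
    rw [← neg_sub]
    exact W.neg_mem h5
  have h6 : x = (x - y) + y := by abel
  rw [h6]
  exact Submodule.add_mem_sup h4 hy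

/-- **symmetry** -/
theorem ext0_symm {c b : ℕ} (h : Ext0 (Sy.{u, v, w} ι p) c b) : Ext0 (Sy.{u, v, w} ι p) b c := by
  intro V _ _ _ ρ W hW hc hb
  obtain ⟨ρ', B, D⟩ := exists_dul ρ
  obtain ⟨B₁, D₁, -⟩ := D.quot hW
  obtain ⟨B₂, D₂, -⟩ := D.sub hW
  obtain ⟨X', hX', hcompl⟩ := h V ρ' (orth B W) (D.orth_inv hW) (IsV.dual ι p hb D₁) (IsV.dual ι p hc D₂)
  refine ⟨orth B.flip X', D.flip.orth_inv hX', ?_⟩
  rw [isCompl_iff, disjoint_iff, codisjoint_iff]
  constructor
  · rw [eq_bot_iff]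
    rintro x ⟨hx1, hx2⟩
    rw [Submodule.mem_bot]
    refine D.left x fun y => ?_
    have h1 : y ∈ orth B W ⊔ X' := by
      rw [hcompl.sup_eq_top]
      trivial
    obtain ⟨y₁, hy₁, y₂, hy₂, rfl⟩ := Submodule.mem_sup.1 h1
    rw [map_add, hy₁ x hx1]
    have h2 : B x y₂ = 0 := hx2 y₂ hy₂
    rw [h2, add_zero]
  · rw [eq_top_iff]
    intro x _
    refine D.orth_orth _ x fun y hy => ?_
    have h1 : y ∈ orth B W ⊓ X' := by
      refine ⟨fun z hz => hy z (Submodule.mem_sup_left hz), ?_⟩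
      refine D.flip.orth_orth X' y fun z hz => ?_
      exact hy z (Submodule.mem_sup_right hz)
    rw [hcompl.inf_eq_bot, Submodule.mem_bot] at h1
    rw [h1, map_zero]

end Cfsg.Agent.R2.H28.SL2
end
end

-- part: R2/GEO/Main
section
prune_inst 0x100040000a2000000000586b10000000000009200400800c200000c004088604900a00000200014020004000008002001000000426000000e000000000100001000040081080008020006000000000000000000000000000000000000000000000000000
set_option linter.all false
open scoped Cfsg.Agent.FastGrp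

-- part: R2/GEO/Rank
section
/-!
# The rank of `cr v` on the 27-dimensional module of `E₆`, over any field (R2/GEO, helper17)

`kr v = {z | cr v z = 0}`.

* `finrank_kr_le` : `v ≠ 0 → dim (kr v) ≤ 17`;
* `finrank_kr_white` : `v ≠ 0`, `sh v = 0` → `dim (kr v) = 17`;
* `finrank_kr_gray` : `sh v ≠ 0`, `cubicT v = 0` → `dim (kr v) = 9`.
-/

set_option autoImplicit false

namespace Cfsg.Agent.R2.GEO

open Cfsg.Lie Module
open Cfsg.Agent.ChevalleyStructure Cfsg.Agent.ChevalleyStructure.E6Form.Cubic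
  Cfsg.Agent.ChevalleyStructure.E6Form.Table Cfsg.Agent.ChevalleyStructure.E6Form.Elim
open Cfsg.Agent.ChevalleyStructure.E6Min.Basic (Zgrp zM zU)
open Cfsg.Agent.H203.E6
open Cfsg.Agent.H952.F4 (sh cr tf)
open Cfsg.Agent.H952.F4.Jord

universe u

variable {F : Type u} [Field F]

/-- the bilinear cross -/
noncomputable def crB (F : Type u) [Field F] : (I27 → F) →ₗ[F] (I27 → F) →ₗ[F] (I27 → F) :=
  LinearMap.mk₂ F cr cr_add_left cr_smul_left cr_add_right cr_smul_right

theorem crB_apply (x y : I27 → F) : crB F x y = cr x y := rfl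

/-- the kernel of `cr v` -/
noncomputable def kr (v : I27 → F) : Submodule F (I27 → F) := LinearMap.ker (crB F v)

theorem mem_kr {v z : I27 → F} : z ∈ kr v ↔ cr v z = 0 := by
  unfold kr
  rw [LinearMap.mem_ker, crB_apply]

theorem tri_eq_tf (x y z : I27 → F) : tri x y z = tf (cr x y) z := by
  have h1 := Q_add_left x y z
  rw [Q_eq, Q_eq, Q_eq] at h1
  unfold Cfsg.Agent.H952.F4.cr
  have h2 : tf (sh (x + y) - sh x - sh y) z = tf (sh (x + y)) z - tf (sh x) z - tf (sh y) z := by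
    rw [sub_eq_add_neg, sub_eq_add_neg, tf_add_left, tf_add_left, ← neg_one_smul F (sh x), ← neg_one_smul F (sh y),
      tf_smul_left, tf_smul_left]
    ring
  rw [h2, h1]
  ring

theorem mem_kr_tri {v z : I27 → F} : z ∈ kr v ↔ ∀ y, tri v z y = 0 := by
  rw [mem_kr]
  constructor
  · intro h y
    rw [tri_eq_tf, h]
    have h1 := tf_smul_left (0 : F) (0 : I27 → F) y
    rwa [zero_smul, zero_mul] at h1
  · intro h
    exact tf_nondeg fun y => by rw [← tri_eq_tf, h]

theorem kr_act {g : GL I27 F} (hg : g ∈ Zgrp F) (v : I27 → F) : kr (act g v) = mp g (kr v) := by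
  ext z
  rw [mem_mp, mem_kr_tri, mem_kr_tri]
  constructor
  · intro h y
    have h1 := tri_act' hg v (act g⁻¹ z) y
    rw [act_act_inv] at h1
    rw [← h1, h]
  · intro h y
    have h1 := tri_act' hg v (act g⁻¹ z) (act g⁻¹ y)
    rw [act_act_inv, act_act_inv] at h1
    rw [h1, h]

theorem finrank_kr_act {g : GL I27 F} (hg : g ∈ Zgrp F) (v : I27 → F) :
    finrank F (kr (act g v)) = finrank F (kr v) := by
  rw [kr_act hg, finrank_mp]

/-! ### dimensions -/

/-- upper bound -/
theorem finrank_le_of {W : Submodule F (I27 → F)} (L : List I27)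
    (h : ∀ z ∈ W, (∀ a ∈ L, z a = 0) → z = 0) : finrank F W ≤ L.length := by
  by_contra hcon
  obtain ⟨x, hx, hx0, hxL⟩ := exists_reduced W L (by omega)
  exact hx0 (h x hx hxL)

/-- lower bound -/
theorem le_finrank_of {W : Submodule F (I27 → F)} {n : ℕ} (f : (I27 → F) →ₗ[F] (Fin n → F))
    (h : ∀ z, f z = 0 → z ∈ W) : 27 - n ≤ finrank F W := by
  have h1 := LinearMap.finrank_range_add_finrank_ker f
  have h2 : finrank F (LinearMap.range f) ≤ n := by
    refine (Submodule.finrank_le _).trans ?_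
    rw [finrank_fin_fun]
  have h3 : finrank F (LinearMap.ker f) ≤ finrank F W :=
    Submodule.finrank_mono fun z hz => h z (LinearMap.mem_ker.1 hz)
  have h4 : finrank F (I27 → F) = 27 := by
    rw [finrank_fintype_fun_eq_card]
    rfl
  omega

/-- the coordinates of a list -/
def coordL (F : Type u) [Field F] (L : List I27) : (I27 → F) →ₗ[F] (Fin L.length → F) :=
  LinearMap.pi fun i => LinearMap.proj (L.get i)

theorem coordL_eq_zero {L : List I27} {z : I27 → F} (h : coordL F L z = 0) : ∀ a ∈ L, z a = 0 := by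
  intro a ha
  obtain ⟨i, rfl⟩ := List.mem_iff_get.1 ha
  exact congrFun h i

/-! ### combinatorics of the weights -/

theorem th_of_nc {l a b : I27} (h1 : nc l a = true) (h2 : nc l b = true) (h3 : nc a b = true) : th a b = l := by
  have h := forall_wts (p := fun l => wts.all fun a => !(nc l a) || wts.all fun b => !(nc l b) || !(nc a b) ||
    (th a b == l)) (by decide +kernel) l
  have h' := forall_wts h a
  rw [h1, Bool.not_true, Bool.false_or] at h'
  have h'' := forall_wts h' b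
  simp only [h2, h3, Bool.not_true, Bool.false_or, beq_iff_eq] at h''
  exact h''

theorem length_nc (l : I27) : (wts.filter fun a => nc l a).length = 10 ∧ (wts.filter fun a => !(nc l a)).length = 17 := by
  have h := forall_wts (p := fun l => ((wts.filter fun a => nc l a).length == 10) &&
    ((wts.filter fun a => !(nc l a)).length == 17)) (by decide +kernel) l
  simpa using h

/-! ### reduction -/

/-- after an element of the group, a non-zero vector is supported on `l` and the weights non-collinear with `l` -/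
theorem exists_clear {v : I27 → F} (hv : v ≠ 0) : ∃ g ∈ Zgrp F, ∃ l : I27, act g v l ≠ 0 ∧
    ∀ b, ip l b = 1 → act g v b = 0 := by
  obtain ⟨l, hl⟩ : ∃ l, v l ≠ 0 := by
    by_contra hcon
    push Not at hcon
    exact hv (funext hcon)
  obtain ⟨h, hh, h1, h2, -⟩ := clear (Zgrp F) l v hl (fun r hr q _ _ _ t => zG_mem hr t)
    (wts.filter fun b => ip l b == 1) (fun b hb => by simpa using (List.mem_filter.1 hb).2)
  refine ⟨h, hh, l, by rw [h1]; exact hl, fun b hb => h2 b ?_⟩
  exact List.mem_filter.2 ⟨mem_wts b, by simpa using hb⟩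

/-- the value of `tri v z (e c)` for `v` supported on `l` and the weights non-collinear with `l`, `z` on the latter -/
theorem tri_supp {l : I27} {v z : I27 → F} (hv : ∀ b, ip l b = 1 → v b = 0)
    (hz : ∀ b, nc l b = false → z b = 0) {b : I27} (hb : nc l b = true) :
    tri v z (e F (th l b)) = ((sg l b : ℤ) : F) * (v l * z b) := by
  rw [tri_formula, Finset.sum_eq_single l, Finset.sum_eq_single b]
  · rw [if_pos hb, e_self, mul_one]
  · intro c _ hc
    split_ifs with h1
    · rw [e_ne, mul_zero, mul_zero]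
      intro h2
      apply hc
      have h3 := ((th_facts l c).1 h1).2.2.1
      rw [h2, ((th_facts l b).1 hb).2.2.1] at h3
      exact h3.symm
    · rfl
  · intro h; exact absurd (Finset.mem_univ _) h
  · intro a _ ha
    refine Finset.sum_eq_zero fun c _ => ?_
    split_ifs with h1
    · by_cases h2 : nc l c = true
      · rcases ip_cases l a with h3 | h3 | h3
        · exact absurd h3.2.symm ha
        · rw [hv a h3.1]; ring
        · have h4 := th_of_nc h3.2.2 h2 h1
          rw [h4, e_ne, mul_zero, mul_zero]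
          intro h5
          have h6 := ((th_facts l b).1 hb).2.1
          have h7 := (th_facts l (th l b)).2 h6
          exact h7 h5
      · rw [hz c (by simpa using h2)]; ring
    · rfl
  · intro h; exact absurd (Finset.mem_univ _) h

theorem finrank_kr_le_of {l : I27} {v : I27 → F} (hl : v l ≠ 0) (hv : ∀ b, ip l b = 1 → v b = 0) :
    finrank F (kr v) ≤ 17 := by
  rw [← (length_nc l).2]
  refine finrank_le_of _ fun z hz h => ?_
  have hz0 : ∀ b, nc l b = false → z b = 0 := fun b hb => h b (List.mem_filter.2 ⟨mem_wts b, by rw [hb]; rfl⟩)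
  funext b
  by_cases hb : nc l b = true
  · have h1 := mem_kr_tri.1 hz (e F (th l b))
    rw [tri_supp hv hz0 hb] at h1
    exact (mul_eq_zero.1 ((mul_eq_zero.1 h1).resolve_left (sg_ne_zero hb))).resolve_left hl
  · exact hz0 b (by simpa using hb)

/-- **(G1)** -/
theorem finrank_kr_le {v : I27 → F} (hv : v ≠ 0) : finrank F (kr v) ≤ 17 := by
  obtain ⟨g, hg, l, hl, h⟩ := exists_clear hv
  rw [← finrank_kr_act hg]
  exact finrank_kr_le_of hl h

theorem kr_smul {c : F} (hc : c ≠ 0) (v : I27 → F) : kr (c • v) = kr v := by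
  ext z
  rw [mem_kr, mem_kr, cr_smul_left, smul_eq_zero]
  exact ⟨fun h => h.resolve_left hc, Or.inr⟩

theorem exists_eliminate {v : I27 → F} (hv : v ≠ 0) (hs : sh v = 0) : ∃ g ∈ Zgrp F, ∃ (l : I27) (c : F), c ≠ 0 ∧
    act g v = c • e F l := by
  obtain ⟨l, hl⟩ : ∃ l, v l ≠ 0 := by
    by_contra hcon
    push Not at hcon
    exact hv (funext hcon)
  obtain ⟨h, hh, h1⟩ := eliminate' (Zgrp F) le_rfl l ((singular_iff v).2 hs) hl (fun r hr q _ _ _ t => zG_mem hr t)
  exact ⟨h, hh, l, _, hl, h1⟩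

theorem tri_e_left (a : I27) (z : I27 → F) (c : I27) :
    tri (e F a) z (e F c) = if nc a c = true then ((sg a c : ℤ) : F) * z (th a c) else 0 := by
  rw [tri_comm23, tri_e_e]

theorem tri_sum_right {x y : I27 → F} (h : ∀ c, tri x y (e F c) = 0) : ∀ z, tri x y z = 0 := by
  have h1 : cr x y = 0 := by
    funext a
    have h2 := h (du a)
    rw [tri_eq_tf, tf_e, du_du] at h2
    exact h2
  intro z
  rw [tri_eq_tf, h1]
  have h2 := tf_smul_left (0 : F) (0 : I27 → F) z
  rwa [zero_smul, zero_mul] at h2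

theorem mem_kr_e {l : I27} {z : I27 → F} : z ∈ kr (e F l) ↔ ∀ b, nc l b = true → z b = 0 := by
  rw [mem_kr_tri]
  constructor
  · intro h b hb
    have h1 := h (e F (th l b))
    obtain ⟨-, h2, h3, -, -⟩ := (th_facts l b).1 hb
    rw [tri_e_left, if_pos h2, h3] at h1
    exact (mul_eq_zero.1 h1).resolve_left (sg_ne_zero h2)
  · intro h
    refine tri_sum_right fun c => ?_
    rw [tri_e_left]
    split_ifs with h1
    · rw [h _ ((th_facts l c).1 h1).2.1, mul_zero]
    · rfl

/-- **(G1')** -/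
theorem finrank_kr_white {v : I27 → F} (hv : v ≠ 0) (hs : sh v = 0) : finrank F (kr v) = 17 := by
  refine le_antisymm (finrank_kr_le hv) ?_
  obtain ⟨g, hg, l, c, hc, h⟩ := exists_eliminate hv hs
  rw [← finrank_kr_act hg, h, kr_smul hc]
  have h1 := le_finrank_of (W := kr (e F l)) (coordL F (wts.filter fun a => nc l a)) fun z hz => mem_kr_e.2 fun b hb =>
    coordL_eq_zero hz b (List.mem_filter.2 ⟨mem_wts b, hb⟩)
  rw [(length_nc l).1] at h1
  exact h1

/-! ### gray vectors -/

theorem tf_zero_left (z : I27 → F) : tf (0 : I27 → F) z = 0 := by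
  have h2 := tf_smul_left (0 : F) (0 : I27 → F) z
  rwa [zero_smul, zero_mul] at h2

end Cfsg.Agent.R2.GEO
end

-- part: R2/GEO/Four
section
/-!
# Totally singular subspaces of dimension 4 and 5, over any field (R2/GEO, helper17)

Everything in terms of matrices; see `Main.lean` for the statements to use.
-/

set_option autoImplicit false

namespace Cfsg.Agent.R2.GEO

open Cfsg.Lie Module
open Cfsg.Agent.ChevalleyStructure Cfsg.Agent.ChevalleyStructure.E6Form.Cubic
  Cfsg.Agent.ChevalleyStructure.E6Form.Table Cfsg.Agent.ChevalleyStructure.E6Form.Elim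
open Cfsg.Agent.ChevalleyStructure.E6Min.Basic (Zgrp zM zU)
open Cfsg.Agent.H203.E6
open Cfsg.Agent.H952.F4 (sh cr tf)
open Cfsg.Agent.H952.F4.Jord

universe u

variable {F : Type u} [Field F]

/-- the first four weights of `T6` -/
def L4 : List I27 := [(0, 2, 0), (0, 2, 1), (0, 2, 2), (2, 0, 1)]

/-- a maximal totally singular set of five weights -/
def L5 : List I27 := [(0, 2, 0), (0, 2, 1), (0, 2, 2), (2, 0, 1), (2, 0, 0)]

/-- the vectors supported on `L` -/
def sup (F : Type u) [Field F] (L : List I27) : Submodule F (I27 → F) where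
  carrier := {x | ∀ a, a ∉ L → x a = 0}
  add_mem' {x y} hx hy a ha := by rw [Pi.add_apply, hx a ha, hy a ha, add_zero]
  zero_mem' a _ := rfl
  smul_mem' c x hx a ha := by rw [Pi.smul_apply, hx a ha, smul_zero]

theorem W6_eq : W6 F = sup F T6 := rfl

theorem finrank_sup_le (L : List I27) : finrank F (sup F L) ≤ L.length := by
  refine finrank_le_of L fun z hz h => ?_
  funext a
  by_cases ha : a ∈ L
  · exact h a ha
  · exact hz a ha

theorem le_finrank_sup (L : List I27) : 27 - (wts.filter fun a => !(L.contains a)).length ≤ finrank F (sup F L) :=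
  le_finrank_of (coordL F (wts.filter fun a => !(L.contains a))) fun z hz a ha =>
    coordL_eq_zero hz a (List.mem_filter.2 ⟨mem_wts a, by simpa using ha⟩)

theorem finrank_L4 : finrank F (sup F L4) = 4 := by
  refine le_antisymm (finrank_sup_le L4) ?_
  have h := le_finrank_sup (F := F) L4
  have h1 : (wts.filter fun a => !(L4.contains a)).length = 23 := by decide +kernel
  rw [h1] at h
  exact h

theorem finrank_L5 : finrank F (sup F L5) = 5 := by
  refine le_antisymm (finrank_sup_le L5) ?_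
  have h := le_finrank_sup (F := F) L5
  have h1 : (wts.filter fun a => !(L5.contains a)).length = 22 := by decide +kernel
  rw [h1] at h
  exact h

theorem finrank_W6 : finrank F (W6 F) = 6 := by
  rw [W6_eq]
  refine le_antisymm (finrank_sup_le T6) ?_
  have h := le_finrank_sup (F := F) T6
  have h1 : (wts.filter fun a => !(T6.contains a)).length = 21 := by decide +kernel
  rw [h1] at h
  exact h

/-- a vector is the combination of its coordinates -/
theorem sup_le {L : List I27} {W : Submodule F (I27 → F)} (h : ∀ a ∈ L, e F a ∈ W) : sup F L ≤ W := by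
  intro x hx
  have h1 : x = ∑ a, x a • e F a := by
    funext b
    rw [Finset.sum_apply, Finset.sum_eq_single b]
    · rw [Pi.smul_apply, e_self, smul_eq_mul, mul_one]
    · intro a _ ha
      rw [Pi.smul_apply, e_ne (Ne.symm ha), smul_zero]
    · intro h; exact absurd (Finset.mem_univ _) h
  rw [h1]
  refine W.sum_mem fun a _ => ?_
  by_cases ha : a ∈ L
  · exact W.smul_mem _ (h a ha)
  · rw [hx a ha, zero_smul]
    exact W.zero_mem

theorem exists_four {W : Submodule F (I27 → F)} (hW : TS W) (h4 : 4 ≤ finrank F W) :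
    ∃ g ∈ Zgrp F, ∀ a ∈ L4, e F a ∈ mp g W := by
  obtain ⟨g1, hg1, m1⟩ := step checks.1 hW (by simp) (by simp; omega)
  have hW1 := hW.mp hg1.1
  have f1 : finrank F (mp g1 W) = finrank F W := finrank_mp _ _
  obtain ⟨g2, hg2, m2⟩ := step checks.2.1 hW1 (by simpa using m1) (by rw [f1]; simp; omega)
  have hW2 := hW1.mp hg2.1
  have f2 : finrank F (mp g2 (mp g1 W)) = finrank F W := by rw [finrank_mp, f1]
  have n1 : e F (0, 2, 0) ∈ mp g2 (mp g1 W) := by
    have := act_mem_mp (g := g2) m1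
    rwa [hg2.2 _ (by simp)] at this
  obtain ⟨g3, hg3, m3⟩ := step checks.2.2.1 hW2 (by
    intro w hw
    simp only [List.mem_cons, List.not_mem_nil, or_false] at hw
    rcases hw with rfl | rfl
    · exact m2
    · exact n1) (by rw [f2]; simp; omega)
  have hW3 := hW2.mp hg3.1
  have f3 : finrank F (mp g3 (mp g2 (mp g1 W))) = finrank F W := by rw [finrank_mp, f2]
  have k1 : e F (0, 2, 0) ∈ mp g3 (mp g2 (mp g1 W)) := by
    have := act_mem_mp (g := g3) n1
    rwa [hg3.2 _ (by simp)] at this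
  have k2 : e F (0, 2, 1) ∈ mp g3 (mp g2 (mp g1 W)) := by
    have := act_mem_mp (g := g3) m2
    rwa [hg3.2 _ (by simp)] at this
  obtain ⟨g4, hg4, m4⟩ := step checks.2.2.2 hW3 (by
    intro w hw
    simp only [List.mem_cons, List.not_mem_nil, or_false] at hw
    rcases hw with rfl | rfl | rfl
    · exact m3
    · exact k2
    · exact k1) (by rw [f3]; simp; omega)
  have l1 : e F (0, 2, 0) ∈ mp g4 (mp g3 (mp g2 (mp g1 W))) := by
    have := act_mem_mp (g := g4) k1
    rwa [hg4.2 _ (by simp)] at this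
  have l2 : e F (0, 2, 1) ∈ mp g4 (mp g3 (mp g2 (mp g1 W))) := by
    have := act_mem_mp (g := g4) k2
    rwa [hg4.2 _ (by simp)] at this
  have l3 : e F (0, 2, 2) ∈ mp g4 (mp g3 (mp g2 (mp g1 W))) := by
    have := act_mem_mp (g := g4) m3
    rwa [hg4.2 _ (by simp)] at this
  refine ⟨g4 * (g3 * (g2 * g1)), mul_mem hg4.1 (mul_mem hg3.1 (mul_mem hg2.1 hg1.1)), ?_⟩
  rw [mp_mul, mp_mul, mp_mul]
  intro a ha
  simp only [L4, List.mem_cons, List.not_mem_nil, or_false] at ha
  rcases ha with rfl | rfl | rfl | rfl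
  · exact l1
  · exact l2
  · exact l3
  · exact m4

/-- a totally singular subspace containing the first four basis vectors -/
theorem le_or_le {W : Submodule F (I27 → F)} (hW : TS W) (h : ∀ a ∈ L4, e F a ∈ W) : W ≤ W6 F ∨ W ≤ sup F L5 := by
  have hz : ∀ x ∈ W, ∀ a, a ∉ T6 → a ≠ (2, 0, 0) → x a = 0 := by
    intro x hx a ha hb
    rcases last_facts a ha hb with h1 | h1 | h1 | h1
    · exact hW.apply_eq_zero (h _ (by simp [L4])) hx h1
    · exact hW.apply_eq_zero (h _ (by simp [L4])) hx h1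
    · exact hW.apply_eq_zero (h _ (by simp [L4])) hx h1
    · exact hW.apply_eq_zero (h _ (by simp [L4])) hx h1
  have q1 : ∀ x ∈ W, x (2, 0, 0) * x (2, 1, 1) = 0 := by
    intro x hx
    have h1 := congrFun ((singular_iff x).1 (hW x hx)) (1, 2, 2)
    rw [sh122, hz x hx (2, 1, 0) (by decide) (by decide), hz x hx (1, 0, 2) (by decide) (by decide),
      hz x hx (1, 1, 2) (by decide) (by decide), hz x hx (1, 2, 2) (by decide) (by decide)] at h1
    have h2 : (0 : I27 → F) (1, 2, 2) = 0 := rfl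
    rw [h2] at h1
    linear_combination h1
  have q2 : ∀ x ∈ W, x (2, 0, 0) * x (2, 2, 1) = 0 := by
    intro x hx
    have h1 := congrFun ((singular_iff x).1 (hW x hx)) (1, 2, 1)
    rw [sh121, hz x hx (2, 2, 0) (by decide) (by decide), hz x hx (1, 0, 1) (by decide) (by decide),
      hz x hx (1, 1, 1) (by decide) (by decide), hz x hx (1, 2, 1) (by decide) (by decide)] at h1
    have h2 : (0 : I27 → F) (1, 2, 1) = 0 := rfl
    rw [h2] at h1
    linear_combination -h1
  by_cases hx : ∃ x ∈ W, x (2, 0, 0) ≠ 0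
  · right
    obtain ⟨x, hx, hx0⟩ := hx
    have hx1 : x (2, 1, 1) = 0 := (mul_eq_zero.1 (q1 x hx)).resolve_left hx0
    have hx2 : x (2, 2, 1) = 0 := (mul_eq_zero.1 (q2 x hx)).resolve_left hx0
    intro y hy a ha
    have h1 : y (2, 1, 1) = 0 := by
      have h2 := q1 (x + y) (W.add_mem hx hy)
      rw [Pi.add_apply, Pi.add_apply, hx1, zero_add, add_mul, q1 y hy, add_zero] at h2
      exact (mul_eq_zero.1 h2).resolve_left hx0
    have h2 : y (2, 2, 1) = 0 := by
      have h2 := q2 (x + y) (W.add_mem hx hy)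
      rw [Pi.add_apply, Pi.add_apply, hx2, zero_add, add_mul, q2 y hy, add_zero] at h2
      exact (mul_eq_zero.1 h2).resolve_left hx0
    by_cases h3 : a ∈ T6
    · have h4 : a = (2, 1, 1) ∨ a = (2, 2, 1) := by
        simp only [T6, L5, List.mem_cons, List.not_mem_nil, or_false] at h3 ha
        (clear * - h3 ha; tauto)
      rcases h4 with rfl | rfl
      · exact h1
      · exact h2
    · exact hz y hy a h3 fun h4 => ha (by rw [h4]; simp [L5])
  · left
    push Not at hx
    intro y hy a ha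
    by_cases h4 : a = (2, 0, 0)
    · rw [h4]; exact hx y hy
    · exact hz y hy a ha h4

theorem mp_mono (g : GL I27 F) {W W' : Submodule F (I27 → F)} (h : W ≤ W') : mp g W ≤ mp g W' := by
  intro x hx
  rw [mem_mp] at hx ⊢
  exact h hx

theorem mp_inv_mp (g : GL I27 F) (W : Submodule F (I27 → F)) : mp g⁻¹ (mp g W) = W := by
  rw [← mp_mul, inv_mul_cancel, mp_one]

theorem mp_mp_inv (g : GL I27 F) (W : Submodule F (I27 → F)) : mp g (mp g⁻¹ W) = W := by
  rw [← mp_mul, mul_inv_cancel, mp_one]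

/-- the hull is stable -/
theorem hull_stab {W : Submodule F (I27 → F)} {g : GL I27 F} (hg : g ∈ Zgrp F) (h : ∀ a ∈ L4, e F a ∈ mp g W)
    (hle : mp g W ≤ W6 F) {b : GL I27 F} (hb : b ∈ Zgrp F) (hbW : mp b W = W) :
    mp b (mp g⁻¹ (W6 F)) = mp g⁻¹ (W6 F) := by
  have h1 : W ≤ mp g⁻¹ (W6 F) := by
    have := mp_mono g⁻¹ hle
    rwa [mp_inv_mp] at this
  have h2 : mp g (mp b (mp g⁻¹ (W6 F))) = W6 F := by
    have h3 : ∀ a ∈ L4, e F a ∈ mp g (mp b (mp g⁻¹ (W6 F))) := by
      intro a ha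
      have h4 := h a ha
      rw [← hbW] at h4
      exact mp_mono g (mp_mono b h1) h4
    refine le_W6 (((W6_TS.mp (inv_mem hg)).mp hb).mp hg) ?_ (h3 _ (by simp [L4])) (h3 _ (by simp [L4]))
      (h3 _ (by simp [L4])) (h3 _ (by simp [L4]))
    rw [finrank_mp, finrank_mp, finrank_mp, finrank_W6]
  rw [← mp_inv_mp g (mp b (mp g⁻¹ (W6 F))), h2]

/-! ### the root element of a six-dimensional subspace -/

open Cfsg.Agent.H65.E6Root
open scoped commutatorElement

theorem range_nMat : LinearMap.range (Matrix.toLin' (nMat F 0)) = W6 F := by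
  apply le_antisymm
  · rintro _ ⟨x, rfl⟩
    rw [Matrix.toLin'_apply]
    exact nMat_mem_W6 x
  · rw [W6_eq]
    refine sup_le fun a ha => ?_
    have h := List.all_eq_true.1 (show (T6.all fun a => (tabr 0).any fun q => q.2.2 == a) = true by decide +kernel) a ha
    rw [List.any_eq_true] at h
    obtain ⟨q, hq, hqa⟩ := h
    rw [beq_iff_eq] at hqa
    obtain ⟨hs, -, -, -⟩ := tab_facts (r := 0) (by norm_num) hq
    have hs0 : (q.1 : F) ≠ 0 := by rcases hs with hs | hs <;> rw [hs] <;> simp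
    refine ⟨(q.1 : F)⁻¹ • e F q.2.1, ?_⟩
    rw [map_smul, Matrix.toLin'_apply, nMat_mulVec]
    have h1 : nv 0 (e F q.2.1) = (q.1 : F) • e F a := by
      have h2 := act_zG_e_of_source (F := F) (r := 0) (by norm_num) hq 1
      rw [act_zG, one_smul, one_mul, add_right_inj] at h2
      rw [h2, hqa]
    rw [h1, smul_smul, inv_mul_cancel₀ hs0, one_smul]

theorem range_cN (g : GL I27 F) : LinearMap.range (Matrix.toLin' (cN g)) = mp g⁻¹ (W6 F) := by
  ext x
  rw [mem_mp, inv_inv]
  constructor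
  · rintro ⟨y, rfl⟩
    rw [Matrix.toLin'_apply, cN, ← Matrix.mulVec_mulVec, ← Matrix.mulVec_mulVec]
    have h1 : act g (((g⁻¹ : GL I27 F) : Matrix I27 I27 F).mulVec ((nMat F 0).mulVec
        ((g : Matrix I27 I27 F).mulVec y))) = (nMat F 0).mulVec ((g : Matrix I27 I27 F).mulVec y) := act_act_inv g _
    rw [h1]
    exact nMat_mem_W6 _
  · intro h
    rw [← range_nMat] at h
    obtain ⟨y, hy⟩ := h
    refine ⟨act g⁻¹ y, ?_⟩
    rw [Matrix.toLin'_apply] at hy
    rw [Matrix.toLin'_apply, cN, ← Matrix.mulVec_mulVec, ← Matrix.mulVec_mulVec]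
    have h1 : (g : Matrix I27 I27 F).mulVec (act g⁻¹ y) = y := act_act_inv g y
    rw [h1, hy]
    exact act_inv_act g x

/-- a perfect group stabilising the six-space commutes with the root element -/
theorem comm_cN_of_perfect {A : Type*} [Group A] (hA : commutator A = ⊤) (ψ : A →* ↥(Zgrp F)) {g : GL I27 F}
    (hg : g ∈ Zgrp F) (hst : ∀ a, mp (ψ a : GL I27 F) (mp g⁻¹ (W6 F)) = mp g⁻¹ (W6 F)) (a : A) :
    ((ψ a : GL I27 F) : Matrix I27 I27 F) * cN g = cN g * ((ψ a : GL I27 F) : Matrix I27 I27 F) := by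
  have hstab : ∀ a, mp (g * (ψ a : GL I27 F) * g⁻¹) (W6 F) = W6 F := by
    intro a
    rw [mp_mul, mp_mul, hst, mp_mp_inv]
  have hconj : ∀ a, ∃ c : F, c ≠ 0 ∧ ((g * (ψ a : GL I27 F) * g⁻¹ : GL I27 F) : Matrix I27 I27 F) * nMat F 0 =
      c • (nMat F 0 * ((g * (ψ a : GL I27 F) * g⁻¹ : GL I27 F) : Matrix I27 I27 F)) := fun a =>
    conj_root (mul_mem (mul_mem hg (ψ a).2) (inv_mem hg)) (hstab a)
  let C : Subgroup A :=
    { carrier := {b | ((ψ b : GL I27 F) : Matrix I27 I27 F) * cN g = cN g * ((ψ b : GL I27 F) : Matrix I27 I27 F)}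
      one_mem' := by
        change ((ψ 1 : GL I27 F) : Matrix I27 I27 F) * cN g = cN g * ((ψ 1 : GL I27 F) : Matrix I27 I27 F)
        rw [map_one, Subgroup.coe_one, Units.val_one, one_mul, mul_one]
      mul_mem' := by
        intro a b ha hb
        change ((ψ (a * b) : GL I27 F) : Matrix I27 I27 F) * cN g = cN g * ((ψ (a * b) : GL I27 F) : Matrix I27 I27 F)
        rw [map_mul, Subgroup.coe_mul, Units.val_mul, mul_assoc, hb, ← mul_assoc, ha, mul_assoc]
      inv_mem' := by
        intro a ha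
        change ((ψ a⁻¹ : GL I27 F) : Matrix I27 I27 F) * cN g = cN g * ((ψ a⁻¹ : GL I27 F) : Matrix I27 I27 F)
        have ha' : ((ψ a : GL I27 F) : Matrix I27 I27 F) * cN g = cN g * ((ψ a : GL I27 F) : Matrix I27 I27 F) := ha
        rw [map_inv, Subgroup.coe_inv]
        calc (((ψ a : GL I27 F)⁻¹ : GL I27 F) : Matrix I27 I27 F) * cN g
            = (((ψ a : GL I27 F)⁻¹ : GL I27 F) : Matrix I27 I27 F) *
              (cN g * ((ψ a : GL I27 F) : Matrix I27 I27 F)) *
              (((ψ a : GL I27 F)⁻¹ : GL I27 F) : Matrix I27 I27 F) := by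
              rw [mul_assoc, mul_assoc, val_mul_inv, mul_one]
          _ = cN g * (((ψ a : GL I27 F)⁻¹ : GL I27 F) : Matrix I27 I27 F) := by
              rw [← ha', ← mul_assoc, val_inv_mul, one_mul] }
  have hle : commutator A ≤ C := by
    rw [commutator_def, Subgroup.commutator_le]
    intro a _ b _
    change ((ψ ⁅a, b⁆ : GL I27 F) : Matrix I27 I27 F) * cN g = cN g * ((ψ ⁅a, b⁆ : GL I27 F) : Matrix I27 I27 F)
    apply comm_cN
    obtain ⟨c, hc, h1⟩ := hconj a
    obtain ⟨d, hd, h2⟩ := hconj b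
    have := commutator_comm hc hd h1 h2
    have h3 : g * ((ψ ⁅a, b⁆ : ↥(Zgrp F)) : GL I27 F) * g⁻¹ =
        ⁅g * (ψ a : GL I27 F) * g⁻¹, g * (ψ b : GL I27 F) * g⁻¹⁆ := by
      rw [map_commutatorElement, commutatorElement_def, commutatorElement_def]
      simp only [Subgroup.coe_mul, Subgroup.coe_inv]
      group
    rw [h3]
    exact this
  rw [hA] at hle
  exact hle (Subgroup.mem_top a)

end Cfsg.Agent.R2.GEO
end

-- part: R2/GEO/Main
section
/-!
# Totally singular subspaces of dimension 4, 5, 6 stable under a perfect group: statements to use (R2/GEO, helper17)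

`F` is any field, `A` a perfect group, `ψ : A →* Zgrp F`; `Pair ρ ρ'` : `(ρ, ρ')` is `(V F, V' F)` or `(V' F, V F)`.

* `Hull ρ ρ' ψ Y n n'` : `Y` is a totally singular 6-space stable under `A`; `n`, `n'` are the root element operators of
  `Y` : they commute with `A`, `n² = 0`, `range n = Y`, `tf (n x) y + tf x (n' y) = 0`;
* `exists_hull_four` : a stable totally singular 4-space `W` lies in a `Y` with a `Hull`;
* `Hull.dualSub` : for `W ≤ Y` stable, `U = n' (W^⊥)` is a stable subspace of the other module of dimension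
  `6 - dim W`, paired with `Y / W` : `n x ∈ W ↔ ∀ u ∈ U, tf x u = 0`;
* `exists_sub_four` (G3), `exists_sub_five` (G4) : stable subspaces of dimension 2 (resp. 1 or 2) of the other module;
* `fixed_of_four`, `fixed_of_five` : non-zero fixed vectors, if all homomorphisms `A →* GL (Fin 2) F` are trivial.
-/

set_option autoImplicit false

namespace Cfsg.Agent.R2.GEO

open Cfsg.Lie Module
open Cfsg.Agent.ChevalleyStructure Cfsg.Agent.ChevalleyStructure.E6Form.Cubic
  Cfsg.Agent.ChevalleyStructure.E6Form.Table Cfsg.Agent.ChevalleyStructure.E6Form.Elim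
open Cfsg.Agent.ChevalleyStructure.E6Min.Basic (Zgrp zM zU)
open Cfsg.Agent.H203.E6
open Cfsg.Agent.H952.F4 (sh cr tf)
open Cfsg.Agent.H952.F4.Jord
open Cfsg.Agent.H163.E6 (V V' V_apply V'_apply)
open Cfsg.Agent.H163.E6.Act
open Cfsg.Agent.H184.GraphE6 (gU PM PM_sq PM_transpose)
open Cfsg.Agent.H65.E6Root (cN)
open scoped Matrix

universe u v

variable {F : Type u} [Field F]

/-- the two orders of the two modules -/
def Pair (ρ ρ' : Representation F ↥(Zgrp F) (I27 → F)) : Prop := (ρ = V F ∧ ρ' = V' F) ∨ (ρ = V' F ∧ ρ' = V F)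

theorem Pair.swap {ρ ρ' : Representation F ↥(Zgrp F) (I27 → F)} (h : Pair ρ ρ') : Pair ρ' ρ := by
  rcases h with h | h
  · exact Or.inr ⟨h.2, h.1⟩
  · exact Or.inl ⟨h.2, h.1⟩

/-- `gz` as a homomorphism -/
noncomputable def gzHom (F : Type u) [Field F] : ↥(Zgrp F) →* ↥(Zgrp F) := MonoidHom.mk' gz gz_mul

theorem gzHom_apply (g : ↥(Zgrp F)) : gzHom F g = gz g := rfl

/-- the action with the roles of the modules exchanged -/
theorem Pair.cases {ρ ρ' : Representation F ↥(Zgrp F) (I27 → F)} (h : Pair ρ ρ') {A : Type v} [Group A]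
    (ψ : A →* ↥(Zgrp F)) : ∃ ψ' : A →* ↥(Zgrp F), (∀ a, ρ (ψ a) = V F (ψ' a)) ∧ ∀ a, ρ' (ψ a) = V' F (ψ' a) := by
  rcases h with ⟨rfl, rfl⟩ | ⟨rfl, rfl⟩
  · exact ⟨ψ, fun _ => rfl, fun _ => rfl⟩
  · exact ⟨(gzHom F).comp ψ, fun a => (V_gz (ψ a)).symm, fun a => (V'_gz (ψ a)).symm⟩

theorem V_eq_act (g : ↥(Zgrp F)) (x : I27 → F) : V F g x = act (g : GL I27 F) x := rfl

/-- the root operators of a totally singular six-space -/
structure Hull (ρ ρ' : Representation F ↥(Zgrp F) (I27 → F)) {A : Type v} [Group A] (ψ : A →* ↥(Zgrp F))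
    (Y : Submodule F (I27 → F)) (n n' : (I27 → F) →ₗ[F] (I27 → F)) : Prop where
  dim : finrank F Y = 6
  ts : ∀ y ∈ Y, sh y = 0
  stab : ∀ a, ∀ y ∈ Y, ρ (ψ a) y ∈ Y
  comm : ∀ a x, ρ (ψ a) (n x) = n (ρ (ψ a) x)
  comm' : ∀ a x, ρ' (ψ a) (n' x) = n' (ρ' (ψ a) x)
  sq : ∀ x, n (n x) = 0
  range : LinearMap.range n = Y
  adj : ∀ x y, tf (n x) y + tf x (n' y) = 0
  root : ∀ t : F, ∃ z : ↥(Zgrp F), (∀ x, ρ z x = x + t • n x) ∧ ∀ x, ρ' z x = x + t • n' x

theorem mp_eq_of_stab {W : Submodule F (I27 → F)} {g : GL I27 F} (h1 : ∀ w ∈ W, act g w ∈ W)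
    (h2 : ∀ w ∈ W, act g⁻¹ w ∈ W) : mp g W = W := by
  ext x
  rw [mem_mp]
  constructor
  · intro h
    have := h1 _ h
    rwa [act_act_inv] at this
  · intro h
    exact h2 _ h

theorem gU_val (g : ↥(Zgrp F)) : ((gU (g : GL I27 F) : GL I27 F) : Matrix I27 I27 F) =
    PM F * (((g : GL I27 F)⁻¹ : GL I27 F) : Matrix I27 I27 F)ᵀ * PM F := coe_gU _

theorem hull_of {A : Type v} [Group A] (hA : commutator A = ⊤) (ψ : A →* ↥(Zgrp F)) {g : GL I27 F} (hg : g ∈ Zgrp F)
    (hst : ∀ a, mp (ψ a : GL I27 F) (mp g⁻¹ (W6 F)) = mp g⁻¹ (W6 F)) :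
    Hull (V F) (V' F) ψ (mp g⁻¹ (W6 F)) (Matrix.toLin' (cN g)) (Matrix.toLin' (-(PM F * (cN g)ᵀ * PM F))) where
  dim := by rw [finrank_mp, finrank_W6]
  ts y hy := (singular_iff y).1 ((W6_TS.mp (inv_mem hg)) y hy)
  stab a y hy := by
    rw [V_eq_act, ← hst a]
    exact act_mem_mp hy
  comm a x := by
    rw [V_apply, V_apply, Matrix.toLin'_apply, Matrix.toLin'_apply, Matrix.mulVec_mulVec, Matrix.mulVec_mulVec,
      comm_cN_of_perfect hA ψ hg hst]
  comm' a x := by
    rw [V'_apply, V'_apply, Matrix.toLin'_apply, Matrix.toLin'_apply, Matrix.mulVec_mulVec, Matrix.mulVec_mulVec,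
      gU_val]
    have h1 : (((ψ a : GL I27 F)⁻¹ : GL I27 F) : Matrix I27 I27 F) * cN g =
        cN g * (((ψ a : GL I27 F)⁻¹ : GL I27 F) : Matrix I27 I27 F) := by
      have h2 := comm_cN_of_perfect hA ψ hg hst a⁻¹
      rwa [map_inv, Subgroup.coe_inv] at h2
    have h2 := congrArg Matrix.transpose h1
    rw [Matrix.transpose_mul, Matrix.transpose_mul] at h2
    congr 1
    rw [mul_neg, neg_mul]
    congr 1
    calc PM F * (((ψ a : GL I27 F)⁻¹ : GL I27 F) : Matrix I27 I27 F)ᵀ * PM F * (PM F * (cN g)ᵀ * PM F)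
        = PM F * (((ψ a : GL I27 F)⁻¹ : GL I27 F) : Matrix I27 I27 F)ᵀ * (PM F * PM F) * (cN g)ᵀ * PM F := by
          simp only [mul_assoc]
      _ = PM F * ((((ψ a : GL I27 F)⁻¹ : GL I27 F) : Matrix I27 I27 F)ᵀ * (cN g)ᵀ) * PM F := by
          rw [PM_sq, mul_one]; simp only [mul_assoc]
      _ = PM F * ((cN g)ᵀ * (((ψ a : GL I27 F)⁻¹ : GL I27 F) : Matrix I27 I27 F)ᵀ) * PM F := by rw [h2]
      _ = PM F * (cN g)ᵀ * (PM F * PM F) * (((ψ a : GL I27 F)⁻¹ : GL I27 F) : Matrix I27 I27 F)ᵀ * PM F := by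
          rw [PM_sq, mul_one]; simp only [mul_assoc]
      _ = _ := by simp only [mul_assoc]
  sq x := by
    rw [Matrix.toLin'_apply, Matrix.toLin'_apply, Matrix.mulVec_mulVec, (Cfsg.Agent.H65.E6Root.cN_dir hg).sq,
      Matrix.zero_mulVec]
  range := range_cN g
  adj x y := by
    rw [Matrix.toLin'_apply, Matrix.toLin'_apply, tf_eq_dot, tf_eq_dot, Matrix.mulVec_mulVec, mul_neg, ← mul_assoc,
      ← mul_assoc, PM_sq, one_mul, Matrix.neg_mulVec, dotProduct_neg, ← Matrix.mulVec_mulVec,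
      Matrix.dotProduct_mulVec x, Matrix.vecMul_transpose]
    exact add_neg_cancel _
  root t := by
    obtain ⟨z, hz, h⟩ := (Cfsg.Agent.H65.E6Root.cN_dir hg).mem t
    have hsq := (Cfsg.Agent.H65.E6Root.cN_dir hg).sq
    refine ⟨⟨z, hz⟩, fun x => ?_, fun x => ?_⟩
    · rw [V_apply, h, Matrix.add_mulVec, Matrix.one_mulVec, Matrix.smul_mulVec, Matrix.toLin'_apply]
    · have h1 : ((z⁻¹ : GL I27 F) : Matrix I27 I27 F) = 1 - t • cN g := by
        have h2 : (z : Matrix I27 I27 F) * (1 - t • cN g) = 1 := by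
          rw [h, mul_sub, mul_one, add_mul, one_mul, Matrix.smul_mul, Matrix.mul_smul, hsq, smul_zero, smul_zero,
            add_zero, add_sub_cancel_right]
        calc ((z⁻¹ : GL I27 F) : Matrix I27 I27 F) = ((z⁻¹ : GL I27 F) : Matrix I27 I27 F) * 1 := (mul_one _).symm
          _ = ((z⁻¹ : GL I27 F) : Matrix I27 I27 F) * ((z : Matrix I27 I27 F) * (1 - t • cN g)) := by
            rw [h2]
          _ = ((z⁻¹ : GL I27 F) : Matrix I27 I27 F) * (z : Matrix I27 I27 F) * (1 - t • cN g) := by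
            rw [mul_assoc]
          _ = 1 - t • cN g := by rw [← Units.val_mul, inv_mul_cancel, Units.val_one, one_mul]
      rw [V'_apply, gU_val]
      change (PM F * ((z⁻¹ : GL I27 F) : Matrix I27 I27 F)ᵀ * PM F) *ᵥ x = _
      rw [h1, Matrix.transpose_sub, Matrix.transpose_one, Matrix.transpose_smul, mul_sub, mul_one, sub_mul, PM_sq,
        Matrix.sub_mulVec, Matrix.one_mulVec, Matrix.toLin'_apply, Matrix.neg_mulVec, smul_neg, ← sub_eq_add_neg,
        Matrix.mul_smul, Matrix.smul_mul, Matrix.smul_mulVec]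

theorem stab_mp {A : Type v} [Group A] (ψ : A →* ↥(Zgrp F)) {W : Submodule F (I27 → F)}
    (hst : ∀ a, ∀ w ∈ W, V F (ψ a) w ∈ W) (a : A) : mp (ψ a : GL I27 F) W = W := by
  refine mp_eq_of_stab (fun w hw => hst a w hw) fun w hw => ?_
  have h := hst a⁻¹ w hw
  rwa [map_inv] at h

theorem finrank_eq_four {W : Submodule F (I27 → F)} (h4 : finrank F W = 4) (h : ∀ a ∈ L4, e F a ∈ W) :
    W = sup F L4 :=
  (Submodule.eq_of_le_of_finrank_eq ((sup_le h :)) (by rw [finrank_L4, h4])).symm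

/-- a stable totally singular 4-space lies in a stable totally singular 6-space -/
theorem exists_hull_four {A : Type v} [Group A] (hA : commutator A = ⊤) (ψ : A →* ↥(Zgrp F))
    {ρ ρ' : Representation F ↥(Zgrp F) (I27 → F)} (hρ : Pair ρ ρ') {W : Submodule F (I27 → F)}
    (hst : ∀ a, ∀ w ∈ W, ρ (ψ a) w ∈ W) (h4 : finrank F W = 4) (hW : ∀ w ∈ W, sh w = 0) :
    ∃ Y n n', W ≤ Y ∧ Hull ρ ρ' ψ Y n n' := by
  obtain ⟨ψ', h1, h2⟩ := hρ.cases ψ
  have hTS : TS W := fun w hw => (singular_iff w).2 (hW w hw)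
  have hst' : ∀ a, ∀ w ∈ W, V F (ψ' a) w ∈ W := fun a w hw => by rw [← h1]; exact hst a w hw
  obtain ⟨g, hg, he⟩ := exists_four hTS (by rw [h4])
  have hle : mp g W ≤ W6 F := by
    rw [finrank_eq_four (by rw [finrank_mp, h4]) he, W6_eq]
    intro x hx a ha
    exact hx a fun h => ha (by
      simp only [L4, T6, List.mem_cons, List.not_mem_nil, or_false] at h ⊢
      (clear * - h; tauto))
  have hH := hull_of hA ψ' hg fun a => hull_stab hg he hle (ψ' a).2 (stab_mp ψ' hst' a)
  refine ⟨_, _, _, ?_, ⟨hH.dim, hH.ts, fun a => by rw [h1]; exact hH.stab a, fun a => by rw [h1]; exact hH.comm a,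
    fun a => by rw [h2]; exact hH.comm' a, hH.sq, hH.range, hH.adj, ?_⟩⟩
  · have := mp_mono g⁻¹ hle
    rwa [mp_inv_mp] at this
  · intro t
    obtain ⟨z, hz1, hz2⟩ := hH.root t
    rcases hρ with ⟨rfl, rfl⟩ | ⟨rfl, rfl⟩
    · exact ⟨z, hz1, hz2⟩
    · exact ⟨gz z, fun x => by rw [V'_gz]; exact hz1 x, fun x => by rw [V_gz]; exact hz2 x⟩

/-! ### orthogonal subspaces -/

/-- the bilinear pairing -/
noncomputable def tfB (F : Type u) [Field F] : (I27 → F) →ₗ[F] (I27 → F) →ₗ[F] F :=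
  LinearMap.mk₂ F tf tf_add_left tf_smul_left tf_add_right tf_smul_right

theorem tfB_apply (x y : I27 → F) : tfB F x y = tf x y := rfl

/-- the annihilator -/
def perp (W : Submodule F (I27 → F)) : Submodule F (I27 → F) where
  carrier := {y | ∀ w ∈ W, tf w y = 0}
  add_mem' {x y} hx hy w hw := by rw [tf_add_right, hx w hw, hy w hw, add_zero]
  zero_mem' w _ := by rw [tf_comm]; exact tf_zero_left w
  smul_mem' c x hx w hw := by rw [tf_smul_right, hx w hw, mul_zero]

theorem mem_perp {W : Submodule F (I27 → F)} {y : I27 → F} : y ∈ perp W ↔ ∀ w ∈ W, tf w y = 0 := Iff.rfl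

theorem finrank_perp (W : Submodule F (I27 → F)) : finrank F W + finrank F (perp W) = 27 := by
  have h1 : perp W = W.dualAnnihilator.comap ((tfB F).flip : (I27 → F) →ₗ[F] (Dual F (I27 → F))) := by
    ext y
    rw [mem_perp, Submodule.mem_comap, Submodule.mem_dualAnnihilator]
    rfl
  have hinj : Function.Injective ((tfB F).flip : (I27 → F) →ₗ[F] (Dual F (I27 → F))) := by
    rw [← LinearMap.ker_eq_bot, LinearMap.ker_eq_bot']
    intro y hy
    exact tf_nondeg fun x => by rw [tf_comm]; exact LinearMap.congr_fun hy x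
  have hsurj : Function.Surjective ((tfB F).flip : (I27 → F) →ₗ[F] (Dual F (I27 → F))) := by
    rw [← LinearMap.range_eq_top]
    apply Submodule.eq_top_of_finrank_eq
    rw [LinearMap.finrank_range_of_inj hinj, Subspace.dual_finrank_eq]
  let E : (I27 → F) ≃ₗ[F] Dual F (I27 → F) := LinearEquiv.ofBijective _ ⟨hinj, hsurj⟩
  have h2 : finrank F (perp W) = finrank F (W.dualAnnihilator) := by
    rw [h1]
    have h3 : W.dualAnnihilator.comap ((tfB F).flip : (I27 → F) →ₗ[F] (Dual F (I27 → F))) =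
        W.dualAnnihilator.map (E.symm : Dual F (I27 → F) →ₗ[F] (I27 → F)) := by
      ext y
      rw [Submodule.mem_comap]
      constructor
      · intro h
        exact ⟨_, h, E.symm_apply_apply y⟩
      · rintro ⟨z, hz, rfl⟩
        have : ((tfB F).flip : (I27 → F) →ₗ[F] (Dual F (I27 → F))) (E.symm z) = z := E.apply_symm_apply z
        exact this.symm ▸ hz
    rw [h3, LinearEquiv.finrank_map_eq]
  rw [h2]
  have h4 := Subspace.finrank_add_finrank_dualAnnihilator_eq W
  rw [h4, finrank_fintype_fun_eq_card]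
  rfl

theorem le_perp_perp (W : Submodule F (I27 → F)) : W ≤ perp (perp W) := fun w hw y hy => by
  rw [tf_comm]; exact hy w hw

theorem perp_perp (W : Submodule F (I27 → F)) : perp (perp W) = W := by
  refine (Submodule.eq_of_le_of_finrank_eq (le_perp_perp W) ?_).symm
  have h1 := finrank_perp W
  have h2 := finrank_perp (perp W)
  omega

theorem perp_mono {W W' : Submodule F (I27 → F)} (h : W ≤ W') : perp W' ≤ perp W := fun _ hy w hw => hy w (h hw)

theorem perp_stab {A : Type v} [Group A] (ψ : A →* ↥(Zgrp F)) {ρ ρ' : Representation F ↥(Zgrp F) (I27 → F)}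
    (hρ : Pair ρ ρ') {W : Submodule F (I27 → F)} (hst : ∀ a, ∀ w ∈ W, ρ (ψ a) w ∈ W) (a : A) {y : I27 → F}
    (hy : y ∈ perp W) : ρ' (ψ a) y ∈ perp W := by
  intro w hw
  have h1 : ∀ (g : ↥(Zgrp F)) x y, tf (ρ g x) (ρ' g y) = tf x y := by
    intro g x y
    rcases hρ with ⟨rfl, rfl⟩ | ⟨rfl, rfl⟩
    · exact tf_act g x y
    · rw [tf_comm, tf_act, tf_comm]
  have h2 := hst a⁻¹ w hw
  have h3 := h1 (ψ a) (ρ (ψ a⁻¹) w) y
  rw [← Module.End.mul_apply, ← map_mul, ← map_mul, mul_inv_cancel, map_one, map_one, Module.End.one_apply] at h3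
  rw [h3]
  exact hy _ h2

/-- **the dual of `Y / W` inside the other module** -/
theorem Hull.dualSub {A : Type v} [Group A] {ψ : A →* ↥(Zgrp F)} {ρ ρ' : Representation F ↥(Zgrp F) (I27 → F)}
    (hρ : Pair ρ ρ') {Y : Submodule F (I27 → F)} {n n' : (I27 → F) →ₗ[F] (I27 → F)} (H : Hull ρ ρ' ψ Y n n')
    {W : Submodule F (I27 → F)} (hWY : W ≤ Y) (hst : ∀ a, ∀ w ∈ W, ρ (ψ a) w ∈ W) :
    ∃ U : Submodule F (I27 → F), finrank F W + finrank F U = 6 ∧ (∀ a, ∀ u ∈ U, ρ' (ψ a) u ∈ U) ∧
      (∀ u ∈ U, ∃ y, u = n' y) ∧ ∀ x, n x ∈ W ↔ ∀ u ∈ U, tf x u = 0 := by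
  have hadj : ∀ x y, tf x (n' y) = -tf (n x) y := fun x y => by linear_combination H.adj x y
  have hker : LinearMap.ker n' = perp Y := by
    ext y
    rw [LinearMap.mem_ker, mem_perp]
    constructor
    · intro h w hw
      rw [← H.range] at hw
      obtain ⟨x, rfl⟩ := hw
      have h1 := hadj x y
      rw [h, tf_comm, tf_zero_left] at h1
      linear_combination h1
    · intro h
      refine tf_nondeg fun x => ?_
      rw [tf_comm, hadj, h (n x) (H.range ▸ LinearMap.mem_range_self n x), neg_zero]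
  refine ⟨(perp W).map n', ?_, ?_, ?_, ?_⟩
  · have h1 := finrank_perp W
    have h2 := finrank_perp Y
    rw [H.dim] at h2
    have h3 := LinearMap.finrank_range_add_finrank_ker (n'.domRestrict (perp W))
    have h4 : LinearMap.range (n'.domRestrict (perp W)) = (perp W).map n' := by
      rw [LinearMap.range_domRestrict]
    have h5 : finrank F (LinearMap.ker (n'.domRestrict (perp W))) = finrank F (perp Y) := by
      rw [LinearMap.ker_domRestrict, hker]
      have h6 : perp Y ≤ perp W := perp_mono hWY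
      exact (Submodule.comapSubtypeEquivOfLe h6).finrank_eq
    rw [h4, h5] at h3
    omega
  · rintro a _ ⟨y, hy, rfl⟩
    exact ⟨ρ' (ψ a) y, perp_stab ψ hρ hst a hy, (H.comm' a y).symm⟩
  · rintro _ ⟨y, -, rfl⟩
    exact ⟨y, rfl⟩
  · intro x
    constructor
    · rintro h _ ⟨y, hy, rfl⟩
      rw [hadj, hy _ h, neg_zero]
    · intro h
      rw [← perp_perp W]
      intro y hy
      have h1 := h (n' y) ⟨y, hy, rfl⟩
      rw [hadj] at h1
      rw [tf_comm]
      linear_combination -h1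

/-- **(G3)** -/
theorem exists_sub_four {A : Type v} [Group A] (hA : commutator A = ⊤) (ψ : A →* ↥(Zgrp F))
    {ρ ρ' : Representation F ↥(Zgrp F) (I27 → F)} (hρ : Pair ρ ρ') {W : Submodule F (I27 → F)}
    (hst : ∀ a, ∀ w ∈ W, ρ (ψ a) w ∈ W) (h4 : finrank F W = 4) (hW : ∀ w ∈ W, sh w = 0) :
    ∃ U : Submodule F (I27 → F), finrank F U = 2 ∧ ∀ a, ∀ u ∈ U, ρ' (ψ a) u ∈ U := by
  obtain ⟨Y, n, n', hWY, H⟩ := exists_hull_four hA ψ hρ hst h4 hW
  obtain ⟨U, h1, h2, -⟩ := H.dualSub hρ hWY hst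
  exact ⟨U, by omega, h2⟩

end Cfsg.Agent.R2.GEO
end

private theorem dce_e89d87cbc4b0 : _root_.True := by
  try have : _root_.True := by simp only [_root_.Cfsg.Agent.R2.GEO.L4.eq_1]
  try have : _root_.True := by simp only [_root_.Cfsg.Agent.R2.GEO.L5.eq_1]
  exact _root_.True.intro
end

-- part: R2/GEO/Five
section
prune_inst 0x440020a2000000000596b10020200000000200430800c3800a0c0a418842490086410a300210008084807008002001000010426000000e00800040010020940156068208a10c260007800800000000000000000000000000000000000000000000000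
set_option linter.all false
open scoped Cfsg.Agent.FastGrp

/-!
# Totally singular 5-spaces; fixed vectors (R2/GEO, helper17)

* `exists_sub_five` (G4) : a stable totally singular 5-space of one module gives a stable subspace of dimension 1 or 2
  of the other module;
* `fixed_of_four`, `fixed_of_five` : non-zero fixed vectors, if all homomorphisms `A →* GL (Fin 2) F` are trivial;
* `finrank_le_six` (G2).
-/

set_option autoImplicit false

namespace Cfsg.Agent.R2.GEO

open Cfsg.Lie Module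
open Cfsg.Agent.ChevalleyStructure Cfsg.Agent.ChevalleyStructure.E6Form.Cubic
  Cfsg.Agent.ChevalleyStructure.E6Form.Table Cfsg.Agent.ChevalleyStructure.E6Form.Elim
open Cfsg.Agent.ChevalleyStructure.E6Min.Basic (Zgrp zM zU)
open Cfsg.Agent.H203.E6
open Cfsg.Agent.H952.F4 (sh cr tf)
open Cfsg.Agent.H952.F4.Jord
open Cfsg.Agent.H163.E6 (V V' V_apply V'_apply)
open Cfsg.Agent.H163.E6.Act
open scoped Matrix

universe u v

variable {F : Type u} [Field F]

/-- **(G2)** -/
theorem finrank_le_six {W : Submodule F (I27 → F)} (hW : ∀ w ∈ W, sh w = 0) : finrank F W ≤ 6 :=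
  Cfsg.Agent.H203.E6.finrank_le_six fun w hw => (singular_iff w).2 (hW w hw)

/-- the subspace `{y | ∀ x ∈ W, ∀ z, y × (x × z) ∈ W}` of the other module -/
def Uc (W : Submodule F (I27 → F)) : Submodule F (I27 → F) where
  carrier := {y | ∀ x ∈ W, ∀ z, cr y (cr x z) ∈ W}
  add_mem' {y y'} hy hy' x hx z := by rw [cr_add_left]; exact W.add_mem (hy x hx z) (hy' x hx z)
  zero_mem' x _ z := by
    have h := cr_smul_left (0 : F) (0 : I27 → F) (cr x z)
    rw [zero_smul, zero_smul] at h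
    rw [h]
    exact W.zero_mem
  smul_mem' c y hy x hx z := by rw [cr_smul_left]; exact W.smul_mem c (hy x hx z)

theorem mem_Uc {W : Submodule F (I27 → F)} {y : I27 → F} : y ∈ Uc W ↔ ∀ x ∈ W, ∀ z, cr y (cr x z) ∈ W := Iff.rfl

theorem Uc_act (g : ↥(Zgrp F)) {W : Submodule F (I27 → F)} {y : I27 → F} :
    V' F g y ∈ Uc (mp (g : GL I27 F) W) ↔ y ∈ Uc W := by
  rw [mem_Uc, mem_Uc]
  have key : ∀ x z, cr (V' F g y) (cr (V F g x) (V F g z)) = V F g (cr y (cr x z)) := fun x z => by
    rw [cr_act, cr_act']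
  constructor
  · intro h x hx z
    have h1 := h (V F g x) (act_mem_mp hx) (V F g z)
    rw [key, mem_mp] at h1
    have h2 : act (g : GL I27 F)⁻¹ (V F g (cr y (cr x z))) = cr y (cr x z) := act_inv_act _ _
    rwa [h2] at h1
  · intro h x hx z
    rw [mem_mp] at hx
    have h1 := h _ hx (V F g⁻¹ z)
    have h2 : V F g (act (g : GL I27 F)⁻¹ x) = x := act_act_inv _ _
    have h3 := key (act (g : GL I27 F)⁻¹ x) (V F g⁻¹ z)
    rw [h2, V_apply_inv] at h3
    rw [h3]
    exact act_mem_mp h1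

theorem cr_e_apply (y : I27 → F) (s t : I27) : cr y (e F s) t =
    if nc s (du t) = true then ((sg s (du t) : ℤ) : F) * y (th s (du t)) else 0 := by
  have h := tri_eq_tf y (e F s) (e F (du t))
  rw [tf_e, du_du] at h
  rw [← h, tri_comm12, tri_comm23, tri_e_e]

theorem cr_e_e (l b : I27) : cr (e F l) (e F b) =
    if nc l b = true then ((sg l b : ℤ) : F) • e F (du (th l b)) else 0 := by
  funext t
  have h := tri_eq_tf (e F l) (e F b) (e F (du t))
  rw [tf_e, du_du] at h
  rw [← h, tri_e_e]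
  split_ifs with h1
  · rw [Pi.smul_apply, smul_eq_mul]
    congr 1
    by_cases h2 : th l b = du t
    · rw [h2, e_self, du_du, e_self]
    · rw [e_ne h2, e_ne fun h3 => h2 (by rw [h3, du_du])]
  · rfl

/-- the weights of `Uc (sup L5)` -/
def M2 : List I27 := [(1, 2, 1), (1, 2, 2)]

theorem Uc_L5 : Uc (sup F L5) = sup F M2 := by
  apply le_antisymm
  · intro y hy m hm
    have h := forall_wts (p := fun m => M2.contains m || L5.any fun l => wts.any fun b => nc l b &&
      wts.any fun t => nc (du (th l b)) (du t) && (th (du (th l b)) (du t) == m) && !(L5.contains t))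
      (by decide +kernel) m
    rw [Bool.or_eq_true] at h
    rcases h with h | h
    · exact absurd (by simpa using h) hm
    · rw [List.any_eq_true] at h
      obtain ⟨l, hl, h⟩ := h
      rw [List.any_eq_true] at h
      obtain ⟨b, -, h⟩ := h
      rw [Bool.and_eq_true, List.any_eq_true] at h
      obtain ⟨h1, t, -, h⟩ := h
      rw [Bool.and_eq_true, Bool.and_eq_true, beq_iff_eq] at h
      obtain ⟨⟨h2, h3⟩, h4⟩ := h
      have h5 : t ∉ L5 := by simpa using h4
      have hl5 : e F l ∈ sup F L5 := fun a ha => e_ne fun h => ha (h ▸ hl)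
      have h6 := hy (e F l) hl5 (e F b) t h5
      rw [cr_e_e, if_pos h1, cr_smul_right, Pi.smul_apply, smul_eq_mul, cr_e_apply, if_pos h2, h3] at h6
      exact (mul_eq_zero.1 ((mul_eq_zero.1 h6).resolve_left (sg_ne_zero h1))).resolve_left (sg_ne_zero h2)
  · intro y hy x hx z
    -- expand `x` and `z`
    have hsum : ∀ v : I27 → F, v = ∑ a, v a • e F a := by
      intro v
      funext b
      rw [Finset.sum_apply, Finset.sum_eq_single b]
      · rw [Pi.smul_apply, e_self, smul_eq_mul, mul_one]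
      · intro a _ ha
        rw [Pi.smul_apply, e_ne (Ne.symm ha), smul_zero]
      · intro h; exact absurd (Finset.mem_univ _) h
    have hb : ∀ l ∈ L5, ∀ b, cr y (cr (e F l) (e F b)) ∈ sup F L5 := by
      intro l hl b t ht
      rw [cr_e_e]
      by_cases h1 : nc l b = true
      · rw [if_pos h1, cr_smul_right, Pi.smul_apply, smul_eq_mul, cr_e_apply]
        split_ifs with h2
        · have h3 := forall_wts (List.all_eq_true.1 (show (L5.all fun l => wts.all fun b => !(nc l b) ||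
            wts.all fun t => L5.contains t || !(nc (du (th l b)) (du t)) ||
              !(M2.contains (th (du (th l b)) (du t)))) = true by decide +kernel) l hl) b
          rw [h1, Bool.not_true, Bool.false_or] at h3
          have h4 := forall_wts h3 t
          rw [h2, Bool.not_true, Bool.or_false, Bool.or_eq_true] at h4
          rcases h4 with h4 | h4
          · exact absurd (by simpa using h4) ht
          · rw [hy _ (by simpa using h4), mul_zero, mul_zero]
        · rw [mul_zero]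
      · rw [if_neg h1]
        have h2 := cr_smul_right (0 : F) y (0 : I27 → F)
        rw [zero_smul, zero_smul] at h2
        rw [h2]
        rfl
    have h1 : cr y (cr x z) = ∑ a, ∑ b, (x a * z b) • cr y (cr (e F a) (e F b)) := by
      have e1 : crB F x z = ∑ a, ∑ b, (x a * z b) • crB F (e F a) (e F b) := by
        conv_lhs => rw [hsum x, hsum z]
        simp only [map_sum, map_smul, LinearMap.sum_apply, LinearMap.smul_apply, Finset.smul_sum, smul_smul]
        rw [Finset.sum_comm]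
        refine Finset.sum_congr rfl fun a _ => Finset.sum_congr rfl fun b _ => ?_
        rw [mul_comm]
      have e2 : crB F y (crB F x z) = ∑ a, ∑ b, (x a * z b) • crB F y (crB F (e F a) (e F b)) := by
        rw [e1]
        simp only [map_sum, map_smul]
      exact e2
    rw [h1]
    refine Submodule.sum_mem _ fun a _ => Submodule.sum_mem _ fun b _ => ?_
    by_cases ha : a ∈ L5
    · exact Submodule.smul_mem _ _ (hb a ha b)
    · rw [hx a ha, zero_mul, zero_smul]
      exact Submodule.zero_mem _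

theorem finrank_M2 : finrank F (sup F M2) = 2 := by
  refine le_antisymm (finrank_sup_le M2) ?_
  have h := le_finrank_sup (F := F) M2
  have h1 : (wts.filter fun a => !(M2.contains a)).length = 25 := by decide +kernel
  rw [h1] at h
  exact h

/-- the map of the other module -/
theorem finrank_Uc (g : ↥(Zgrp F)) (W : Submodule F (I27 → F)) :
    finrank F (Uc (mp (g : GL I27 F) W)) = finrank F (Uc W) := by
  have h1 : Uc (mp (g : GL I27 F) W) = (Uc W).map (V' F g) := by
    ext y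
    constructor
    · intro h
      refine ⟨V' F g⁻¹ y, ?_, ?_⟩
      · rw [SetLike.mem_coe, ← Uc_act g]
        rwa [← Module.End.mul_apply, ← map_mul, mul_inv_cancel, map_one, Module.End.one_apply]
      · rw [← Module.End.mul_apply, ← map_mul, mul_inv_cancel, map_one, Module.End.one_apply]
    · rintro ⟨y, hy, rfl⟩
      exact (Uc_act g).2 hy
  rw [h1]
  refine (Submodule.equivMapOfInjective (V' F g) ?_ (Uc W)).finrank_eq.symm
  intro x y hxy
  have h2 := congrArg (V' F g⁻¹) hxy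
  rwa [← Module.End.mul_apply, ← Module.End.mul_apply, ← map_mul, inv_mul_cancel, map_one, Module.End.one_apply,
    Module.End.one_apply] at h2

/-- **(G4)** -/
theorem exists_sub_five {A : Type v} [Group A] (hA : commutator A = ⊤) (ψ : A →* ↥(Zgrp F))
    {ρ ρ' : Representation F ↥(Zgrp F) (I27 → F)} (hρ : Pair ρ ρ') {W : Submodule F (I27 → F)}
    (hst : ∀ a, ∀ w ∈ W, ρ (ψ a) w ∈ W) (h5 : finrank F W = 5) (hW : ∀ w ∈ W, sh w = 0) :
    ∃ U : Submodule F (I27 → F), (finrank F U = 1 ∨ finrank F U = 2) ∧ ∀ a, ∀ u ∈ U, ρ' (ψ a) u ∈ U := by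
  obtain ⟨ψ', h1, h2⟩ := hρ.cases ψ
  have hTS : TS W := fun w hw => (singular_iff w).2 (hW w hw)
  have hst' : ∀ a, ∀ w ∈ W, V F (ψ' a) w ∈ W := fun a w hw => by rw [← h1]; exact hst a w hw
  obtain ⟨g, hg, he⟩ := exists_four hTS (by rw [h5]; norm_num)
  rcases le_or_le (hTS.mp hg) he with hle | hle
  · -- inside a six-space
    have hH := hull_of hA ψ' hg fun a => hull_stab hg he hle (ψ' a).2 (stab_mp ψ' hst' a)
    have hWY : W ≤ mp g⁻¹ (W6 F) := by
      have := mp_mono g⁻¹ hle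
      rwa [mp_inv_mp] at this
    obtain ⟨U, h3, h4, -⟩ := hH.dualSub (Or.inl ⟨rfl, rfl⟩) hWY hst'
    exact ⟨U, Or.inl (by omega), fun a => by rw [h2]; exact h4 a⟩
  · -- maximal
    have h6 : mp g W = sup F L5 := Submodule.eq_of_le_of_finrank_eq hle (by rw [finrank_mp, h5, finrank_L5])
    refine ⟨Uc W, Or.inr ?_, ?_⟩
    · have h7 := finrank_Uc (F := F) ⟨g, hg⟩ W
      change finrank F (Uc (mp g W)) = _ at h7
      rw [← h7, h6, Uc_L5, finrank_M2]
    · intro a u hu
      rw [h2]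
      have h7 := (Uc_act (ψ' a)).2 hu
      rwa [stab_mp ψ' hst' a] at h7

/-! ### fixed vectors -/

/-- a perfect group all of whose 2-dimensional representations are trivial acts trivially on stable subspaces of
dimension 1 or 2 -/
theorem trivial_of_dim {A : Type v} [Group A] (hA : commutator A = ⊤) (h2 : ∀ θ : A →* GL (Fin 2) F, ∀ a, θ a = 1)
    (ρ : Representation F A (I27 → F)) {U : Submodule F (I27 → F)} (hst : ∀ a, ∀ u ∈ U, ρ a u ∈ U)
    (hU : finrank F U = 1 ∨ finrank F U = 2) : ∀ a, ∀ u ∈ U, ρ a u = u := by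
  let τ : A →* Module.End F U :=
    { toFun := fun a => (ρ a).restrict (hst a)
      map_one' := by
        ext u
        simp only [_root_.map_one, _root_.LinearMap.coe_restrict_apply, _root_.Module.End.one_apply]
      map_mul' := fun a b => by
        ext u
        simp only [_root_.map_mul, _root_.LinearMap.coe_restrict_apply, _root_.Module.End.mul_apply] }
  have hτ : ∀ a (u : U), ((τ a u : U) : I27 → F) = ρ a u := fun a u => rfl
  have key : ∀ a, τ a = 1 := by
    rcases hU with hU | hU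
    · -- commutative
      have hcomm : ∀ f g : Module.End F U, f * g = g * f := by
        obtain ⟨v, hv0, hv⟩ := finrank_eq_one_iff'.1 hU
        intro f g
        apply LinearMap.ext
        intro w
        obtain ⟨c, rfl⟩ := hv w
        obtain ⟨c1, h3⟩ := hv (f v)
        obtain ⟨c2, h4⟩ := hv (g v)
        rw [Module.End.mul_apply, Module.End.mul_apply, map_smul, map_smul, map_smul, map_smul, ← h3, ← h4, map_smul,
          map_smul, ← h3, ← h4, smul_comm c2 c1]
      have hK : commutator A ≤ (MonoidHom.toHomUnits τ).ker := by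
        rw [commutator_def, Subgroup.commutator_le]
        intro a _ b _
        rw [MonoidHom.mem_ker, map_commutatorElement, commutatorElement_eq_one_iff_mul_comm]
        apply Units.ext
        exact hcomm _ _
      intro a
      have h3 : a ∈ (MonoidHom.toHomUnits τ).ker := hK (hA ▸ Subgroup.mem_top a)
      exact congrArg Units.val (MonoidHom.mem_ker.1 h3)
    · let bs : Basis (Fin 2) F U := Module.finBasisOfFinrankEq F U hU
      let θ : A →* GL (Fin 2) F := MonoidHom.toHomUnits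
        (((LinearMap.toMatrixAlgEquiv bs : Module.End F U ≃ₐ[F] _) : Module.End F U →* Matrix (Fin 2) (Fin 2) F).comp τ)
      intro a
      have h3 := congrArg Units.val (h2 θ a)
      have h4 : LinearMap.toMatrixAlgEquiv bs (τ a) = 1 := h3
      exact (LinearMap.toMatrixAlgEquiv bs).injective (by rw [h4, map_one])
  intro a u hu
  have h3 := hτ a ⟨u, hu⟩
  rw [key a] at h3
  exact h3.symm

theorem exists_fixed {A : Type v} [Group A] (hA : commutator A = ⊤) (h2 : ∀ θ : A →* GL (Fin 2) F, ∀ a, θ a = 1)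
    (ρ : Representation F A (I27 → F)) {U : Submodule F (I27 → F)} (hst : ∀ a, ∀ u ∈ U, ρ a u ∈ U)
    (hU : finrank F U = 1 ∨ finrank F U = 2) : ∃ u : I27 → F, u ≠ 0 ∧ ∀ a, ρ a u = u := by
  have h3 : U ≠ ⊥ := by
    rintro rfl
    rw [finrank_bot] at hU
    omega
  obtain ⟨u, hu, hu0⟩ := Submodule.exists_mem_ne_zero_of_ne_bot h3
  exact ⟨u, hu0, fun a => trivial_of_dim hA h2 ρ hst hU a u hu⟩

end Cfsg.Agent.R2.GEO
end
end
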