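import Cfsg.Agent.R2.H28.SL2.ExtY_m3
import Mathlib.Analysis.SpecialFunctions.Trigonometric.Basic
import Mathlib.Algebra.Polynomial.Roots
import Mathlib.LinearAlgebra.TensorProduct.Basis
import Mathlib.LinearAlgebra.Matrix.ToLin
import Mathlib.RepresentationTheory.Basic
import Mathlib.RingTheory.RootsOfUnity.AlgebraicallyClosed
import Cfsg.Agent.Prune
set_option linter.all false

section
prune_inst 0x7fffeff8bbaff9dfdfff7e3fa7daeffc33870fffa6dff943ffe06bbf8b3f33920bc56faf09e0f0fe0e77e01410b87853f97eefffe86bdc7ffffd5ff45ffbee4ff5f7bd0951d69c340fb80fff03f0778e6f3fffffffffffffffffffffffffffbeffbffbfeffff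

-- part: R2/H28/SL2/Tens
section
prune_inst 0x1000440002202000000008211000004080000000000000088000700000000000900084100800000002200000800002000000000400000000a000000000000000000000000000000000000000004000000000000000000000000000000000000000000000
set_option linter.all false
open scoped Cfsg.Agent.FastGrp

-- part: R2/H28/SL2/Chr
section
/-!
# The characters of the modules `V_b` as functions on the complex roots of unity (helper28)

`chB b z = ∑_{m ∈ B_b} z ^ (2 m - b)`; `chB_mul` (Steinberg), `exists_R` : it is a monic polynomial of degree `b` in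
`z + z⁻¹`; `chB_indep` : the `chB b`, `b < q`, are linearly independent on the `z` with `z ^ (q - 1) = 1` or
`z ^ (q + 1) = 1`.
-/

set_option autoImplicit false
set_option linter.unusedSectionVars false

namespace Cfsg.Agent.R2.H28.SL2

open Cfsg.Agent.H943.SL2Rel Cfsg.Agent.H943.SL2Mod

/-- `z ^ n + z ^ (n - 2) + ... + z ^ (-n)` -/
noncomputable def chi (n : ℕ) (z : ℂ) : ℂ := ∑ j ∈ Finset.range (n + 1), z ^ j * z⁻¹ ^ (n - j)

theorem chi_zero (z : ℂ) : chi 0 z = 1 := by
  unfold chi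
  simp

theorem chi_succ (n : ℕ) (z : ℂ) : chi (n + 1) z = z⁻¹ * chi n z + z ^ (n + 1) := by
  unfold chi
  rw [Finset.sum_range_succ, Nat.sub_self, pow_zero, mul_one, Finset.mul_sum]
  congr 1
  refine Finset.sum_congr rfl fun j hj => ?_
  have h1 := Finset.mem_range.1 hj
  rw [show n + 1 - j = n - j + 1 by omega, pow_succ]
  ring

theorem chi_symm (n : ℕ) (z : ℂ) : chi n z⁻¹ = chi n z := by
  unfold chi
  rw [← Finset.sum_range_reflect]
  refine Finset.sum_congr rfl fun j hj => ?_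
  have h1 := Finset.mem_range.1 hj
  rw [inv_inv, show n + 1 - 1 - j = n - j by omega, show n - (n - j) = j by omega, mul_comm]

theorem chi_succ' (n : ℕ) (z : ℂ) : chi (n + 1) z = z * chi n z + z⁻¹ ^ (n + 1) := by
  rw [← chi_symm, chi_succ, chi_symm, inv_inv]

theorem chi_two (n : ℕ) {z : ℂ} (hz : z ≠ 0) : chi (n + 2) z = (z + z⁻¹) * chi (n + 1) z - chi n z := by
  have h1 := chi_succ (n + 1) z
  have h2 := chi_succ n z
  have h3 : z * chi (n + 1) z = chi n z + z ^ (n + 1 + 1) := by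
    rw [h2, mul_add, ← mul_assoc, mul_inv_cancel₀ hz, one_mul, pow_succ z (n + 1)]
    ring
  rw [show n + 2 = n + 1 + 1 from rfl, h1, add_mul, h3]
  ring

theorem chi_one (z : ℂ) : chi 1 z = z + z⁻¹ := by
  rw [show (1 : ℕ) = 0 + 1 from rfl, chi_succ, chi_zero]
  ring

theorem chi_sub {n : ℕ} {z : ℂ} (hz : z ≠ 0) : chi (n + 2) z - chi n z = z ^ (n + 2) + z⁻¹ ^ (n + 2) := by
  have h1 := chi_succ (n + 1) z
  have h2 := chi_succ' n z
  rw [show n + 2 = n + 1 + 1 from rfl, h1, h2, mul_add, ← mul_assoc, inv_mul_cancel₀ hz, one_mul, pow_succ z⁻¹ (n + 1)]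
  ring

open Polynomial in
theorem exists_S (n : ℕ) : ∃ P : Polynomial ℂ, P.Monic ∧ P.natDegree = n ∧
    ∀ z : ℂ, z ≠ 0 → P.eval (z + z⁻¹) = chi n z := by
  induction n using Nat.strong_induction_on with
  | _ n ih =>
    match n, ih with
    | 0, _ => exact ⟨1, monic_one, natDegree_one, fun z _ => by rw [Polynomial.eval_one, chi_zero]⟩
    | 1, _ => exact ⟨X, monic_X, natDegree_X, fun z _ => by rw [eval_X, chi_one]⟩
    | n + 2, ih =>
      obtain ⟨P, hP1, hP2, hP3⟩ := ih (n + 1) (by omega)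
      obtain ⟨Q, hQ1, hQ2, hQ3⟩ := ih n (by omega)
      have h1 : (X * P).natDegree = n + 2 := by
        rw [monic_X.natDegree_mul hP1, natDegree_X, hP2]
        ring
      have h2 : Q.natDegree < (X * P).natDegree := by rw [h1, hQ2]; omega
      refine ⟨X * P - Q, (monic_X.mul hP1).sub_of_left (degree_lt_degree h2), ?_, fun z hz => ?_⟩
      · rw [natDegree_sub_eq_left_of_natDegree_lt h2, h1]
      · rw [eval_sub, eval_mul, eval_X, hP3 z hz, hQ3 z hz, chi_two n hz]

open Polynomial in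
theorem exists_C {n : ℕ} (hn : 0 < n) : ∃ P : Polynomial ℂ, P.Monic ∧ P.natDegree = n ∧
    ∀ z : ℂ, z ≠ 0 → P.eval (z + z⁻¹) = z ^ n + z⁻¹ ^ n := by
  match n, hn with
  | 1, _ => exact ⟨X, monic_X, natDegree_X, fun z _ => by rw [eval_X, pow_one, pow_one]⟩
  | n + 2, _ =>
    obtain ⟨P, hP1, hP2, hP3⟩ := exists_S (n + 2)
    obtain ⟨Q, hQ1, hQ2, hQ3⟩ := exists_S n
    have h2 : Q.natDegree < P.natDegree := by omega
    refine ⟨P - Q, hP1.sub_of_left (degree_lt_degree h2), ?_, fun z hz => ?_⟩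
    · rw [natDegree_sub_eq_left_of_natDegree_lt h2, hP2]
    · rw [eval_sub, hP3 z hz, hQ3 z hz, chi_sub hz]

variable (k : Type*) [Field k] [DecidableEq k]

/-- the character of `V_b` -/
noncomputable def chB (b : ℕ) (z : ℂ) : ℂ := ∑ m ∈ Bf k b, z ^ m * z⁻¹ ^ (b - m)

theorem chB_zero (z : ℂ) : chB k 0 z = 1 := by
  have h : Bf k 0 = {0} := by
    ext m
    rw [mem_Bf, Finset.mem_singleton]
    constructor
    · intro h
      exact Nat.le_zero.1 h.1
    · rintro rfl
      exact ⟨le_refl 0, by simp only [_root_.Nat.choose_self, _root_.Nat.cast_one, _root_.ne_eq, _root_.one_ne_zero, _root_.not_false_eq_true]⟩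
  unfold chB
  rw [h, Finset.sum_singleton]
  simp

variable (p : ℕ) [Fact p.Prime] [CharP k p]

theorem mem_Bf_mul {b m r s : ℕ} (hr : r < p) (hs : s < p) :
    p * m + s ∈ Bf k (p * b + r) ↔ s ≤ r ∧ m ∈ Bf k b := by
  have hp : p.Prime := Fact.out
  rw [mem_Bf, mem_Bf]
  constructor
  · intro h
    have h2 := h.2
    rw [ch_mul p b m hr hs] at h2
    have h3 := left_ne_zero_of_mul h2
    have h4 := right_ne_zero_of_mul h2
    refine ⟨?_, ?_, h4⟩
    · by_contra hc
      rw [Nat.choose_eq_zero_of_lt (by omega), Nat.cast_zero] at h3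
      exact h3 rfl
    · by_contra hc
      rw [Nat.choose_eq_zero_of_lt (by omega), Nat.cast_zero] at h4
      exact h4 rfl
  · rintro ⟨h1, h2, h3⟩
    refine ⟨?_, ?_⟩
    · have := Nat.mul_le_mul_left p h2
      omega
    · rw [ch_mul p b m hr hs]
      refine mul_ne_zero ?_ h3
      rw [Ne, CharP.cast_eq_zero_iff k p, not_dvd_choose_lt hp hr]
      exact h1

/-- **Steinberg's tensor product theorem for the characters** -/
theorem chB_mul (b : ℕ) {r : ℕ} (hr : r < p) (z : ℂ) :
    chB k (p * b + r) z = chi r z * chB k b (z ^ p) := by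
  have hp : p.Prime := Fact.out
  unfold chi chB
  rw [Finset.sum_mul_sum, ← Finset.sum_product']
  symm
  refine Finset.sum_nbij' (fun x => p * x.2 + x.1) (fun m => (m % p, m / p)) ?_ ?_ ?_ ?_ ?_
  · rintro ⟨s, m⟩ hx
    rw [Finset.mem_product, Finset.mem_range] at hx
    exact (mem_Bf_mul k p hr (by omega)).2 ⟨by omega, hx.2⟩
  · intro m hm
    rw [← Nat.div_add_mod m p, mem_Bf_mul k p hr (Nat.mod_lt m hp.pos)] at hm
    rw [Finset.mem_product, Finset.mem_range]
    exact ⟨by show m % p < r + 1; omega, hm.2⟩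
  · rintro ⟨s, m⟩ hx
    rw [Finset.mem_product, Finset.mem_range] at hx
    have hs : s < p := by
      have := hx.1
      dsimp only at this
      omega
    show ((p * m + s) % p, (p * m + s) / p) = (s, m)
    rw [Nat.mul_add_mod, Nat.mod_eq_of_lt hs, Nat.mul_add_div hp.pos, Nat.div_eq_of_lt hs, add_zero]
  · intro m _
    exact Nat.div_add_mod m p
  · rintro ⟨s, m⟩ hx
    rw [Finset.mem_product, Finset.mem_range, mem_Bf] at hx
    have h1 := hx.1
    have h2 := hx.2.1
    dsimp only at h1 h2 ⊢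
    have h3 := Nat.mul_le_mul_left p h2
    have h4 : p * b + r - (p * m + s) = (r - s) + p * (b - m) := by
      rw [Nat.mul_sub]
      omega
    rw [h4, pow_add, pow_add, ← inv_pow, ← pow_mul, ← pow_mul]
    ring

include p in
open Polynomial in
theorem exists_R (b : ℕ) : ∃ P : Polynomial ℂ, P.Monic ∧ P.natDegree = b ∧
    ∀ z : ℂ, z ≠ 0 → P.eval (z + z⁻¹) = chB k b z := by
  have hp : p.Prime := Fact.out
  induction b using Nat.strong_induction_on with
  | _ b ih =>
    rcases Nat.eq_zero_or_pos b with rfl | hb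
    · exact ⟨1, monic_one, natDegree_one, fun z _ => by rw [Polynomial.eval_one, chB_zero]⟩
    obtain ⟨P, hP1, hP2, hP3⟩ := ih (b / p) (Nat.div_lt_self hb hp.one_lt)
    obtain ⟨C, hC1, hC2, hC3⟩ := exists_C hp.pos
    obtain ⟨S, hS1, hS2, hS3⟩ := exists_S (b % p)
    have h0 : (P.comp C).Monic := hP1.comp hC1 (by rw [hC2]; exact hp.pos.ne')
    refine ⟨S * P.comp C, hS1.mul h0, ?_, fun z hz => ?_⟩
    · rw [hS1.natDegree_mul h0, natDegree_comp, hP2, hC2, hS2, mul_comm]
      exact Nat.mod_add_div b p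
    · rw [eval_mul, eval_comp, hS3 z hz, hC3 z hz, inv_pow, hP3 (z ^ p) (pow_ne_zero _ hz),
        ← chB_mul k p _ (Nat.mod_lt b hp.pos), Nat.div_add_mod]

/-- the angles -/
noncomputable def ang (q i : ℕ) : ℝ :=
  if i ≤ (q - 1) / 2 then 2 * Real.pi * i / ((q - 1 : ℕ) : ℝ) else 2 * Real.pi * ((i - (q - 1) / 2 : ℕ) : ℝ) / ((q + 1 : ℕ) : ℝ)

theorem ang_mem {q i : ℕ} (hq : 2 ≤ q) (hi : i < q) : ang q i ∈ Set.Icc 0 Real.pi := by
  have hpi := Real.pi_pos
  unfold ang
  split_ifs with h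
  · have h1 : (0 : ℝ) < ((q - 1 : ℕ) : ℝ) := by
      have : 0 < q - 1 := by omega
      exact_mod_cast this
    have h2 : 2 * (i : ℝ) ≤ ((q - 1 : ℕ) : ℝ) := by
      have : 2 * i ≤ q - 1 := by omega
      exact_mod_cast this
    constructor
    · (clear * - h1; positivity)
    · rw [div_le_iff₀ h1]
      nlinarith only [hpi, h2]
  · have h1 : (0 : ℝ) < ((q + 1 : ℕ) : ℝ) := by positivity
    have h2 : 2 * ((i - (q - 1) / 2 : ℕ) : ℝ) ≤ ((q + 1 : ℕ) : ℝ) := by
      have : 2 * (i - (q - 1) / 2) ≤ q + 1 := by omega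
      exact_mod_cast this
    constructor
    · (clear * - hq; positivity)
    · rw [div_le_iff₀ h1]
      nlinarith only [hpi, h2]

theorem ang_ne {q i j : ℕ} (hq : 2 ≤ q) (hi : i ≤ (q - 1) / 2) (hj : (q - 1) / 2 < j) (hjq : j < q) :
    ang q i ≠ ang q j := by
  have hpi := Real.pi_pos
  unfold ang
  rw [if_pos hi, if_neg (by omega)]
  intro h
  have h1 : ((q - 1 : ℕ) : ℝ) ≠ 0 := by
    have : q - 1 ≠ 0 := by omega
    exact_mod_cast this
  have h2 : ((q + 1 : ℕ) : ℝ) ≠ 0 := by positivity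
  rw [div_eq_div_iff h1 h2] at h
  have h3 : (i : ℝ) * ((q + 1 : ℕ) : ℝ) = ((j - (q - 1) / 2 : ℕ) : ℝ) * ((q - 1 : ℕ) : ℝ) := by
    have h4 : (2 * Real.pi) * ((i : ℝ) * ((q + 1 : ℕ) : ℝ)) = (2 * Real.pi) * (((j - (q - 1) / 2 : ℕ) : ℝ) * ((q - 1 : ℕ) : ℝ)) := by
      linarith only [h]
    exact mul_left_cancel₀ (by positivity) h4
  have h4 : i * (q + 1) = (j - (q - 1) / 2) * (q - 1) := by exact_mod_cast h3
  set j' := j - (q - 1) / 2 with hj'
  have h5 : 1 ≤ j' := by omega
  have h6 : i + j' < q := by omega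
  obtain ⟨r, rfl⟩ : ∃ r, q = r + 1 := ⟨q - 1, by omega⟩
  rw [Nat.add_sub_cancel] at h4
  have h7 : i < j' := by
    by_contra hc
    have h8 : j' * r ≤ i * r := Nat.mul_le_mul_right r (by omega)
    linarith only [h4, h5, hc, h8]
  obtain ⟨s, hs⟩ : ∃ s, j' = i + 1 + s := ⟨j' - i - 1, by omega⟩
  rw [hs] at h4 h6
  nlinarith only [h6, h4]

theorem ang_inj {q : ℕ} (hq : 2 ≤ q) : Set.InjOn (ang q) (Finset.range q : Set ℕ) := by
  have hpi := Real.pi_pos
  have h1 : ((q - 1 : ℕ) : ℝ) ≠ 0 := by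
    have : q - 1 ≠ 0 := by omega
    exact_mod_cast this
  have h2 : ((q + 1 : ℕ) : ℝ) ≠ 0 := by positivity
  intro i hi j hj hij
  rw [Finset.coe_range, Set.mem_Iio] at hi hj
  by_cases h3 : i ≤ (q - 1) / 2
  · by_cases h4 : j ≤ (q - 1) / 2
    · unfold ang at hij
      rw [if_pos h3, if_pos h4, div_left_inj' h1] at hij
      have := mul_left_cancel₀ (by positivity : (2 * Real.pi : ℝ) ≠ 0) hij
      exact_mod_cast this
    · exact absurd hij (ang_ne hq h3 (by omega) hj)
  · by_cases h4 : j ≤ (q - 1) / 2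
    · exact absurd hij.symm (ang_ne hq h4 (by omega) hi)
    · unfold ang at hij
      rw [if_neg h3, if_neg h4, div_left_inj' h2] at hij
      have := mul_left_cancel₀ (by positivity : (2 * Real.pi : ℝ) ≠ 0) hij
      have : i - (q - 1) / 2 = j - (q - 1) / 2 := by exact_mod_cast this
      omega

theorem ang_pow {q i : ℕ} (hq : 2 ≤ q) : (Complex.exp ((ang q i : ℝ) * Complex.I)) ^ (q - 1) = 1 ∨
    (Complex.exp ((ang q i : ℝ) * Complex.I)) ^ (q + 1) = 1 := by
  have h1 : ((q - 1 : ℕ) : ℝ) ≠ 0 := by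
    have : q - 1 ≠ 0 := by omega
    exact_mod_cast this
  have h2 : ((q + 1 : ℕ) : ℝ) ≠ 0 := by positivity
  unfold ang
  split_ifs with h
  · left
    rw [← Complex.exp_nat_mul, Complex.exp_eq_one_iff]
    refine ⟨i, ?_⟩
    have h3 : ((q - 1 : ℕ) : ℂ) * ((2 * Real.pi * i / ((q - 1 : ℕ) : ℝ) : ℝ) : ℂ) = 2 * Real.pi * i := by
      have : ((q - 1 : ℕ) : ℝ) * (2 * Real.pi * i / ((q - 1 : ℕ) : ℝ)) = 2 * Real.pi * i := mul_div_cancel₀ _ h1
      exact_mod_cast congrArg (fun x : ℝ => (x : ℂ)) this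
    rw [← mul_assoc, h3]
    push_cast
    ring
  · right
    rw [← Complex.exp_nat_mul, Complex.exp_eq_one_iff]
    refine ⟨((i - (q - 1) / 2 : ℕ) : ℤ), ?_⟩
    have h3 : ((q + 1 : ℕ) : ℂ) * ((2 * Real.pi * ((i - (q - 1) / 2 : ℕ) : ℝ) / ((q + 1 : ℕ) : ℝ) : ℝ) : ℂ) =
        2 * Real.pi * ((i - (q - 1) / 2 : ℕ) : ℂ) := by
      have : ((q + 1 : ℕ) : ℝ) * (2 * Real.pi * ((i - (q - 1) / 2 : ℕ) : ℝ) / ((q + 1 : ℕ) : ℝ)) =
        2 * Real.pi * ((i - (q - 1) / 2 : ℕ) : ℝ) := mul_div_cancel₀ _ h2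
      exact_mod_cast congrArg (fun x : ℝ => (x : ℂ)) this
    rw [← mul_assoc, h3]
    push_cast
    ring

theorem coeff_indep {R : ℕ → Polynomial ℂ} (hR1 : ∀ b, (R b).Monic) (hR2 : ∀ b, (R b).natDegree = b) (c : ℕ → ℂ) (n : ℕ)
    (h : ∑ b ∈ Finset.range n, Polynomial.C (c b) * R b = 0) : ∀ b < n, c b = 0 := by
  induction n with
  | zero => intro b hb; omega
  | succ n ih =>
    have h1 : c n = 0 := by
      have h2 := congrArg (fun P => Polynomial.coeff P n) h
      simp only [Polynomial.coeff_zero, Polynomial.finsetSum_coeff] at h2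
      rw [Finset.sum_range_succ, Finset.sum_eq_zero, zero_add, Polynomial.coeff_C_mul] at h2
      · have h3 : (R n).coeff n = 1 := by
          have := hR1 n
          rwa [Polynomial.Monic, Polynomial.leadingCoeff, hR2] at this
        rwa [h3, mul_one] at h2
      · intro b hb
        rw [Polynomial.coeff_C_mul, Polynomial.coeff_eq_zero_of_natDegree_lt, mul_zero]
        rw [hR2]
        exact Finset.mem_range.1 hb
    intro b hb
    rw [Finset.sum_range_succ, h1, Polynomial.C_0, zero_mul, add_zero] at h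
    rcases Nat.lt_succ_iff_lt_or_eq.1 hb with h2 | rfl
    · exact ih h b h2
    · exact h1

include p in
/-- **linear independence of the characters** -/
theorem chB_indep {q : ℕ} (hq : 2 ≤ q) (c : ℕ → ℂ)
    (h : ∀ z : ℂ, (z ^ (q - 1) = 1 ∨ z ^ (q + 1) = 1) → ∑ b ∈ Finset.range q, c b * chB k b z = 0) :
    ∀ b < q, c b = 0 := by
  choose R hR1 hR2 hR3 using exists_R k p
  apply coeff_indep hR1 hR2
  have hinj : Set.InjOn (fun i => ((2 * Real.cos (ang q i) : ℝ) : ℂ)) (Finset.range q : Set ℕ) := by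
    intro i hi j hj hij
    have h1 : (2 * Real.cos (ang q i) : ℝ) = 2 * Real.cos (ang q j) := Complex.ofReal_injective hij
    have h2 : Real.cos (ang q i) = Real.cos (ang q j) := by linarith only [h1]
    exact ang_inj hq hi hj (Real.injOn_cos (ang_mem hq (Finset.mem_range.1 hi)) (ang_mem hq (Finset.mem_range.1 hj)) h2)
  refine Polynomial.eq_zero_of_natDegree_lt_card_of_eval_eq_zero' _
    ((Finset.range q).image fun i => ((2 * Real.cos (ang q i) : ℝ) : ℂ)) ?_ ?_
  · intro x hx
    obtain ⟨i, hi, rfl⟩ := Finset.mem_image.1 hx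
    set z := Complex.exp ((ang q i : ℝ) * Complex.I) with hz
    have hz0 : z ≠ 0 := Complex.exp_ne_zero _
    have h1 : ((2 * Real.cos (ang q i) : ℝ) : ℂ) = z + z⁻¹ := by
      rw [hz, ← Complex.exp_neg, ← neg_mul, Complex.ofReal_mul, Complex.ofReal_cos]
      have := Complex.two_cos (ang q i : ℂ)
      rw [← this]
      norm_num
    rw [h1, Polynomial.eval_finsetSum]
    have h2 := h z (ang_pow hq)
    rw [← h2]
    refine Finset.sum_congr rfl fun b _ => ?_
    rw [Polynomial.eval_mul, Polynomial.eval_C, hR3 b z hz0]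
  · rw [Finset.card_image_of_injOn hinj, Finset.card_range]
    refine lt_of_le_of_lt (Polynomial.natDegree_sum_le_of_forall_le (n := q - 1) _ _ fun b hb => ?_) (by omega)
    refine (Polynomial.natDegree_C_mul_le _ _).trans ?_
    rw [hR2]
    have := Finset.mem_range.1 hb
    omega

end Cfsg.Agent.R2.H28.SL2
end

-- part: R2/H28/SL2/Bch
section
/-!
# Brauer characters (helper28)

`bc ρ g ζ N z = ∑ j < N, dim (eigenspace of ζ ^ j) * z ^ j`. Eigenbases, tensor products, homomorphisms, symmetric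
squares.
-/

set_option autoImplicit false
set_option linter.unusedSectionVars false

namespace Cfsg.Agent.R2.H28.SL2

open Cfsg.Agent.H943.SL2Mod Cfsg.Agent.H943.RepAdd
open scoped TensorProduct

section gen

theorem zpow_red {K : Type*} [Field K] {x : K} {N : ℕ} (hx : x ^ N = 1) (hN : 0 < N) (e : ℤ) :
    x ^ e = x ^ ((e % (N : ℤ)).toNat) := by
  have hx0 : x ≠ 0 := by
    rintro rfl
    rw [zero_pow hN.ne'] at hx
    exact zero_ne_one hx
  have h1 : (0 : ℤ) ≤ e % (N : ℤ) := Int.emod_nonneg _ (by omega)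
  rw [← zpow_natCast x, Int.toNat_of_nonneg h1]
  conv_lhs => rw [← Int.mul_ediv_add_emod e N, zpow_add₀ hx0, zpow_mul, zpow_natCast, hx, one_zpow, one_mul]

theorem zpow_red_lt {N : ℕ} (hN : 0 < N) (e : ℤ) : (e % (N : ℤ)).toNat < N := by
  have h1 : (0 : ℤ) ≤ e % (N : ℤ) := Int.emod_nonneg _ (by omega)
  have h2 : e % (N : ℤ) < N := Int.emod_lt_of_pos _ (by omega)
  omega

variable {k : Type*} [Field k] [DecidableEq k]

theorem count_sum {I : Type*} (S : Finset I) (e : I → ℤ) {ζ : k} {N : ℕ} (hζ : IsPrimitiveRoot ζ N) (hN : 0 < N)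
    {z : ℂ} (hz : z ^ N = 1) :
    ∑ j ∈ Finset.range N, ((S.filter fun i => ζ ^ (e i) = ζ ^ j).card : ℂ) * z ^ j = ∑ i ∈ S, z ^ (e i) := by
  have h1 : ∀ j ∈ Finset.range N, ((S.filter fun i => ζ ^ (e i) = ζ ^ j).card : ℂ) * z ^ j =
      ∑ i ∈ S, if ζ ^ (e i) = ζ ^ j then z ^ j else 0 := by
    intro j _
    rw [← Finset.sum_filter, Finset.sum_const, nsmul_eq_mul]
  rw [Finset.sum_congr rfl h1, Finset.sum_comm]
  refine Finset.sum_congr rfl fun i _ => ?_
  have h2 := zpow_red_lt hN (e i)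
  rw [Finset.sum_eq_single ((e i % (N : ℤ)).toNat)]
  · rw [if_pos (zpow_red hζ.pow_eq_one hN (e i)), ← zpow_red hz hN]
  · intro j hj hne
    rw [if_neg]
    rw [zpow_red hζ.pow_eq_one hN (e i)]
    intro h3
    exact hne (hζ.pow_inj (Finset.mem_range.1 hj) h2 h3.symm)
  · intro h3
    exact absurd (Finset.mem_range.2 h2) h3

variable {G : Type*} [Group G]

/-- the Brauer character -/
noncomputable def bc {V : Type*} [AddCommGroup V] [Module k V] (ρ : Representation k G V) (g : G) (ζ : k) (N : ℕ)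
    (z : ℂ) : ℂ :=
  ∑ j ∈ Finset.range N, (Module.finrank k (eig ρ g (ζ ^ j)) : ℂ) * z ^ j

variable {V : Type*} [AddCommGroup V] [Module k V] {ρ : Representation k G V} {g : G} {ζ : k} {N : ℕ}

theorem finrank_eig_basis {I : Type*} [Fintype I] [DecidableEq I] (v : Module.Basis I k V) (μ : I → k)
    (h : ∀ i, ρ g (v i) = μ i • v i) (ν : k) :
    Module.finrank k (eig ρ g ν) = (Finset.univ.filter fun i => μ i = ν).card := by
  unfold eig
  rw [finrank_diag v.equivFun.symm (ρ g) μ (fun x => ?_) ν, Fintype.card_subtype]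
  rw [Module.Basis.equivFun_symm_apply, Module.Basis.equivFun_symm_apply, map_sum]
  refine Finset.sum_congr rfl fun i _ => ?_
  rw [map_smul, h, smul_smul, mul_comm]

theorem bc_basis {I : Type*} [Fintype I] (v : Module.Basis I k V) (e : I → ℤ)
    (h : ∀ i, ρ g (v i) = ζ ^ (e i) • v i) (hζ : IsPrimitiveRoot ζ N) (hN : 0 < N) {z : ℂ} (hz : z ^ N = 1) :
    bc ρ g ζ N z = ∑ i, z ^ (e i) := by
  classical
  unfold bc
  rw [← count_sum Finset.univ e hζ hN hz]
  refine Finset.sum_congr rfl fun j _ => ?_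
  rw [finrank_eig_basis v (fun i => ζ ^ (e i)) h]

/-- **the eigenvectors span** -/
theorem span_eig (hζ : IsPrimitiveRoot ζ N) (hN : (N : k) ≠ 0) (hg : ρ g ^ N = 1) :
    Submodule.span k {v : V | ∃ j : ℕ, ρ g v = ζ ^ j • v} = ⊤ := by
  have hN0 : N ≠ 0 := by
    rintro rfl
    exact hN Nat.cast_zero
  have hζ0 : ζ ≠ 0 := hζ.ne_zero hN0
  rw [eq_top_iff]
  intro x _
  have h1 : ∑ j ∈ Finset.range N, proj ρ g N (ζ ^ j) x = x := by
    have h2 : ∀ j, proj ρ g N (ζ ^ j) x = (N : k)⁻¹ • ∑ i ∈ Finset.range N, ((ζ⁻¹ ^ i) ^ j) • ((ρ g) ^ i) x := by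
      intro j
      rw [proj_apply]
      congr 1
      refine Finset.sum_congr rfl fun i _ => ?_
      rw [← inv_pow, ← pow_mul, ← pow_mul, mul_comm]
    simp only [h2]
    rw [← Finset.smul_sum, Finset.sum_comm]
    have h3 : ∀ i ∈ Finset.range N, ∑ j ∈ Finset.range N, ((ζ⁻¹ ^ i) ^ j) • ((ρ g) ^ i) x =
        if i = 0 then (N : k) • x else 0 := by
      intro i hi
      rw [← Finset.sum_smul]
      split_ifs with h0
      · subst h0
        simp only [_root_.pow_zero, _root_.one_pow, _root_.Finset.sum_const, _root_.Finset.card_range, _root_.nsmul_eq_mul, _root_.mul_one, _root_.Module.End.one_apply]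
      · have h4 : ζ⁻¹ ^ i ≠ 1 := by
          intro h5
          have h6 := (hζ.inv).pow_eq_one_iff_dvd i
          have h7 := Nat.le_of_dvd (by omega) (h6.1 h5)
          have := Finset.mem_range.1 hi
          omega
        have h5 : (∑ j ∈ Finset.range N, (ζ⁻¹ ^ i) ^ j) * (ζ⁻¹ ^ i - 1) = 0 := by
          rw [geom_sum_mul, ← pow_mul, mul_comm, pow_mul, inv_pow, hζ.pow_eq_one, inv_one, one_pow, sub_self]
        rw [(mul_eq_zero.1 h5).resolve_right (sub_ne_zero.2 h4), zero_smul]
    rw [Finset.sum_congr rfl h3, Finset.sum_ite_eq' (Finset.range N) 0, if_pos (Finset.mem_range.2 (by omega)),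
      smul_smul, inv_mul_cancel₀ hN, one_smul]
  rw [← h1]
  refine Submodule.sum_mem _ fun j _ => Submodule.subset_span ⟨j, ?_⟩
  have h2 := proj_mem ρ (n := N) hg (μ := ζ ^ j) (by rw [← pow_mul, mul_comm, pow_mul, hζ.pow_eq_one, one_pow])
    (pow_ne_zero _ hζ0) x
  exact (mem_eig ρ).1 h2

/-- **eigenbases** -/
theorem exists_eigbasis [FiniteDimensional k V] (hζ : IsPrimitiveRoot ζ N) (hN : (N : k) ≠ 0) (hg : ρ g ^ N = 1) :
    ∃ (v : Module.Basis (Fin (Module.finrank k V)) k V) (e : Fin (Module.finrank k V) → ℤ),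
      ∀ i, ρ g (v i) = ζ ^ (e i) • v i := by
  obtain ⟨b, hb1, hb2, hb3⟩ := exists_linearIndependent k {v : V | ∃ j : ℕ, ρ g v = ζ ^ j • v}
  rw [span_eig hζ hN hg] at hb2
  let v : Module.Basis b k V := Module.Basis.mk hb3 (by rw [Subtype.range_coe_subtype, Set.ofPred_mem_eq, hb2])
  have : Fintype b := FiniteDimensional.fintypeBasisIndex v
  have hc : Fintype.card b = Module.finrank k V := (Module.finrank_eq_card_basis v).symm
  let v' := v.reindex (Fintype.equivFinOfCardEq hc)
  have h1 : ∀ i, ∃ j : ℕ, ρ g (v' i) = ζ ^ j • v' i := by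
    intro i
    have h2 : v' i = (((Fintype.equivFinOfCardEq hc).symm i : b) : V) := by
      rw [Module.Basis.reindex_apply, Module.Basis.mk_apply]
    rw [h2]
    exact hb1 ((Fintype.equivFinOfCardEq hc).symm i).2
  choose e he using h1
  exact ⟨v', fun i => e i, fun i => by rw [zpow_natCast]; exact he i⟩

/-- tensor products -/
theorem bc_tens [FiniteDimensional k V] {W : Type*} [AddCommGroup W] [Module k W] [FiniteDimensional k W]
    {σ : Representation k G W} (hζ : IsPrimitiveRoot ζ N) (hN : (N : k) ≠ 0) (hg : ρ g ^ N = 1) (hg' : σ g ^ N = 1)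
    {z : ℂ} (hz : z ^ N = 1) : bc (ρ.tprod σ) g ζ N z = bc ρ g ζ N z * bc σ g ζ N z := by
  have hN0 : 0 < N := Nat.pos_of_ne_zero (by
    rintro rfl
    exact hN Nat.cast_zero)
  have hζ0 : ζ ≠ 0 := hζ.ne_zero hN0.ne'
  have hz0 : z ≠ 0 := by
    rintro rfl
    rw [zero_pow hN0.ne'] at hz
    exact zero_ne_one hz
  obtain ⟨v, e, he⟩ := exists_eigbasis (ρ := ρ) hζ hN hg
  obtain ⟨w, f, hf⟩ := exists_eigbasis (ρ := σ) hζ hN hg'
  rw [bc_basis v e he hζ hN0 hz, bc_basis w f hf hζ hN0 hz,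
    bc_basis (v.tensorProduct w) (fun x => e x.1 + f x.2) (fun x => ?_) hζ hN0 hz]
  · rw [Finset.sum_mul_sum, Fintype.sum_prod_type]
    refine Finset.sum_congr rfl fun i _ => Finset.sum_congr rfl fun j _ => ?_
    rw [zpow_add₀ hz0]
  · rw [Module.Basis.tensorProduct_apply', Representation.tprod_apply, TensorProduct.map_tmul, he, hf,
      TensorProduct.smul_tmul_smul, zpow_add₀ hζ0]

/-- homomorphisms -/
theorem bc_hom [FiniteDimensional k V] {W : Type*} [AddCommGroup W] [Module k W] [FiniteDimensional k W]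
    {σ : Representation k G W} (hζ : IsPrimitiveRoot ζ N) (hN : (N : k) ≠ 0) (hg : ρ g ^ N = 1) (hg' : σ g ^ N = 1)
    {z : ℂ} (hz : z ^ N = 1) : bc (Representation.linHom ρ σ) g ζ N z = bc ρ g ζ N z⁻¹ * bc σ g ζ N z := by
  classical
  have hN0 : 0 < N := Nat.pos_of_ne_zero (by
    rintro rfl
    exact hN Nat.cast_zero)
  have hζ0 : ζ ≠ 0 := hζ.ne_zero hN0.ne'
  have hz0 : z ≠ 0 := by
    rintro rfl
    rw [zero_pow hN0.ne'] at hz
    exact zero_ne_one hz
  obtain ⟨v, e, he⟩ := exists_eigbasis (ρ := ρ) hζ hN hg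
  obtain ⟨w, f, hf⟩ := exists_eigbasis (ρ := σ) hζ hN hg'
  have he' : ∀ i, ρ g⁻¹ (v i) = ζ ^ (-e i) • v i := by
    intro i
    have h1 : ρ g⁻¹ (ρ g (v i)) = v i := by
      rw [← Module.End.mul_apply, ← map_mul, inv_mul_cancel, map_one, Module.End.one_apply]
    rw [he, map_smul] at h1
    rw [zpow_neg, eq_inv_smul_iff₀ (zpow_ne_zero _ hζ0)]
    exact h1
  rw [bc_basis v e he hζ hN0 (by rw [inv_pow, hz, inv_one]), bc_basis w f hf hζ hN0 hz,
    bc_basis (v.linearMap w) (fun x => f x.1 - e x.2) (fun x => ?_) hζ hN0 hz]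
  · rw [Finset.sum_mul_sum, Fintype.sum_prod_type, Finset.sum_comm]
    refine Finset.sum_congr rfl fun i _ => Finset.sum_congr rfl fun j _ => ?_
    rw [zpow_sub₀ hz0, inv_zpow, div_eq_mul_inv, mul_comm]
  · refine v.ext fun l => ?_
    rw [Representation.linHom_apply, LinearMap.comp_apply, LinearMap.comp_apply, he', map_smul,
      LinearMap.smul_apply, Module.Basis.linearMap_apply_apply]
    split_ifs with h1
    · rw [map_smul, hf, smul_smul, ← zpow_add₀ hζ0, h1]
      congr 2
      ring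
    · rw [smul_zero, map_zero, smul_zero]

/-! ## Spanning families of eigenvectors -/

theorem proj_eig_ne (hN : 0 < N) {μ ν : k} (hμ : μ ^ N = 1) (hν : ν ^ N = 1) (hne : μ ≠ ν)
    {x : V} (hx : ρ g x = μ • x) : proj ρ g N ν x = 0 := by
  have hν0 : ν ≠ 0 := by
    rintro rfl
    rw [zero_pow hN.ne'] at hν
    exact zero_ne_one hν
  rw [proj_apply]
  have h1 : ∀ i ∈ Finset.range N, (ν⁻¹) ^ i • ((ρ g) ^ i) x = ((ν⁻¹ * μ) ^ i) • x := by
    intro i _
    rw [pow_apply_eig ρ hx, smul_smul, ← mul_pow]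
  rw [Finset.sum_congr rfl h1, ← Finset.sum_smul]
  have h2 : (∑ i ∈ Finset.range N, (ν⁻¹ * μ) ^ i) * (ν⁻¹ * μ - 1) = 0 := by
    rw [geom_sum_mul, mul_pow, inv_pow, hν, hμ, inv_one, one_mul, sub_self]
  have h3 : ν⁻¹ * μ - 1 ≠ 0 := by
    rw [sub_ne_zero]
    intro h4
    apply hne
    rw [inv_mul_eq_iff_eq_mul₀ hν0, mul_one] at h4
    exact h4
  rw [(mul_eq_zero.1 h2).resolve_right h3, zero_smul, smul_zero]

theorem finrank_eig_le_span (hN : (N : k) ≠ 0) (hg : ρ g ^ N = 1) {I : Type*} (S : Finset I)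
    (w : I → V) (μ : I → k) (hμ : ∀ i ∈ S, μ i ^ N = 1) (h : ∀ i ∈ S, ρ g (w i) = μ i • w i)
    (hs : Submodule.span k (w '' (S : Set I)) = ⊤) {ν : k} (hν : ν ^ N = 1) :
    Module.finrank k (eig ρ g ν) ≤ (S.filter fun i => μ i = ν).card := by
  classical
  have hN0 : 0 < N := Nat.pos_of_ne_zero (by
    rintro rfl
    exact hN Nat.cast_zero)
  have hν0 : ν ≠ 0 := by
    rintro rfl
    rw [zero_pow hN0.ne'] at hν
    exact zero_ne_one hν
  have h1 : eig ρ g ν ≤ Submodule.span k (((S.filter fun i => μ i = ν).image w : Finset V) : Set V) := by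
    intro x hx
    rw [← proj_of_mem ρ hN hν0 hx]
    have h2 : x ∈ Submodule.span k (w '' (S : Set I)) := by rw [hs]; trivial
    clear hx
    induction h2 using Submodule.span_induction with
    | mem x hx =>
      obtain ⟨i, hi, rfl⟩ := hx
      have hi' : i ∈ S := hi
      by_cases h3 : μ i = ν
      · rw [proj_of_mem ρ hN hν0 ((mem_eig ρ).2 (by rw [h i hi', h3]))]
        apply Submodule.subset_span
        rw [Finset.mem_coe, Finset.mem_image]
        exact ⟨i, Finset.mem_filter.2 ⟨hi', h3⟩, rfl⟩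
      · rw [proj_eig_ne hN0 (hμ i hi') hν h3 (h i hi')]
        exact Submodule.zero_mem _
    | zero => rw [map_zero]; exact Submodule.zero_mem _
    | add x y _ _ hx hy => rw [map_add]; exact Submodule.add_mem _ hx hy
    | smul a x _ hx => rw [map_smul]; exact Submodule.smul_mem _ _ hx
  exact (Submodule.finrank_mono h1).trans ((finrank_span_finset_le_card _).trans Finset.card_image_le)

/-! ## The symmetric square -/

/-- the alternating tensors -/
def Alt (k : Type*) [Field k] (V : Type*) [AddCommGroup V] [Module k V] : Submodule k (V ⊗[k] V) :=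
  Submodule.span k {z | ∃ x y : V, z = x ⊗ₜ[k] y - y ⊗ₜ[k] x}

theorem alt_inv (ρ : Representation k G V) : ∀ g, ∀ x ∈ Alt k V, ρ.tprod ρ g x ∈ Alt k V := by
  intro g x hx
  unfold Alt at hx
  induction hx using Submodule.span_induction with
  | mem x hx =>
    obtain ⟨a, b, rfl⟩ := hx
    rw [map_sub, Representation.tprod_apply, TensorProduct.map_tmul, TensorProduct.map_tmul]
    exact Submodule.subset_span ⟨_, _, rfl⟩
  | zero => rw [map_zero]; exact Submodule.zero_mem _
  | add x y _ _ hx hy => rw [map_add]; exact Submodule.add_mem _ hx hy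
  | smul a x _ hx => rw [map_smul]; exact Submodule.smul_mem _ _ hx

/-- the symmetric square -/
noncomputable def Sq (ρ : Representation k G V) : Representation k G ((V ⊗[k] V) ⧸ Alt k V) :=
  quotRep (ρ.tprod ρ) (Alt k V) (alt_inv ρ)

theorem span_alt {n : ℕ} (v : Module.Basis (Fin n) k V) : Submodule.span k
    ((fun x : Fin n × Fin n => v x.1 ⊗ₜ[k] v x.2 - v x.2 ⊗ₜ[k] v x.1) ''
      ((Finset.univ.filter fun x : Fin n × Fin n => x.1 < x.2 : Finset (Fin n × Fin n)) : Set (Fin n × Fin n))) = Alt k V := by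
  apply le_antisymm
  · refine Submodule.span_le.2 ?_
    rintro _ ⟨x, -, rfl⟩
    exact Submodule.subset_span ⟨_, _, rfl⟩
  · unfold Alt
    refine Submodule.span_le.2 ?_
    rintro _ ⟨x, y, rfl⟩
    have h1 : x ⊗ₜ[k] y - y ⊗ₜ[k] x = ∑ i, ∑ j, (v.repr x i * v.repr y j) • (v i ⊗ₜ[k] v j - v j ⊗ₜ[k] v i) := by
      have hx : ∑ i, v.repr x i • v i = x := v.sum_repr x
      have hy : ∑ i, v.repr y i • v i = y := v.sum_repr y
      have h2 : ∀ a b : Fin n → k, (∑ i, a i • v i) ⊗ₜ[k] (∑ j, b j • v j) = ∑ i, ∑ j, (a i * b j) • (v i ⊗ₜ[k] v j) := by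
        intro a b
        rw [TensorProduct.sum_tmul]
        refine Finset.sum_congr rfl fun i _ => ?_
        rw [TensorProduct.tmul_sum]
        refine Finset.sum_congr rfl fun j _ => ?_
        rw [TensorProduct.smul_tmul_smul]
      conv_lhs => rw [← hx, ← hy, h2, h2]
      rw [Finset.sum_comm (f := fun i j => (v.repr y i * v.repr x j) • (v i ⊗ₜ[k] v j)), ← Finset.sum_sub_distrib]
      refine Finset.sum_congr rfl fun i _ => ?_
      rw [← Finset.sum_sub_distrib]
      refine Finset.sum_congr rfl fun j _ => ?_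
      rw [smul_sub, mul_comm (v.repr y j)]
    rw [h1]
    refine Submodule.sum_mem _ fun i _ => Submodule.sum_mem _ fun j _ => Submodule.smul_mem _ _ ?_
    rcases lt_trichotomy i j with h2 | rfl | h2
    · exact Submodule.subset_span ⟨(i, j), by simpa only [_root_.Finset.coe_filter, _root_.Finset.mem_univ, _root_.true_and, _root_.Set.mem_ofPred_eq] using h2, rfl⟩
    · rw [sub_self]
      exact Submodule.zero_mem _
    · rw [← neg_sub]
      exact Submodule.neg_mem _ (Submodule.subset_span ⟨(j, i), by simpa only [_root_.Finset.coe_filter, _root_.Finset.mem_univ, _root_.true_and, _root_.Set.mem_ofPred_eq] using h2, rfl⟩)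

theorem span_sq {n : ℕ} (v : Module.Basis (Fin n) k V) : Submodule.span k
    ((fun x : Fin n × Fin n => (Alt k V).mkQ (v x.1 ⊗ₜ[k] v x.2)) ''
      ((Finset.univ.filter fun x : Fin n × Fin n => x.1 ≤ x.2 : Finset (Fin n × Fin n)) : Set (Fin n × Fin n))) = ⊤ := by
  rw [eq_top_iff]
  intro z _
  obtain ⟨y, rfl⟩ := (Alt k V).mkQ_surjective z
  have h1 : y ∈ Submodule.span k (Set.range (v.tensorProduct v)) := by
    rw [(v.tensorProduct v).span_eq]
    trivial
  induction h1 using Submodule.span_induction with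
  | mem x hx =>
    obtain ⟨⟨i, j⟩, rfl⟩ := hx
    rw [Module.Basis.tensorProduct_apply]
    rcases le_total i j with h2 | h2
    · exact Submodule.subset_span ⟨(i, j), by simpa only [_root_.Finset.coe_filter, _root_.Finset.mem_univ, _root_.true_and, _root_.Set.mem_ofPred_eq] using h2, rfl⟩
    · have h3 : (Alt k V).mkQ (v i ⊗ₜ[k] v j) = (Alt k V).mkQ (v j ⊗ₜ[k] v i) := by
        rw [← sub_eq_zero, ← map_sub, Submodule.mkQ_apply, Submodule.Quotient.mk_eq_zero]
        exact Submodule.subset_span ⟨_, _, rfl⟩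
      rw [h3]
      exact Submodule.subset_span ⟨(j, i), by simpa only [_root_.Finset.coe_filter, _root_.Finset.mem_univ, _root_.true_and, _root_.Set.mem_ofPred_eq] using h2, rfl⟩
  | zero => rw [map_zero]; exact Submodule.zero_mem _
  | add x y _ _ hx hy => rw [map_add]; exact Submodule.add_mem _ (hx trivial) (hy trivial)
  | smul a x _ hx => rw [map_smul]; exact Submodule.smul_mem _ _ (hx trivial)

theorem bc_sq [FiniteDimensional k V] (hζ : IsPrimitiveRoot ζ N) (hN : (N : k) ≠ 0) (hg : g ^ N = 1)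
    {z : ℂ} (hz : z ^ N = 1) : bc (Sq ρ) g ζ N z = ((bc ρ g ζ N z) ^ 2 + bc ρ g ζ N (z ^ 2)) / 2 := by
  classical
  have hg1 : ρ g ^ N = 1 := by rw [← map_pow, hg, map_one]
  have hg2 : (ρ.tprod ρ) g ^ N = 1 := by rw [← map_pow, hg, map_one]
  have hg3 : (subRep (ρ.tprod ρ) (Alt k V) (alt_inv ρ)) g ^ N = 1 := by rw [← map_pow, hg, map_one]
  have hg4 : (Sq ρ) g ^ N = 1 := by rw [← map_pow, hg, map_one]
  have hN0 : 0 < N := Nat.pos_of_ne_zero (by
    rintro rfl
    exact hN Nat.cast_zero)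
  have hζ0 : ζ ≠ 0 := hζ.ne_zero hN0.ne'
  have hz0 : z ≠ 0 := by
    rintro rfl
    rw [zero_pow hN0.ne'] at hz
    exact zero_ne_one hz
  obtain ⟨n, v, e, he⟩ : ∃ (n : ℕ) (v : Module.Basis (Fin n) k V) (e : Fin n → ℤ), ∀ i, ρ g (v i) = ζ ^ (e i) • v i :=
    ⟨_, exists_eigbasis (ρ := ρ) hζ hN hg1⟩
  have hz1 : ∀ m : ℤ, (ζ ^ m) ^ N = 1 := by
    intro m
    rw [← zpow_natCast, zpow_comm, zpow_natCast, hζ.pow_eq_one, one_zpow]
  have hz2 : ∀ m : ℕ, (ζ ^ m) ^ N = 1 := by
    intro m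
    have := hz1 m
    rwa [zpow_natCast] at this
  have hT : ∀ x : Fin n × Fin n, (ρ.tprod ρ) g (v x.1 ⊗ₜ[k] v x.2) = ζ ^ (e x.1 + e x.2) • (v x.1 ⊗ₜ[k] v x.2) := by
    intro x
    rw [Representation.tprod_apply, TensorProduct.map_tmul, he, he, TensorProduct.smul_tmul_smul, zpow_add₀ hζ0]
  -- the eigenspaces of `Alt`
  have hA : ∀ j : ℕ, Module.finrank k (eig (subRep (ρ.tprod ρ) (Alt k V) (alt_inv ρ)) g (ζ ^ j)) ≤
      ((Finset.univ.filter fun x : Fin n × Fin n => x.1 < x.2).filter fun x => ζ ^ (e x.1 + e x.2) = ζ ^ j).card := by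
    intro j
    refine finrank_eig_le_span hN hg3 (Finset.univ.filter fun x : Fin n × Fin n => x.1 < x.2)
      (fun x => (⟨v x.1 ⊗ₜ[k] v x.2 - v x.2 ⊗ₜ[k] v x.1, Submodule.subset_span ⟨_, _, rfl⟩⟩ : Alt k V))
      (fun x => ζ ^ (e x.1 + e x.2)) (fun x _ => hz1 _) (fun x _ => ?_) ?_ (hz2 j)
    · apply Subtype.ext
      rw [coe_subRep]
      show (ρ.tprod ρ) g (v x.1 ⊗ₜ[k] v x.2 - v x.2 ⊗ₜ[k] v x.1) = ζ ^ (e x.1 + e x.2) • (v x.1 ⊗ₜ[k] v x.2 - v x.2 ⊗ₜ[k] v x.1)
      rw [map_sub, hT x, hT (x.2, x.1), smul_sub, add_comm (e x.2)]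
    · apply Submodule.map_injective_of_injective (Alt k V).injective_subtype
      rw [Submodule.map_span, Submodule.map_top, Submodule.range_subtype, ← Set.image_comp]
      exact span_alt v
  have hB : ∀ j : ℕ, Module.finrank k (eig (Sq ρ) g (ζ ^ j)) ≤
      ((Finset.univ.filter fun x : Fin n × Fin n => x.1 ≤ x.2).filter fun x => ζ ^ (e x.1 + e x.2) = ζ ^ j).card := by
    intro j
    refine finrank_eig_le_span hN hg4 (Finset.univ.filter fun x : Fin n × Fin n => x.1 ≤ x.2)
      (fun x => (Alt k V).mkQ (v x.1 ⊗ₜ[k] v x.2))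
      (fun x => ζ ^ (e x.1 + e x.2)) (fun x _ => hz1 _) (fun x _ => ?_) (span_sq v) (hz2 j)
    unfold Sq
    rw [quotRep_mk, hT, map_smul]
  have hC : ∀ j : ℕ, Module.finrank k (eig (Sq ρ) g (ζ ^ j)) =
      ((Finset.univ.filter fun x : Fin n × Fin n => x.1 ≤ x.2).filter fun x => ζ ^ (e x.1 + e x.2) = ζ ^ j).card := by
    intro j
    have h1 := finrank_eig (ρ.tprod ρ) (Alt k V) (alt_inv ρ) hg2 hN (hz2 j) (pow_ne_zero _ hζ0)
    rw [finrank_eig_basis (v.tensorProduct v) (fun x => ζ ^ (e x.1 + e x.2)) (fun x => by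
      rw [Module.Basis.tensorProduct_apply']; exact hT x)] at h1
    have h2 : (Finset.univ.filter fun x : Fin n × Fin n => ζ ^ (e x.1 + e x.2) = ζ ^ j).card =
        ((Finset.univ.filter fun x : Fin n × Fin n => x.1 < x.2).filter fun x => ζ ^ (e x.1 + e x.2) = ζ ^ j).card +
        ((Finset.univ.filter fun x : Fin n × Fin n => x.1 ≤ x.2).filter fun x => ζ ^ (e x.1 + e x.2) = ζ ^ j).card := by
      have h3 : ((Finset.univ.filter fun x : Fin n × Fin n => x.1 < x.2).filter fun x => ζ ^ (e x.1 + e x.2) = ζ ^ j).card =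
          ((Finset.univ.filter fun x : Fin n × Fin n => x.2 < x.1).filter fun x => ζ ^ (e x.1 + e x.2) = ζ ^ j).card := by
        refine Finset.card_bij' (fun x _ => (x.2, x.1)) (fun x _ => (x.2, x.1)) ?_ ?_ (fun _ _ => rfl) (fun _ _ => rfl)
        · intro x hx
          simp only [Finset.mem_filter, Finset.mem_univ, true_and] at hx ⊢
          exact ⟨hx.1, by rw [add_comm]; exact hx.2⟩
        · intro x hx
          simp only [Finset.mem_filter, Finset.mem_univ, true_and] at hx ⊢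
          exact ⟨hx.1, by rw [add_comm]; exact hx.2⟩
      rw [h3, ← Finset.card_union_of_disjoint]
      · congr 1
        ext x
        simp only [Finset.mem_filter, Finset.mem_univ, true_and, Finset.mem_union]
        constructor
        · intro h
          rcases lt_or_ge x.2 x.1 with h4 | h4
          · exact Or.inl ⟨h4, h⟩
          · exact Or.inr ⟨h4, h⟩
        · rintro (h | h)
          · exact h.2
          · exact h.2
      · rw [Finset.disjoint_left]
        intro x hx hx'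
        simp only [Finset.mem_filter, Finset.mem_univ, true_and] at hx hx'
        exact absurd hx.1 (not_lt.2 hx'.1)
    rw [h2] at h1
    have h3 := hA j
    have h4 := hB j
    have h5 : Module.finrank k (eig (quotRep (ρ.tprod ρ) (Alt k V) (alt_inv ρ)) g (ζ ^ j)) =
      Module.finrank k (eig (Sq ρ) g (ζ ^ j)) := rfl
    omega
  have hD : bc (Sq ρ) g ζ N z = ∑ x ∈ Finset.univ.filter (fun x : Fin n × Fin n => x.1 ≤ x.2), z ^ (e x.1 + e x.2) := by
    rw [← count_sum _ (fun x : Fin n × Fin n => e x.1 + e x.2) hζ hN0 hz]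
    unfold bc
    exact Finset.sum_congr rfl fun j _ => by rw [hC j]
  have hz3 : (z ^ 2) ^ N = 1 := by rw [← pow_mul, mul_comm, pow_mul, hz, one_pow]
  rw [hD, bc_basis v e he hζ hN0 hz, bc_basis v e he hζ hN0 hz3, eq_div_iff two_ne_zero, sq, Finset.sum_mul_sum,
    ← Finset.sum_product']
  have h1 : ∑ x ∈ Finset.univ.filter (fun x : Fin n × Fin n => x.1 ≤ x.2), z ^ (e x.1 + e x.2) =
      ∑ x ∈ Finset.univ.filter (fun x : Fin n × Fin n => x.2 ≤ x.1), z ^ (e x.1 + e x.2) := by
    refine Finset.sum_nbij' (fun x => (x.2, x.1)) (fun x => (x.2, x.1)) ?_ ?_ (fun _ _ => rfl) (fun _ _ => rfl) ?_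
    · intro x hx
      simp only [Finset.mem_filter, Finset.mem_univ, true_and] at hx ⊢
      exact hx
    · intro x hx
      simp only [Finset.mem_filter, Finset.mem_univ, true_and] at hx ⊢
      exact hx
    · intro x _
      rw [add_comm]
  have h2 : ∑ i, (z ^ 2) ^ e i = ∑ x ∈ Finset.univ.filter (fun x : Fin n × Fin n => x.1 = x.2), z ^ (e x.1 + e x.2) := by
    refine Finset.sum_nbij' (fun i => (i, i)) (fun x => x.1) ?_ ?_ (fun _ _ => rfl) ?_ ?_
    · intro i _
      simp only [_root_.Finset.mem_filter, _root_.Finset.mem_univ, _root_.and_self]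
    · intro i _
      simp
    · intro x hx
      simp only [Finset.mem_filter, Finset.mem_univ, true_and] at hx
      exact Prod.ext rfl hx
    · intro i _
      rw [← zpow_natCast, ← zpow_mul]
      congr 1
      push_cast
      ring
  have h3 : ∑ x ∈ Finset.univ ×ˢ Finset.univ, z ^ e x.1 * z ^ e x.2 = ∑ x : Fin n × Fin n, z ^ (e x.1 + e x.2) := by
    rw [Finset.univ_product_univ]
    exact Finset.sum_congr rfl fun x _ => by rw [zpow_add₀ hz0]
  rw [h3, h2, mul_two]
  nth_rewrite 2 [h1]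
  have h4 := Finset.sum_union_inter (s₁ := Finset.univ.filter (fun x : Fin n × Fin n => x.1 ≤ x.2))
    (s₂ := Finset.univ.filter (fun x : Fin n × Fin n => x.2 ≤ x.1)) (f := fun x : Fin n × Fin n => z ^ (e x.1 + e x.2))
  rw [← h4]
  congr 1
  · refine Finset.sum_congr ?_ fun _ _ => rfl
    ext x
    simp only [Finset.mem_filter, Finset.mem_univ, true_and, Finset.mem_union, iff_true]
    exact le_total _ _
  · refine Finset.sum_congr ?_ fun _ _ => rfl
    ext x
    simp only [Finset.mem_filter, Finset.mem_univ, true_and, Finset.mem_inter]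
    exact ⟨fun h => le_antisymm h.1 h.2, fun h => ⟨h.le, h.ge⟩⟩

end gen

end Cfsg.Agent.R2.H28.SL2
end

-- part: R2/H28/SL2/Tens
section
/-!
# The composition factors of tensor products, Hom and symmetric squares (helper28)

`cs k s z` : the character of a multiset of labels; `cs_inj` : it determines the multiset; `cs_tens`, `cs_hom`,
`cs_sq`.
-/

set_option autoImplicit false
set_option linter.unusedSectionVars false

namespace Cfsg.Agent.R2.H28.SL2

open Matrix Cfsg.Agent.H943.SL2Rel Cfsg.Agent.H943.SL2Mod Cfsg.Agent.H943.RepAdd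
open Cfsg.Agent.H179.SLC (IsSS)
open scoped TensorProduct

universe u v w

/-- the relevant roots of unity -/
def Zs (q : ℕ) (z : ℂ) : Prop := z ^ (q - 1) = 1 ∨ z ^ (q + 1) = 1

theorem Zs.ne_zero {q : ℕ} (hq : 2 ≤ q) {z : ℂ} (h : Zs q z) : z ≠ 0 := by
  rintro rfl
  rcases h with h | h
  · rw [zero_pow (by omega)] at h
    exact zero_ne_one h
  · rw [zero_pow (by omega)] at h
    exact zero_ne_one h

theorem Zs.inv {q : ℕ} {z : ℂ} (h : Zs q z) : Zs q z⁻¹ := by
  rcases h with h | h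
  · exact Or.inl (by rw [inv_pow, h, inv_one])
  · exact Or.inr (by rw [inv_pow, h, inv_one])

theorem Zs.pow {q : ℕ} {z : ℂ} (h : Zs q z) (n : ℕ) : Zs q (z ^ n) := by
  rcases h with h | h
  · exact Or.inl (by rw [← pow_mul, mul_comm, pow_mul, h, one_pow])
  · exact Or.inr (by rw [← pow_mul, mul_comm, pow_mul, h, one_pow])

theorem pow_mul_inv {K : Type*} [Field K] (x : K) (hx : x ≠ 0) (m n : ℕ) : x ^ m * x⁻¹ ^ n = x ^ ((m : ℤ) - (n : ℤ)) := by
  rw [zpow_sub₀ hx, zpow_natCast, zpow_natCast, inv_pow, div_eq_mul_inv]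

section csdef

variable (k : Type u) [Field k] [DecidableEq k]

/-- the character of a multiset of labels -/
noncomputable def cs (s : Multiset ℕ) (z : ℂ) : ℂ := (s.map fun b => chB k b z).sum

theorem cs_cons (b : ℕ) (s : Multiset ℕ) (z : ℂ) : cs k (b ::ₘ s) z = chB k b z + cs k s z := by
  unfold cs
  simp

theorem cs_add (s t : Multiset ℕ) (z : ℂ) : cs k (s + t) z = cs k s z + cs k t z := by
  unfold cs
  simp

theorem cs_singleton (b : ℕ) (z : ℂ) : cs k {b} z = chB k b z := by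
  unfold cs
  simp

theorem cs_eq_sum (s : Multiset ℕ) {q : ℕ} (h : ∀ b ∈ s, b < q) (z : ℂ) :
    cs k s z = ∑ b ∈ Finset.range q, (s.count b : ℂ) * chB k b z := by
  unfold cs
  rw [Finset.sum_multiset_map_count]
  rw [Finset.sum_subset (s₂ := Finset.range q)]
  · exact Finset.sum_congr rfl fun b _ => by rw [nsmul_eq_mul]
  · intro b hb
    exact Finset.mem_range.2 (h b (Multiset.mem_toFinset.1 hb))
  · intro b _ hb
    rw [Multiset.mem_toFinset] at hb
    rw [Multiset.count_eq_zero_of_notMem hb, zero_smul]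

theorem chB_symm (b : ℕ) (z : ℂ) : chB k b z⁻¹ = chB k b z := by
  unfold chB
  refine Finset.sum_nbij' (fun m => b - m) (fun m => b - m) ?_ ?_ ?_ ?_ ?_
  · intro m hm
    rw [mem_Bf] at hm ⊢
    exact ⟨Nat.sub_le _ _, by rw [Nat.choose_symm hm.1]; exact hm.2⟩
  · intro m hm
    rw [mem_Bf] at hm ⊢
    exact ⟨Nat.sub_le _ _, by rw [Nat.choose_symm hm.1]; exact hm.2⟩
  · intro m hm
    rw [mem_Bf] at hm
    exact Nat.sub_sub_self hm.1
  · intro m hm
    rw [mem_Bf] at hm
    exact Nat.sub_sub_self hm.1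
  · intro m hm
    rw [mem_Bf] at hm
    rw [inv_inv, Nat.sub_sub_self hm.1, mul_comm]

theorem cs_symm (s : Multiset ℕ) (z : ℂ) : cs k s z⁻¹ = cs k s z := by
  unfold cs
  congr 2
  funext b
  exact chB_symm k b z

/-- **the character determines the multiset** -/
theorem cs_inj (p : ℕ) [Fact p.Prime] [CharP k p] {q : ℕ} (hq : 2 ≤ q) {s t : Multiset ℕ} (hs : ∀ b ∈ s, b < q) (ht : ∀ b ∈ t, b < q)
    (h : ∀ z, Zs q z → cs k s z = cs k t z) : s = t := by
  have h1 := chB_indep k p hq (fun b => (s.count b : ℂ) - t.count b) fun z hz => by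
    have h2 := h z hz
    rw [cs_eq_sum k s hs, cs_eq_sum k t ht] at h2
    simp only [sub_mul]
    rw [Finset.sum_sub_distrib, h2, sub_self]
  refine Multiset.ext.2 fun b => ?_
  by_cases hb : b < q
  · have h3 := h1 b hb
    rw [sub_eq_zero] at h3
    exact_mod_cast h3
  · rw [Multiset.count_eq_zero_of_notMem fun h3 => hb (hs b h3), Multiset.count_eq_zero_of_notMem fun h3 => hb (ht b h3)]

end csdef

variable {k : Type u} [Field k] [DecidableEq k] {F : Type w} [Field F] [Fintype F] [DecidableEq F] (ι : F →+* k)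
variable (p : ℕ) [Fact p.Prime] [CharP k p] [CharP F p]

/-- generators of the tori -/
structure Tor (N : ℕ) (g : SpecialLinearGroup (Fin 2) F) (ζ : k) : Prop where
  ss : IsSS ι g ζ
  prim : IsPrimitiveRoot ζ N
  nz : (N : k) ≠ 0

theorem Tor.pos {N : ℕ} {g : SpecialLinearGroup (Fin 2) F} {ζ : k} (T : Tor ι N g ζ) : 0 < N :=
  Nat.pos_of_ne_zero fun h => T.nz (by rw [h, Nat.cast_zero])

theorem Tor.pow {N : ℕ} {g : SpecialLinearGroup (Fin 2) F} {ζ : k} (T : Tor ι N g ζ) : g ^ N = 1 :=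
  pow_eq_one_of_isSS ι T.ss T.prim.pow_eq_one

variable [IsAlgClosed k] {a : ℕ} (hF : Fintype.card F = p ^ a)

include hF in
theorem ha_pos : 0 < a := by
  rcases Nat.eq_zero_or_pos a with rfl | h
  · have := Fintype.one_lt_card (α := F)
    rw [hF, pow_zero] at this
    omega
  · exact h

include hF in
theorem two_le_q : 2 ≤ p ^ a := by
  have := Fintype.one_lt_card (α := F)
  rw [hF] at this
  omega

include hF in
theorem q_cast : ((p ^ a : ℕ) : k) = 0 := by
  have ha := ha_pos p hF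
  rw [CharP.cast_eq_zero_iff k p]
  exact dvd_pow_self p ha.ne'

include hF in
theorem exists_tor {z : ℂ} (hz : Zs (p ^ a) z) : ∃ (N : ℕ) (g : SpecialLinearGroup (Fin 2) F) (ζ : k), Tor ι N g ζ ∧ z ^ N = 1 := by
  have h2 := two_le_q p hF
  have h3 := q_cast (k := k) p hF
  rcases hz with hz | hz
  · obtain ⟨lam, hlam⟩ := IsCyclic.exists_generator (α := Fˣ)
    refine ⟨p ^ a - 1, Cfsg.Agent.H943.SL2Rel.h lam, ι lam, ⟨Cfsg.Agent.H179.SLC.isSS_h ι lam, ?_, ?_⟩, hz⟩
    · rw [← hF]
      exact primitive ι ι.injective hlam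
    · rw [Nat.cast_sub (by omega), h3, Nat.cast_one, zero_sub]
      exact neg_ne_zero.2 one_ne_zero
  · have h4 : ((p ^ a + 1 : ℕ) : k) ≠ 0 := by
      rw [Nat.cast_add, h3, zero_add, Nat.cast_one]
      exact one_ne_zero
    have : NeZero ((p ^ a + 1 : ℕ) : k) := ⟨h4⟩
    obtain ⟨ζ, hζ⟩ := HasEnoughRootsOfUnity.exists_primitiveRoot k (p ^ a + 1)
    have h5 : ζ ≠ ζ⁻¹ := by
      intro h6
      have hζ0 : ζ ≠ 0 := hζ.ne_zero (by omega)
      have h7 : ζ ^ 2 = 1 := by
        rw [sq]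
        nth_rewrite 1 [h6]
        exact inv_mul_cancel₀ hζ0
      have h8 := Nat.le_of_dvd (by omega) ((hζ.pow_eq_one_iff_dvd 2).1 h7)
      omega
    obtain ⟨g, hg⟩ := Cfsg.Agent.H179.SLC.exists_isSS ι ι.injective p (ζ := ζ) (by rw [hF]; exact hζ.pow_eq_one) h5
    exact ⟨p ^ a + 1, g, ζ, ⟨hg, hζ, h4⟩, hz⟩

theorem bc_of_isMult {V : Type*} [AddCommGroup V] [Module k V]
    {ρ : Representation k (SpecialLinearGroup (Fin 2) F) V} {n : ℕ → ℕ} (h : IsMult ι p a ρ n) {N : ℕ}
    {g : SpecialLinearGroup (Fin 2) F} {ζ : k} (T : Tor ι N g ζ) {z : ℂ} (hz : z ^ N = 1) :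
    bc ρ g ζ N z = ∑ b ∈ Finset.range (p ^ a), (n b : ℂ) * chB k b z := by
  have hN := T.pos
  have hζ0 : ζ ≠ 0 := T.prim.ne_zero hN.ne'
  have hz0 : z ≠ 0 := by
    rintro rfl
    rw [zero_pow hN.ne'] at hz
    exact zero_ne_one hz
  unfold bc
  have h1 : ∀ j ∈ Finset.range N, (Module.finrank k (eig ρ g (ζ ^ j)) : ℂ) * z ^ j =
      ∑ b ∈ Finset.range (p ^ a), (n b : ℂ) * ((mf b ζ (ζ ^ j) : ℂ) * z ^ j) := by
    intro j _
    rw [h.eigen g ζ N T.ss T.prim.pow_eq_one T.nz (ζ ^ j) (by rw [← pow_mul, mul_comm, pow_mul, T.prim.pow_eq_one, one_pow]),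
      Nat.cast_sum, Finset.sum_mul]
    exact Finset.sum_congr rfl fun b _ => by rw [Nat.cast_mul, mul_assoc]
  rw [Finset.sum_congr rfl h1, Finset.sum_comm]
  refine Finset.sum_congr rfl fun b _ => ?_
  rw [← Finset.mul_sum]
  congr 1
  have h2 : chB k b z = ∑ m ∈ Bf k b, z ^ ((m : ℤ) - ((b - m : ℕ) : ℤ)) :=
    Finset.sum_congr rfl fun m _ => pow_mul_inv z hz0 m (b - m)
  rw [h2, ← count_sum (Bf k b) (fun m => (m : ℤ) - ((b - m : ℕ) : ℤ)) T.prim hN hz]
  refine Finset.sum_congr rfl fun j _ => ?_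
  congr 2
  unfold mf
  congr 1
  refine Finset.filter_congr fun m _ => ?_
  rw [pow_mul_inv ζ hζ0]

include hF in
theorem cf_lt {V : Type v} [AddCommGroup V] [Module k V] [FiniteDimensional k V]
    (ρ : Representation k (SpecialLinearGroup (Fin 2) F) V) : ∀ b ∈ cf (Sy.{u, v, w} ι p) ρ, b < p ^ a := by
  intro b hb
  exact (isMult_cf ι p hF ρ).supp b (by
    show (cf (Sy.{u, v, w} ι p) ρ).count b ≠ 0
    rw [Multiset.count_ne_zero]
    exact hb)

include hF in
theorem bc_cf {V : Type v} [AddCommGroup V] [Module k V] [FiniteDimensional k V]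
    (ρ : Representation k (SpecialLinearGroup (Fin 2) F) V) {N : ℕ}
    {g : SpecialLinearGroup (Fin 2) F} {ζ : k} (T : Tor ι N g ζ) {z : ℂ} (hz : z ^ N = 1) :
    bc ρ g ζ N z = cs k (cf (Sy.{u, v, w} ι p) ρ) z := by
  rw [bc_of_isMult ι p (isMult_cf ι p hF ρ) T hz, cs_eq_sum k _ (cf_lt ι p hF ρ)]

include hF in
/-- **tensor products** -/
theorem cs_tens {V : Type v} [AddCommGroup V] [Module k V] [FiniteDimensional k V]
    {W : Type v} [AddCommGroup W] [Module k W] [FiniteDimensional k W]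
    (ρ : Representation k (SpecialLinearGroup (Fin 2) F) V) (σ : Representation k (SpecialLinearGroup (Fin 2) F) W)
    {z : ℂ} (hz : Zs (p ^ a) z) :
    cs k (cf (Sy.{u, v, w} ι p) (ρ.tprod σ)) z = cs k (cf (Sy.{u, v, w} ι p) ρ) z * cs k (cf (Sy.{u, v, w} ι p) σ) z := by
  obtain ⟨N, g, ζ, T, hz'⟩ := exists_tor ι p hF hz
  rw [← bc_cf ι p hF _ T hz', ← bc_cf ι p hF _ T hz', ← bc_cf ι p hF _ T hz']
  exact bc_tens T.prim T.nz (by rw [← map_pow, T.pow, map_one]) (by rw [← map_pow, T.pow, map_one]) hz'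

include hF in
/-- **homomorphisms** -/
theorem cs_hom {V : Type v} [AddCommGroup V] [Module k V] [FiniteDimensional k V]
    {W : Type v} [AddCommGroup W] [Module k W] [FiniteDimensional k W]
    (ρ : Representation k (SpecialLinearGroup (Fin 2) F) V) (σ : Representation k (SpecialLinearGroup (Fin 2) F) W)
    {z : ℂ} (hz : Zs (p ^ a) z) :
    cs k (cf (Sy.{u, v, w} ι p) (Representation.linHom ρ σ)) z =
      cs k (cf (Sy.{u, v, w} ι p) ρ) z * cs k (cf (Sy.{u, v, w} ι p) σ) z := by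
  obtain ⟨N, g, ζ, T, hz'⟩ := exists_tor ι p hF hz
  rw [← bc_cf ι p hF (Representation.linHom ρ σ) T hz',
    bc_hom T.prim T.nz (by rw [← map_pow, T.pow, map_one]) (by rw [← map_pow, T.pow, map_one]) hz',
    bc_cf ι p hF ρ T (by rw [inv_pow, hz', inv_one]), bc_cf ι p hF σ T hz', cs_symm]

include hF in
/-- **symmetric squares** -/
theorem cs_sq {V : Type v} [AddCommGroup V] [Module k V] [FiniteDimensional k V]
    (ρ : Representation k (SpecialLinearGroup (Fin 2) F) V) {z : ℂ} (hz : Zs (p ^ a) z) :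
    cs k (cf (Sy.{u, v, w} ι p) (Sq ρ)) z =
      ((cs k (cf (Sy.{u, v, w} ι p) ρ) z) ^ 2 + cs k (cf (Sy.{u, v, w} ι p) ρ) (z ^ 2)) / 2 := by
  obtain ⟨N, g, ζ, T, hz'⟩ := exists_tor ι p hF hz
  rw [← bc_cf ι p hF (Sq ρ) T hz', bc_sq T.prim T.nz T.pow hz', bc_cf ι p hF ρ T hz',
    bc_cf ι p hF ρ T (by rw [← pow_mul, mul_comm, pow_mul, hz', one_pow])]

include hF in
/-- **the composition factors from the character** -/
theorem cf_of_cs {V : Type v} [AddCommGroup V] [Module k V] [FiniteDimensional k V]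
    {ρ : Representation k (SpecialLinearGroup (Fin 2) F) V} {s : Multiset ℕ} (hs : ∀ b ∈ s, b < p ^ a)
    (h : ∀ z, Zs (p ^ a) z → cs k (cf (Sy.{u, v, w} ι p) ρ) z = cs k s z) : cf (Sy.{u, v, w} ι p) ρ = s :=
  cs_inj k p (two_le_q p hF) (cf_lt ι p hF ρ) hs h

/-! ## Digits -/

/-- `z ^ (p ^ a) = z ^ ±1` -/
theorem Zs.frob {q : ℕ} (hq : 2 ≤ q) {z : ℂ} (h : Zs q z) : z ^ q = z ∨ z ^ q = z⁻¹ := by
  rcases h with h | h
  · left
    obtain ⟨r, rfl⟩ : ∃ r, q = r + 1 := ⟨q - 1, by omega⟩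
    rw [Nat.add_sub_cancel] at h
    rw [pow_succ, h, one_mul]
  · right
    rw [pow_succ] at h
    exact eq_inv_of_mul_eq_one_left h

theorem chi_frob {q : ℕ} (hq : 2 ≤ q) {z : ℂ} (h : Zs q z) (n : ℕ) : chi n (z ^ q) = chi n z := by
  rcases h.frob hq with h | h
  · rw [h]
  · rw [h, chi_symm]

end Cfsg.Agent.R2.H28.SL2
end

private theorem dce_a6ca5b5b4362 : _root_.True := by
  try have : _root_.True := by simp only [_root_.Cfsg.Agent.R2.H28.SL2.chB.congr_simp]
  exact _root_.True.intro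
end

-- part: R2/H28/SL2/SqTab
section
prune_inst 0x4440002200000000008241001c028200050000008000080005040c800c0009000060b0900508008000844838002811000020420000000a000000011800800000000200000000520006000000000000000000000000000000000000000000000000000
set_option linter.all false
open scoped Cfsg.Agent.FastGrp

-- part: R2/H28/SL2/Dgt
section
/-!
# Digit rules for tensor products (helper28)

`cg p n b d` : the factors of `V_b ⊗ V_d` when no digit overflows (Clebsch-Gordan in every digit); `chi_over` : the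
overflow rule; `sq_rec` : symmetric squares of single digits.
-/

set_option autoImplicit false
set_option linter.unusedSectionVars false

namespace Cfsg.Agent.R2.H28.SL2

open Cfsg.Agent.H943.SL2Rel Cfsg.Agent.H943.SL2Mod

/-! ## Identities of `chi` -/

theorem chi_mul_one (n : ℕ) {z : ℂ} (hz : z ≠ 0) : chi (n + 1) z * chi 1 z = chi (n + 2) z + chi n z := by
  rw [chi_two n hz, chi_one]
  ring

/-- Clebsch-Gordan -/
theorem chi_mul (r s : ℕ) {z : ℂ} (hz : z ≠ 0) :
    chi (r + s) z * chi s z = ∑ j ∈ Finset.range (s + 1), chi (r + s + s - 2 * j) z := by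
  induction s using Nat.strong_induction_on generalizing r with
  | _ s ih =>
    match s, ih with
    | 0, _ => simp only [chi_zero, _root_.add_zero, _root_.mul_one, _root_.zero_add, _root_.Finset.range_one, _root_.Finset.sum_singleton, _root_.MulZeroClass.mul_zero, _root_.tsub_zero]
    | 1, _ =>
      rw [chi_mul_one r hz, Finset.sum_range_succ, Finset.sum_range_one]
      rfl
    | s + 2, ih =>
      have h1 := ih (s + 1) (by omega) (r + 1)
      have h2 := ih s (by omega) (r + 2)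
      have e1 : r + 1 + (s + 1) = r + (s + 2) := by omega
      have e2 : r + 2 + s = r + (s + 2) := by omega
      rw [e1] at h1
      rw [e2] at h2
      rw [chi_two s hz, mul_sub, h2, mul_comm (z + z⁻¹), ← mul_assoc, h1]
      obtain ⟨N, hN⟩ : ∃ N, N = r + (s + 2) := ⟨_, rfl⟩
      rw [← hN]
      have h3 : ∀ m : ℕ, chi (m + 1) z * (z + z⁻¹) = chi (m + 2) z + chi m z := by
        intro m
        rw [chi_two m hz]
        ring
      have h4 : (∑ j ∈ Finset.range (s + 1 + 1), chi (N + (s + 1) - 2 * j) z) * (z + z⁻¹) =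
          (∑ j ∈ Finset.range (s + 1 + 1), chi (N + (s + 2) - 2 * j) z) +
          ∑ j ∈ Finset.range (s + 1 + 1), chi (N + s - 2 * j) z := by
        rw [Finset.sum_mul, ← Finset.sum_add_distrib]
        refine Finset.sum_congr rfl fun j hj => ?_
        have hj' := Finset.mem_range.1 hj
        have e3 : N + (s + 1) - 2 * j = (N + s - 2 * j) + 1 := by omega
        have e4 : N + (s + 2) - 2 * j = (N + s - 2 * j) + 2 := by omega
        rw [e3, e4, h3]
      rw [h4, Finset.sum_range_succ (fun j => chi (N + s - 2 * j) z) (s + 1), Finset.sum_range_succ (fun j => chi (N + (s + 2) - 2 * j) z) (s + 2)]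
      have e5 : N + (s + 2) - 2 * (s + 2) = N + s - 2 * (s + 1) := by omega
      rw [e5]
      ring

theorem chi_mul' (r s : ℕ) {z : ℂ} (hz : z ≠ 0) :
    chi r z * chi s z = ∑ j ∈ Finset.range (min r s + 1), chi (r + s - 2 * j) z := by
  rcases le_total s r with h | h
  · obtain ⟨t, rfl⟩ := Nat.exists_eq_add_of_le' h
    rw [chi_mul t s hz, min_eq_right h]
  · obtain ⟨t, rfl⟩ := Nat.exists_eq_add_of_le' h
    rw [mul_comm, chi_mul t r hz, min_eq_left h]
    refine Finset.sum_congr rfl fun j _ => ?_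
    rw [add_comm r (t + r)]

/-- the overflow rule -/
theorem chi_over (j s : ℕ) (hj : j + 2 ≤ s) {z : ℂ} (hz : z ≠ 0) :
    chi (j + s) z = chi j z * chi 1 (z ^ s) + chi (s - j - 2) z := by
  have hC : chi 1 (z ^ s) = z ^ s + z⁻¹ ^ s := by rw [chi_one, inv_pow]
  rw [hC]
  induction j using Nat.strong_induction_on with
  | _ j ih =>
    match j, hj, ih with
    | 0, hj, _ =>
      obtain ⟨t, rfl⟩ : ∃ t, s = t + 2 := ⟨s - 2, by omega⟩
      rw [chi_zero, one_mul, ← chi_sub hz, zero_add]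
      simp
    | 1, hj, ih =>
      obtain ⟨t, rfl⟩ : ∃ t, s = t + 3 := ⟨s - 3, by omega⟩
      have h0 := ih 0 (by omega) (by omega)
      rw [chi_zero, one_mul, zero_add] at h0
      have h1 := chi_two (t + 2) hz
      have h2 := chi_two t hz
      rw [show t + 2 + 1 = t + 3 from rfl, show t + 2 + 2 = 1 + (t + 3) by omega] at h1
      rw [show t + 3 - 0 - 2 = t + 1 by omega] at h0
      rw [h1, h0, chi_one, show t + 3 - 1 - 2 = t by omega, h2]
      ring
    | j + 2, hj, ih =>
      obtain ⟨t, rfl⟩ : ∃ t, s = t + (j + 4) := ⟨s - (j + 4), by omega⟩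
      have h0 := ih j (by omega) (by omega)
      have h1 := ih (j + 1) (by omega) (by omega)
      have h2 := chi_two (j + (t + (j + 4))) hz
      rw [show t + (j + 4) - j - 2 = t + 2 by omega] at h0
      rw [show t + (j + 4) - (j + 1) - 2 = t + 1 by omega] at h1
      rw [show j + 2 + (t + (j + 4)) = j + (t + (j + 4)) + 2 by omega, h2,
        show j + (t + (j + 4)) + 1 = j + 1 + (t + (j + 4)) by omega, h1, h0,
        show t + (j + 4) - (j + 2) - 2 = t by omega, chi_two j hz, chi_two t hz]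
      ring

/-- the characters of the symmetric and the exterior square of the module with the character `chi n` -/
noncomputable def s2 (n : ℕ) (z : ℂ) : ℂ := ((chi n z) ^ 2 + chi n (z ^ 2)) / 2

noncomputable def a2 (n : ℕ) (z : ℂ) : ℂ := ((chi n z) ^ 2 - chi n (z ^ 2)) / 2

theorem chi_even_rec (n : ℕ) {z : ℂ} (hz : z ≠ 0) :
    chi (2 * n + 4) z = (z ^ 2 + (z ^ 2)⁻¹) * chi (2 * n + 2) z - chi (2 * n) z := by
  have h1 := chi_two (2 * n + 2) hz
  have h2 := chi_two (2 * n + 1) hz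
  have h3 := chi_two (2 * n) hz
  have hw : z ^ 2 + (z ^ 2)⁻¹ = (z + z⁻¹) ^ 2 - 2 := by
    field_simp
    ring
  rw [show 2 * n + 2 + 2 = 2 * n + 4 by omega, show 2 * n + 2 + 1 = 2 * n + 3 by omega] at h1
  rw [show 2 * n + 1 + 2 = 2 * n + 3 by omega, show 2 * n + 1 + 1 = 2 * n + 2 by omega] at h2
  rw [h1, h2, hw]
  have h4 : (z + z⁻¹) * chi (2 * n + 1) z = chi (2 * n + 2) z + chi (2 * n) z := by
    rw [h3]
    ring
  linear_combination -h4

theorem chi_sq_add (n : ℕ) {z : ℂ} (hz : z ≠ 0) : chi (n + 1) (z ^ 2) + chi n (z ^ 2) = chi (2 * (n + 1)) z := by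
  have hz2 := pow_ne_zero 2 hz
  have hb2 : chi 2 z = (z ^ 2 + (z ^ 2)⁻¹) + 1 := by
    have h2 := chi_two 0 hz
    rw [show (2 : ℕ) = 0 + 2 by omega, h2, chi_zero, chi_one]
    field_simp
    ring
  have ha1 : chi 1 (z ^ 2) = z ^ 2 + (z ^ 2)⁻¹ := chi_one _
  induction n using Nat.strong_induction_on with
  | _ n ih =>
    match n, ih with
    | 0, _ => rw [zero_add, ha1, chi_zero, mul_one, hb2]
    | 1, _ =>
      have h1 := chi_two 0 hz2
      have h2 := chi_even_rec 0 hz
      rw [show (1 + 1 : ℕ) = 0 + 2 by omega, h1, zero_add, ha1, chi_zero, show 2 * 2 = 2 * 0 + 4 by omega, h2,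
        show 2 * 0 + 2 = 2 by omega, hb2, show 2 * 0 = 0 by omega, chi_zero]
      ring
    | n + 2, ih =>
      have h1 := chi_two n hz2
      have h2 := chi_two (n + 1) hz2
      have h3 := chi_even_rec (n + 1) hz
      have i1 := ih (n + 1) (by omega)
      have i2 := ih n (by omega)
      rw [show n + 1 + 1 = n + 2 by omega] at h2 i1
      rw [show n + 1 + 2 = n + 2 + 1 by omega] at h2
      rw [show 2 * (n + 2 + 1) = 2 * (n + 1) + 4 by omega, h3, show 2 * (n + 1) + 2 = 2 * (n + 2) by omega, ← i1, ← i2]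
      linear_combination h1 + h2

theorem a2_succ (n : ℕ) {z : ℂ} (hz : z ≠ 0) : a2 (n + 1) z = s2 n z := by
  have h1 := chi_sq_add n hz
  have h2 := chi_mul' (n + 1) (n + 1) hz
  have h3 := chi_mul' n n hz
  rw [min_self] at h2 h3
  rw [Finset.sum_range_succ'] at h2
  have h4 : ∑ j ∈ Finset.range (n + 1), chi (n + 1 + (n + 1) - 2 * (j + 1)) z = ∑ j ∈ Finset.range (n + 1), chi (n + n - 2 * j) z := by
    refine Finset.sum_congr rfl fun j _ => ?_
    congr 1
    omega
  rw [h4, ← h3, mul_zero, Nat.sub_zero, show n + 1 + (n + 1) = 2 * (n + 1) by omega] at h2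
  unfold a2 s2
  rw [sq, h2, ← h1]
  ring

theorem s2_add_two (n : ℕ) {z : ℂ} (hz : z ≠ 0) : s2 (n + 2) z = chi (2 * (n + 2)) z + s2 n z := by
  have h1 := a2_succ (n + 1) hz
  have h2 := a2_succ n hz
  have h3 := chi_sq_add (n + 1) hz
  have h4 : s2 (n + 1 + 1) z = chi (2 * (n + 1 + 1)) z + a2 (n + 1) z := by
    have h5 := chi_mul' (n + 1 + 1) (n + 1 + 1) hz
    have h6 := chi_mul' (n + 1) (n + 1) hz
    rw [min_self] at h5 h6
    rw [Finset.sum_range_succ'] at h5
    have h7 : ∑ j ∈ Finset.range (n + 1 + 1), chi (n + 1 + 1 + (n + 1 + 1) - 2 * (j + 1)) z =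
        ∑ j ∈ Finset.range (n + 1 + 1), chi (n + 1 + (n + 1) - 2 * j) z := by
      refine Finset.sum_congr rfl fun j _ => ?_
      congr 1
      omega
    rw [h7, ← h6, mul_zero, Nat.sub_zero, show n + 1 + 1 + (n + 1 + 1) = 2 * (n + 1 + 1) by omega] at h5
    unfold s2 a2
    rw [sq, h5, ← h3]
    ring
  rw [show n + 2 = n + 1 + 1 from rfl, h4, h2]

theorem s2_zero (z : ℂ) : s2 0 z = 1 := by
  unfold s2
  rw [chi_zero, chi_zero]
  norm_num

theorem chi_two' {z : ℂ} (hz : z ≠ 0) : chi 2 z = (z + z⁻¹) * (z + z⁻¹) - 1 := by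
  have h2 := chi_two 0 hz
  rw [zero_add, zero_add, chi_one, chi_zero] at h2
  exact h2

theorem s2_one {z : ℂ} (hz : z ≠ 0) : s2 1 z = chi 2 z := by
  unfold s2
  rw [chi_two' hz, chi_one, chi_one]
  field_simp
  ring

end Cfsg.Agent.R2.H28.SL2
end

-- part: R2/H28/SL2/ExcB
section
/-!
# The simple modules of `SL(2, q)` with non-trivial first cohomology (helper28)

* `exc_odd` : `p` odd, `Exc p a b i` : `a = 1` and `b = p - 3`, or `a ≥ 2` and `b = (p - 2) p ^ i + p ^ ((i + 1) % a)`;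
* `exc_two` : `p = 2` : `a = 1` and `b = 0`, or `a ≥ 2` and `b = 2 ^ ((i + 1) % a)`;
* `hb_le_one` : `hb p a b ≤ 1` unless `p ^ a = 9`.
-/

set_option autoImplicit false
set_option linter.unusedSectionVars false

namespace Cfsg.Agent.R2.H28.SL2

/-- the digits of `p ^ a - 1` -/
theorem dg_top {p a i : ℕ} (hp : 1 < p) (hi : i < a) : (p ^ a - 1) / p ^ i % p = p - 1 := by
  obtain ⟨d, rfl⟩ : ∃ d, a = i + (d + 1) := ⟨a - i - 1, by omega⟩
  have hpi : 0 < p ^ i := Nat.pow_pos (by omega)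
  have hpd : 0 < p ^ d := Nat.pow_pos (by omega)
  have h1 : (p ^ (i + (d + 1)) - 1) / p ^ i = p ^ (d + 1) - 1 := by
    rw [pow_add]
    have h2 : p ^ i * p ^ (d + 1) - 1 = p ^ i * (p ^ (d + 1) - 1) + (p ^ i - 1) := by
      have h3 : 0 < p ^ (d + 1) := Nat.pow_pos (by omega)
      have h4 : p ^ i * (p ^ (d + 1) - 1) + p ^ i = p ^ i * p ^ (d + 1) := by
        rw [← Nat.mul_succ, Nat.succ_eq_add_one, Nat.sub_add_cancel h3]
      omega
    rw [h2, Nat.mul_add_div hpi, Nat.div_eq_of_lt (by omega), add_zero]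
  rw [h1, pow_succ]
  have h3 : p ^ d * p - 1 = p * (p ^ d - 1) + (p - 1) := by
    have h4 : p * (p ^ d - 1) + p = p ^ d * p := by
      rw [← Nat.mul_succ, Nat.succ_eq_add_one, Nat.sub_add_cancel hpd, mul_comm]
    omega
  rw [h3, Nat.mul_add_mod, Nat.mod_eq_of_lt (by omega)]

theorem exc_lt {p a b i : ℕ} (hp : 1 < p) (hi : i < a) (hb : b < p ^ a) (hE : Exc p a b i) : b < p ^ a - 1 := by
  by_contra hc
  have h1 : b = p ^ a - 1 := by omega
  have h2 := hE.1
  rw [h1, dg_top hp hi] at h2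
  omega

/-- **the exceptional modules, `p` odd** -/
theorem exc_odd {p a b i : ℕ} (hp : p.Prime) (hp2 : p ≠ 2) (hi : i < a) (hb : b < p ^ a) (hE : Exc p a b i) :
    (a = 1 ∧ b = p - 3) ∨ (2 ≤ a ∧ b = (p - 2) * p ^ i + p ^ ((i + 1) % a)) := by
  have hp1 := hp.one_lt
  have hp3 : 3 ≤ p := by omega
  have hodd : p % 2 = 1 := (hp.eq_two_or_odd).resolve_left hp2
  have hlt := exc_lt hp1 hi hb hE
  obtain ⟨hE1, hE2⟩ := hE
  rw [Nat.mod_eq_of_lt hlt] at hE2
  have hpi : 0 < p ^ i := Nat.pow_pos (by omega)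
  have hpa : p ^ i * p ≤ p ^ a := by
    rw [← pow_succ]
    exact Nat.pow_le_pow_right (by omega) hi
  unfold en at hE2
  set c := b / p ^ i % p with hc
  have e1 : 2 * ((c + 1) * p ^ i) = (2 * (c + 1)) * p ^ i := by ring
  rw [e1] at hE2
  rcases Nat.lt_or_ge (2 * (c + 1)) p with hs | hs
  · -- small
    have h1 : 2 * (c + 1) * p ^ i ≤ p ^ a - 1 := by
      have h2 : 2 * (c + 1) * p ^ i < p * p ^ i := Nat.mul_lt_mul_of_pos_right hs hpi
      rw [mul_comm p] at h2
      omega
    rcases Nat.lt_or_ge (2 * (c + 1) * p ^ i) (p ^ a - 1) with h2 | h2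
    · exfalso
      rw [Nat.mod_eq_of_lt h2] at hE2
      rw [← hE2, Nat.mul_div_cancel _ hpi, Nat.mod_eq_of_lt hs] at hc
      omega
    · have h3 : 2 * (c + 1) * p ^ i = p ^ a - 1 := by omega
      rw [h3, Nat.mod_self] at hE2
      have hc0 : c = 0 := by
        rw [hc, ← hE2, Nat.zero_div, Nat.zero_mod]
      have hi0 : i = 0 := by
        by_contra h
        have h4 : p ∣ p ^ a - 1 := by
          rw [← h3]
          exact Dvd.dvd.mul_left (dvd_pow_self p h) _
        have h5 : p ∣ p ^ a := dvd_pow_self p (by omega)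
        have h6 := Nat.dvd_sub h5 h4
        rw [Nat.sub_sub_self (by omega)] at h6
        exact hp.one_lt.ne' (Nat.dvd_one.1 h6)
      rw [hc0, hi0, pow_zero] at h3
      have h4 : p ^ a = 3 := by omega
      have h5 : p ≤ p ^ a := Nat.le_self_pow (by omega) p
      have h6 : p = 3 := by omega
      left
      refine ⟨?_, by omega⟩
      rw [h6] at h4
      by_contra h7
      have h8 : 3 ^ 2 ≤ 3 ^ a := Nat.pow_le_pow_right (by norm_num) (by omega)
      omega
  · obtain ⟨s, hs'⟩ : ∃ s, 2 * (c + 1) = p + s := ⟨2 * (c + 1) - p, by omega⟩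
    have hs1 : s ≤ p - 2 := by omega
    have hs0 : 1 ≤ s := by omega
    rcases Nat.lt_or_ge (i + 1) a with hia | hia
    · right
      have hpa2 : p ^ i * p * p ≤ p ^ a := by
        rw [← pow_succ, ← pow_succ]
        exact Nat.pow_le_pow_right (by omega) hia
      have h1 : 2 * (c + 1) * p ^ i < p ^ a - 1 := by
        have h2 : 2 * (c + 1) * p ^ i + 2 * p ^ i ≤ (2 * p) * p ^ i := by
          rw [← add_mul]
          exact Nat.mul_le_mul_right _ (by omega)
        have h3 : 2 * p * p ^ i ≤ p ^ i * p * p := by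
          calc 2 * p * p ^ i ≤ p * p * p ^ i := Nat.mul_le_mul_right _ (Nat.mul_le_mul_right _ (by omega))
            _ = p ^ i * p * p := by ring
        (clear * - hpi hpa2 h2 h3; omega)
      rw [Nat.mod_eq_of_lt h1] at hE2
      have h4 : c = s := by
        rw [hc, ← hE2, Nat.mul_div_cancel _ hpi, hs', Nat.add_mod_left, Nat.mod_eq_of_lt (by omega)]
      refine ⟨by omega, ?_⟩
      rw [Nat.mod_eq_of_lt hia, ← hE2, hs', show p - 2 = s by (clear * - hs' h4; omega), pow_succ]
      ring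
    · have hia' : a = i + 1 := by omega
      have hpa2 : p ^ a = p ^ i * p := by rw [hia', pow_succ]
      have h1 : 2 * (c + 1) * p ^ i = (p ^ a - 1) + (1 + s * p ^ i) := by
        rw [hs', add_mul, hpa2, mul_comm p (p ^ i)]
        have : 0 < p ^ i * p := Nat.mul_pos hpi (by omega)
        omega
      rw [h1, Nat.add_mod_left] at hE2
      have h5 : s * p ^ i + 2 * p ^ i ≤ p ^ a := by
        rw [hpa2, ← add_mul, mul_comm (p ^ i)]
        exact Nat.mul_le_mul_right _ (by omega)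
      rcases Nat.eq_zero_or_pos i with hi0 | hi0
      · left
        subst hi0
        rw [pow_zero, mul_one] at hE2 h5
        rw [pow_zero, Nat.div_one] at hc
        rw [zero_add] at hia'
        rw [hia', pow_one] at hE2 hlt hb h5
        refine ⟨hia', ?_⟩
        rw [Nat.mod_eq_of_lt hb] at hc
        rcases Nat.lt_or_ge (1 + s) (p - 1) with h6 | h6
        · rw [Nat.mod_eq_of_lt h6] at hE2
          omega
        · have h7 : 1 + s = p - 1 := by omega
          rw [h7, Nat.mod_self] at hE2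
          omega
      · right
        have h6 : 1 + s * p ^ i < p ^ a - 1 := by
          have : p ≤ p ^ i := Nat.le_self_pow (by omega) p
          (clear * - hp3 h5 this; omega)
        rw [Nat.mod_eq_of_lt h6] at hE2
        have h7 : c = s := by
          have h8 : 1 < p ^ i := Nat.one_lt_pow (by omega) hp1
          rw [hc, ← hE2, add_comm, mul_comm, Nat.mul_add_div hpi, Nat.div_eq_of_lt h8, add_zero,
            Nat.mod_eq_of_lt (by omega)]
        refine ⟨by omega, ?_⟩
        rw [← hE2, show p - 2 = s by (clear * - hs' h7; omega), hia', Nat.mod_self, pow_zero, add_comm]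

/-- **the exceptional modules, `p = 2`** -/
theorem exc_two {a b i : ℕ} (hi : i < a) (hb : b < 2 ^ a) (hE : Exc 2 a b i) :
    (a = 1 ∧ b = 0) ∨ (2 ≤ a ∧ b = 2 ^ ((i + 1) % a)) := by
  have hlt := exc_lt (by norm_num) hi hb hE
  obtain ⟨hE1, hE2⟩ := hE
  rw [Nat.mod_eq_of_lt hlt] at hE2
  unfold en at hE2
  have hc : b / 2 ^ i % 2 = 0 := by omega
  rw [hc, zero_add, one_mul] at hE2
  rcases Nat.lt_or_ge (i + 1) a with hia | hia
  · right
    refine ⟨by omega, ?_⟩
    have h1 : 2 ^ (i + 1) * 2 ≤ 2 ^ a := by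
      rw [← pow_succ]
      exact Nat.pow_le_pow_right (by norm_num) hia
    have h3 : 0 < 2 ^ i := Nat.pow_pos (by norm_num)
    have h2 : 2 ^ (i + 1) = 2 * 2 ^ i := by rw [pow_succ, mul_comm]
    rw [← h2, Nat.mod_eq_of_lt (by omega)] at hE2
    rw [Nat.mod_eq_of_lt hia, hE2]
  · have hia' : a = i + 1 := by omega
    have h2 : 2 * 2 ^ i = (2 ^ a - 1) + 1 := by
      rw [hia', pow_succ, mul_comm]
      have : 0 < 2 ^ i := Nat.pow_pos (by norm_num)
      omega
    rw [h2, Nat.add_mod_left] at hE2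
    rcases Nat.eq_zero_or_pos i with hi0 | hi0
    · left
      subst hi0
      rw [zero_add] at hia'
      subst hia'
      norm_num at hlt
      exact ⟨rfl, hlt⟩
    · right
      refine ⟨by omega, ?_⟩
      have h3 : 2 ^ 2 ≤ 2 ^ a := Nat.pow_le_pow_right (by norm_num) (by omega)
      rw [Nat.mod_eq_of_lt (by omega)] at hE2
      rw [← hE2, hia', Nat.mod_self, pow_zero]

/-- the digits of a sum of two powers -/
theorem dg_two {p c i j l : ℕ} (hp : 1 < p) (hij : i ≠ j) (hc : c < p) :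
    (c * p ^ i + p ^ j) / p ^ l % p = if l = i then c else if l = j then 1 else 0 := by
  have h1 : ∀ m n : ℕ, m < p ^ n → ∀ d l : ℕ, (m + d * p ^ n) / p ^ l % p =
      if l < n then m / p ^ l % p else d / p ^ (l - n) % p := by
    intro m n hm d l
    split_ifs with h
    · obtain ⟨e, rfl⟩ : ∃ e, n = l + (e + 1) := ⟨n - l - 1, by omega⟩
      have h2 : m + d * p ^ (l + (e + 1)) = m + p ^ l * (d * p ^ e * p) := by ring
      rw [h2, Nat.add_mul_div_left _ _ (Nat.pow_pos (by omega)), Nat.add_mul_mod_self_right]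
    · obtain ⟨e, rfl⟩ : ∃ e, l = n + e := ⟨l - n, by omega⟩
      rw [pow_add, ← Nat.div_div_eq_div_mul, Nat.add_mul_div_right _ _ (Nat.pow_pos (by omega)),
        Nat.div_eq_of_lt hm, zero_add, Nat.add_sub_cancel_left]
  rcases Nat.lt_or_gt_of_ne hij with h | h
  · have h2 : c * p ^ i < p ^ j := by
      calc c * p ^ i < p * p ^ i := Nat.mul_lt_mul_of_pos_right hc (Nat.pow_pos (by omega))
        _ = p ^ (i + 1) := by rw [pow_succ, mul_comm]
        _ ≤ p ^ j := Nat.pow_le_pow_right (by omega) (by omega)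
    have h3 := h1 (c * p ^ i) j h2 1 l
    rw [one_mul, dg_single hp hc] at h3
    rw [h3]
    by_cases hlj : l < j
    · rw [if_pos hlj, if_neg (show l ≠ j by omega)]
    · rw [if_neg hlj, if_neg (show l ≠ i by omega)]
      have h4 := dg_single hp (show 1 < p from hp) 0 (l - j)
      rw [pow_zero, one_mul] at h4
      rw [h4]
      by_cases hl : l = j
      · rw [if_pos hl, if_pos (by omega)]
      · rw [if_neg hl, if_neg (by omega)]
  · have h2 : p ^ j < p ^ i := Nat.pow_lt_pow_right hp h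
    have h3 := h1 (p ^ j) i h2 c l
    rw [add_comm] at h3
    rw [h3]
    have h5 := dg_single hp (show 1 < p from hp) j l
    rw [one_mul] at h5
    by_cases hlj : l < i
    · rw [if_pos hlj, if_neg (show l ≠ i by omega), h5]
    · rw [if_neg hlj]
      have h4 := dg_single hp hc 0 (l - i)
      rw [pow_zero, mul_one] at h4
      rw [h4]
      by_cases hl : l = i
      · rw [if_pos hl, if_pos (by omega)]
      · rw [if_neg hl, if_neg (by omega), if_neg (by omega)]

theorem succ_mod_ne {a i : ℕ} (ha : 2 ≤ a) (hi : i < a) : i ≠ (i + 1) % a := by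
  rcases Nat.lt_or_ge (i + 1) a with h | h
  · rw [Nat.mod_eq_of_lt h]
    omega
  · have h1 : i + 1 = a := by omega
    rw [h1, Nat.mod_self]
    omega

/-- **at most one exceptional digit** -/
theorem hb_le_one {p a b : ℕ} (hp : p.Prime) (hb' : b < p ^ a) (h9 : p ^ a ≠ 9) : hb p a b ≤ 1 := by
  unfold hb
  rw [Finset.card_le_one]
  intro i hi j hj
  rw [Finset.mem_filter, Finset.mem_range] at hi hj
  by_contra hij
  have ha2 : 2 ≤ a := by omega
  have hp1 := hp.one_lt
  by_cases hp2 : p = 2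
  · subst hp2
    have e1 := (exc_two hi.1 hb' hi.2).resolve_left (by omega)
    have e2 := (exc_two hj.1 hb' hj.2).resolve_left (by omega)
    have e3 : 2 ^ ((i + 1) % a) = 2 ^ ((j + 1) % a) := by rw [← e1.2, e2.2]
    have e4 := Nat.pow_right_injective (le_refl 2) e3
    apply hij
    rcases Nat.lt_or_ge (i + 1) a with h1 | h1 <;> rcases Nat.lt_or_ge (j + 1) a with h2 | h2
    · rw [Nat.mod_eq_of_lt h1, Nat.mod_eq_of_lt h2] at e4
      omega
    · rw [Nat.mod_eq_of_lt h1, show j + 1 = a by omega, Nat.mod_self] at e4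
      omega
    · rw [Nat.mod_eq_of_lt h2, show i + 1 = a by omega, Nat.mod_self] at e4
      omega
    · omega
  · have e1 := (exc_odd hp hp2 hi.1 hb' hi.2).resolve_left (by omega)
    have e2 := (exc_odd hp hp2 hj.1 hb' hj.2).resolve_left (by omega)
    have d1 : ∀ l, b / p ^ l % p = if l = i then p - 2 else if l = (i + 1) % a then 1 else 0 := by
      intro l
      rw [e1.2]
      exact dg_two hp1 (succ_mod_ne ha2 hi.1) (by omega)
    have d2 : ∀ l, b / p ^ l % p = if l = j then p - 2 else if l = (j + 1) % a then 1 else 0 := by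
      intro l
      rw [e2.2]
      exact dg_two hp1 (succ_mod_ne ha2 hj.1) (by omega)
    have f1 := (d1 i).symm.trans (d2 i)
    rw [if_pos rfl, if_neg hij] at f1
    have f2 := (d2 j).symm.trans (d1 j)
    rw [if_pos rfl, if_neg (Ne.symm hij)] at f2
    have hp3 : 3 ≤ p := by omega
    have g1 : i = (j + 1) % a := by
      by_contra h
      rw [if_neg h] at f1
      omega
    have g2 : j = (i + 1) % a := by
      by_contra h
      rw [if_neg h] at f2
      omega
    rw [if_pos g1] at f1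
    have hp3' : p = 3 := by omega
    apply h9
    have ha : a = 2 := by
      rcases Nat.lt_or_ge (i + 1) a with h1 | h1 <;> rcases Nat.lt_or_ge (j + 1) a with h2 | h2
      · rw [Nat.mod_eq_of_lt h1] at g2
        rw [Nat.mod_eq_of_lt h2] at g1
        omega
      · rw [Nat.mod_eq_of_lt h1] at g2
        rw [show j + 1 = a by omega, Nat.mod_self] at g1
        omega
      · rw [Nat.mod_eq_of_lt h2] at g1
        rw [show i + 1 = a by omega, Nat.mod_self] at g2
        omega
      · omega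
    rw [hp3', ha]
    norm_num

end Cfsg.Agent.R2.H28.SL2
end

-- part: R2/H28/SL2/Cg
section
/-!
# Tensor products without overflow (helper28)

`cs_cg` : `V_b ⊗ V_d` when no digit overflows; `mem_cg` : the digits of the factors.
-/

set_option autoImplicit false
set_option linter.unusedSectionVars false

namespace Cfsg.Agent.R2.H28.SL2

open Cfsg.Agent.H943.SL2Rel Cfsg.Agent.H943.SL2Mod

/-- Clebsch-Gordan for one digit -/
def cgd (r s : ℕ) : Multiset ℕ := (Multiset.range (min r s + 1)).map fun j => r + s - 2 * j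

theorem mem_cgd {r s t : ℕ} (h : t ∈ cgd r s) : t ≤ r + s ∧ r ≤ s + t ∧ s ≤ r + t ∧ (r + s + t) % 2 = 0 := by
  unfold cgd at h
  obtain ⟨j, hj, rfl⟩ := Multiset.mem_map.1 h
  have := Multiset.mem_range.1 hj
  omega

theorem zero_mem_cgd (r : ℕ) : 0 ∈ cgd r r := by
  unfold cgd
  refine Multiset.mem_map.2 ⟨r, Multiset.mem_range.2 ?_, ?_⟩
  · rw [min_self]
    omega
  · omega

theorem nodup_cgd (r s : ℕ) : (cgd r s).Nodup := by
  unfold cgd
  refine Multiset.Nodup.map_on ?_ (Multiset.nodup_range _)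
  intro i hi j hj h
  have h1 := Multiset.mem_range.1 hi
  have h2 := Multiset.mem_range.1 hj
  omega

/-- the factors of `V_b ⊗ V_d` -/
def cg (p : ℕ) : ℕ → ℕ → ℕ → Multiset ℕ
  | 0, _, _ => {0}
  | n + 1, b, d => (cgd (b % p) (d % p)).bind fun t => (cg p n (b / p) (d / p)).map fun c => p * c + t

theorem digit_zero {p c t : ℕ} (ht : t < p) : (p * c + t) / p ^ 0 % p = t := by
  rw [pow_zero, Nat.div_one, Nat.mul_add_mod, Nat.mod_eq_of_lt ht]

theorem digit_succ {p c t : ℕ} (ht : t < p) (i : ℕ) : (p * c + t) / p ^ (i + 1) % p = c / p ^ i % p := by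
  rw [pow_succ', ← Nat.div_div_eq_div_mul, Nat.mul_add_div (by omega), Nat.div_eq_of_lt ht, add_zero]

theorem digit_shift {p : ℕ} (b i : ℕ) : b / p ^ (i + 1) % p = b / p / p ^ i % p := by
  rw [pow_succ', ← Nat.div_div_eq_div_mul]

/-- **the digits of the factors** -/
theorem mem_cg {p : ℕ} (hp : 0 < p) (n : ℕ) : ∀ {b d c : ℕ}, (∀ i < n, b / p ^ i % p + d / p ^ i % p < p) → c ∈ cg p n b d →
    c < p ^ n ∧ ∀ i < n, c / p ^ i % p ≤ b / p ^ i % p + d / p ^ i % p ∧ b / p ^ i % p ≤ d / p ^ i % p + c / p ^ i % p ∧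
      d / p ^ i % p ≤ b / p ^ i % p + c / p ^ i % p ∧ (b / p ^ i % p + d / p ^ i % p + c / p ^ i % p) % 2 = 0 := by
  induction n with
  | zero =>
    intro b d c _ hc
    unfold cg at hc
    rw [Multiset.mem_singleton] at hc
    subst hc
    exact ⟨Nat.pow_pos hp, fun i hi => absurd hi (Nat.not_lt_zero i)⟩
  | succ n ih =>
    intro b d c hbd hc
    unfold cg at hc
    rw [Multiset.mem_bind] at hc
    obtain ⟨t, ht, hc⟩ := hc
    obtain ⟨c', hc', rfl⟩ := Multiset.mem_map.1 hc
    have h1 := mem_cgd ht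
    have h2 := hbd 0 (Nat.succ_pos n)
    rw [pow_zero, Nat.div_one, Nat.div_one] at h2
    have htp : t < p := by omega
    obtain ⟨h3, h4⟩ := ih (b := b / p) (d := d / p) (fun i hi => by
      have := hbd (i + 1) (by omega)
      rwa [digit_shift, digit_shift] at this) hc'
    refine ⟨?_, fun i hi => ?_⟩
    · rw [pow_succ']
      have h5 : p * (c' + 1) ≤ p * p ^ n := Nat.mul_le_mul_left p h3
      rw [Nat.mul_succ] at h5
      omega
    · rcases Nat.eq_zero_or_pos i with rfl | hi0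
      · rw [digit_zero htp, pow_zero, Nat.div_one, Nat.div_one]
        omega
      · obtain ⟨i, rfl⟩ : ∃ i', i = i' + 1 := ⟨i - 1, by omega⟩
        rw [digit_succ htp, digit_shift, digit_shift]
        exact h4 i (by omega)

theorem zero_mem_cg (p n b : ℕ) : 0 ∈ cg p n b b := by
  induction n generalizing b with
  | zero =>
    unfold cg
    exact Multiset.mem_singleton_self 0
  | succ n ih =>
    unfold cg
    rw [Multiset.mem_bind]
    exact ⟨0, zero_mem_cgd _, Multiset.mem_map.2 ⟨0, ih _, rfl⟩⟩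

theorem nodup_cg {p : ℕ} (n : ℕ) : ∀ {b d : ℕ}, (∀ i < n, b / p ^ i % p + d / p ^ i % p < p) → (cg p n b d).Nodup := by
  induction n with
  | zero =>
    intro b d _
    unfold cg
    exact Multiset.nodup_singleton 0
  | succ n ih =>
    intro b d hbd
    unfold cg
    rw [Multiset.nodup_bind]
    have h2 := hbd 0 (Nat.succ_pos n)
    rw [pow_zero, Nat.div_one, Nat.div_one] at h2
    have h3 : ∀ t ∈ cgd (b % p) (d % p), t < p := fun t ht => by
      have := mem_cgd ht
      omega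
    refine ⟨fun t ht => ?_, ?_⟩
    · refine Multiset.Nodup.map_on ?_ (ih fun i hi => by
        have := hbd (i + 1) (by omega)
        rwa [digit_shift, digit_shift] at this)
      intro x _ y _ hxy
      have h4 : p * x = p * y := by omega
      have h5 := h3 t ht
      exact Nat.eq_of_mul_eq_mul_left (by omega) h4
    · refine (nodup_cgd _ _).pairwise fun s hs t ht hst => ?_
      rw [Function.onFun, Multiset.disjoint_left]
      intro x hx hx'
      obtain ⟨y, -, rfl⟩ := Multiset.mem_map.1 hx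
      obtain ⟨y', -, h4⟩ := Multiset.mem_map.1 hx'
      apply hst
      have h5 := congrArg (· % p) h4
      simp only [Nat.mul_add_mod] at h5
      rw [Nat.mod_eq_of_lt (h3 s hs), Nat.mod_eq_of_lt (h3 t ht)] at h5
      exact h5.symm

section

variable (k : Type*) [Field k] [DecidableEq k] (p : ℕ) [Fact p.Prime] [CharP k p]

theorem cs_bind (m : Multiset ℕ) (f : ℕ → Multiset ℕ) (z : ℂ) : cs k (m.bind f) z = (m.map fun t => cs k (f t) z).sum := by
  unfold cs
  rw [Multiset.map_bind, Multiset.sum_bind]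

theorem cs_shift {t : ℕ} (ht : t < p) (s : Multiset ℕ) (z : ℂ) :
    cs k (s.map fun c => p * c + t) z = chi t z * cs k s (z ^ p) := by
  unfold cs
  rw [Multiset.map_map, ← Multiset.sum_map_mul_left]
  congr 1
  refine Multiset.map_congr rfl fun c _ => ?_
  exact chB_mul k p c ht z

theorem sum_cgd (r s : ℕ) {z : ℂ} (hz : z ≠ 0) : ((cgd r s).map fun t => chi t z).sum = chi r z * chi s z := by
  unfold cgd
  rw [chi_mul' r s hz, Multiset.map_map, Finset.sum_eq_multiset_sum]
  rfl

theorem chB_low (b : ℕ) (z : ℂ) : chB k b z = chi (b % p) z * chB k (b / p) (z ^ p) := by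
  have hp : p.Prime := Fact.out
  have h := chB_mul k p (b / p) (Nat.mod_lt b hp.pos) z
  rwa [Nat.div_add_mod] at h

/-- **tensor products without overflow** -/
theorem cs_cg (n : ℕ) : ∀ {b d : ℕ}, b < p ^ n → d < p ^ n → (∀ i < n, b / p ^ i % p + d / p ^ i % p < p) → ∀ {z : ℂ}, z ≠ 0 →
    cs k (cg p n b d) z = chB k b z * chB k d z := by
  have hp : p.Prime := Fact.out
  induction n with
  | zero =>
    intro b d hb hd _ z _
    rw [pow_zero, Nat.lt_one_iff] at hb hd
    subst hb hd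
    unfold cg
    rw [cs_singleton, chB_zero, mul_one]
  | succ n ih =>
    intro b d hb hd hbd z hz
    unfold cg
    rw [cs_bind]
    have h2 := hbd 0 (Nat.succ_pos n)
    rw [pow_zero, Nat.div_one, Nat.div_one] at h2
    have h3 : ∀ t ∈ cgd (b % p) (d % p), cs k ((cg p n (b / p) (d / p)).map fun c => p * c + t) z =
        chi t z * (chB k (b / p) (z ^ p) * chB k (d / p) (z ^ p)) := by
      intro t ht
      have h4 := mem_cgd ht
      rw [cs_shift k p (by omega), ih (Nat.div_lt_of_lt_mul (by rwa [← pow_succ'])) (Nat.div_lt_of_lt_mul (by rwa [← pow_succ']))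
        (fun i hi => by
          have := hbd (i + 1) (by omega)
          rwa [digit_shift, digit_shift] at this) (pow_ne_zero p hz)]
    rw [Multiset.map_congr rfl h3, Multiset.sum_map_mul_right, sum_cgd _ _ hz, chB_low k p b, chB_low k p d]
    ring

end

/-! ## The exceptional factors -/

/-- the number of the exceptional factors -/
def Hs (p a : ℕ) (s : Multiset ℕ) : ℕ := (s.map (hb p a)).sum

theorem Hs_add (p a : ℕ) (s t : Multiset ℕ) : Hs p a (s + t) = Hs p a s + Hs p a t := by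
  unfold Hs
  rw [Multiset.map_add, Multiset.sum_add]

theorem Hs_eq_zero {p a : ℕ} {s : Multiset ℕ} (h : ∀ b ∈ s, hb p a b = 0) : Hs p a s = 0 := by
  unfold Hs
  rw [Multiset.map_congr rfl h]
  simp

theorem hb_eq_zero_of_digits {p a : ℕ} (hp : p.Prime) (hp2 : p ≠ 2) (ha : 2 ≤ a) {b : ℕ} (hb' : b < p ^ a)
    (h : ∀ i < a, b / p ^ i % p < p - 2) : hb p a b = 0 := by
  have hp1 := hp.one_lt
  unfold hb
  rw [Finset.card_eq_zero, Finset.filter_eq_empty_iff]
  intro i hi hE
  rw [Finset.mem_range] at hi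
  rcases exc_odd hp hp2 hi hb' hE with h1 | h1
  · omega
  · have h2 := h i hi
    rw [h1.2, dg_two hp1 (succ_mod_ne ha hi) (by omega), if_pos rfl] at h2
    omega

theorem Hs_cg_eq_zero {p a : ℕ} (hp : p.Prime) (hp2 : p ≠ 2) (ha : 2 ≤ a) {b d : ℕ}
    (h : ∀ i < a, b / p ^ i % p + d / p ^ i % p < p - 2) : Hs p a (cg p a b d) = 0 := by
  have hp1 := hp.one_lt
  refine Hs_eq_zero fun c hc => ?_
  obtain ⟨h1, h2⟩ := mem_cg hp.pos a (fun i hi => by have := h i hi; omega) hc
  exact hb_eq_zero_of_digits hp hp2 ha h1 fun i hi => lt_of_le_of_lt (h2 i hi).1 (h i hi)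

/-- `Hs` of a nodup multiset counts -/
theorem Hs_le_of_unique {p a : ℕ} (hp : p.Prime) (h9 : p ^ a ≠ 9) {s : Multiset ℕ} (hs : s.Nodup) (hlt : ∀ b ∈ s, b < p ^ a)
    (x : ℕ) (hu : ∀ b ∈ s, hb p a b ≠ 0 → b = x) : Hs p a s ≤ 1 := by
  classical
  unfold Hs
  induction s using Multiset.induction with
  | empty => simp
  | cons b s ih =>
    rw [Multiset.map_cons, Multiset.sum_cons]
    rw [Multiset.nodup_cons] at hs
    by_cases h0 : hb p a b = 0
    · rw [h0, zero_add]
      exact ih hs.2 (fun c hc => hlt c (Multiset.mem_cons_of_mem hc)) fun c hc => hu c (Multiset.mem_cons_of_mem hc)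
    · have h1 := hb_le_one hp (hlt b (Multiset.mem_cons_self b s)) h9
      have h2 : (s.map (hb p a)).sum = 0 := by
        have h3 : ∀ c ∈ s, hb p a c = 0 := by
          intro c hc
          by_contra h4
          have h5 := hu c (Multiset.mem_cons_of_mem hc) h4
          have h6 := hu b (Multiset.mem_cons_self b s) h0
          apply hs.1
          rw [h6, ← h5]
          exact hc
        rw [Multiset.map_congr rfl h3]
        simp
      omega

end Cfsg.Agent.R2.H28.SL2
end

-- part: R2/H28/SL2/SPres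
section
/-!
# Strict pressure (helper28)

`strict_pressure` : a module without fixed vectors and without invariant functionals which has a trivial composition
factor has fewer trivial factors than exceptional ones; `ext0_zero` : `Ext¹(k, V_b) = 0` if `hb b = 0`.
-/

set_option autoImplicit false
set_option linter.unusedSectionVars false

namespace Cfsg.Agent.R2.H28.SL2

open Matrix Cfsg.Agent.H943.SL2Rel Cfsg.Agent.H943.SL2Mod Cfsg.Agent.H943.RepAdd
open Cfsg.Agent.H179.SLC (fx mem_fx)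

universe u v w

variable {k : Type u} [Field k] [DecidableEq k] {F : Type w} [Field F] [Fintype F] [DecidableEq F] (ι : F →+* k)
variable (p : ℕ) [Fact p.Prime] [CharP k p] [CharP F p]

/-- `V_b` is a submodule -/
def InSoc {V : Type*} [AddCommGroup V] [Module k V] (ρ : Representation k (_root_.Matrix.SpecialLinearGroup (Fin 2) F) V) (b : ℕ) : Prop :=
  ∃ (X : Submodule k V) (hX : ∀ g, ∀ x ∈ X, ρ g x ∈ X), IsV ι p (subRep ρ X hX) b

theorem InSoc.iso {V : Type*} [AddCommGroup V] [Module k V] {ρ : Representation k (_root_.Matrix.SpecialLinearGroup (Fin 2) F) V}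
    {V' : Type*} [AddCommGroup V'] [Module k V'] {ρ' : Representation k (_root_.Matrix.SpecialLinearGroup (Fin 2) F) V'} {b : ℕ}
    (f : V →ₗ[k] V') (hf : ∀ g x, f (ρ g x) = ρ' g (f x)) (hi : Function.Injective f) (h : InSoc ι p ρ b) :
    InSoc ι p ρ' b := by
  obtain ⟨X, hX, hb⟩ := h
  obtain ⟨hX', e, he⟩ := eqv_map ρ ρ' f hf hi X hX
  exact ⟨X.map f, hX', IsV.iso ι p e he hb⟩

variable [IsAlgClosed k] {a : ℕ}

/-- nonzero homomorphisms from `V_b` -/
theorem inSoc_of_hom {V : Type*} [AddCommGroup V] [Module k V] {ρ : Representation k (_root_.Matrix.SpecialLinearGroup (Fin 2) F) V}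
    {B : Type*} [AddCommGroup B] [Module k B] {σ : Representation k (_root_.Matrix.SpecialLinearGroup (Fin 2) F) B} {b : ℕ}
    (hB : IsV ι p σ b) (f : B →ₗ[k] V) (hf : ∀ g x, f (σ g x) = ρ g (f x)) (hf0 : f ≠ 0) : InSoc ι p ρ b := by
  have hirr := hB.irr
  have hker : LinearMap.ker f = ⊥ := by
    rcases hirr.2 (LinearMap.ker f) (fun g x hx => by
      rw [LinearMap.mem_ker] at hx ⊢
      rw [hf, hx, map_zero]) with h | h
    · exact h
    · exact absurd (LinearMap.ker_eq_top.1 h) hf0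
  have htop : ∀ g, ∀ x ∈ (⊤ : Submodule k B), σ g x ∈ (⊤ : Submodule k B) := fun _ _ _ => trivial
  refine InSoc.iso ι p f hf (LinearMap.ker_eq_bot.1 hker) ⟨⊤, htop, ?_⟩
  exact IsV.iso ι p Submodule.topEquiv.symm (fun g x => Subtype.ext rfl) hB

/-- nonzero homomorphisms to `V_b` -/
theorem inSoc_of_hom' {V : Type v} [AddCommGroup V] [Module k V] [FiniteDimensional k V]
    {ρ : Representation k (_root_.Matrix.SpecialLinearGroup (Fin 2) F) V} {V' : Type v} [AddCommGroup V'] [Module k V']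
    [FiniteDimensional k V'] {ρ' : Representation k (_root_.Matrix.SpecialLinearGroup (Fin 2) F) V'} {P : V →ₗ[k] V' →ₗ[k] k}
    (D : Dul ρ ρ' P) {B : Type v} [AddCommGroup B] [Module k B] {σ : Representation k (_root_.Matrix.SpecialLinearGroup (Fin 2) F) B}
    {b : ℕ} (hB : IsV ι p σ b) (f : V →ₗ[k] B) (hf : ∀ g x, f (ρ g x) = σ g (f x)) (hf0 : f ≠ 0) : InSoc ι p ρ' b := by
  have hirr := hB.irr
  have hfin := hB.finite
  have hs : Function.Surjective f := by
    rw [← LinearMap.range_eq_top]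
    rcases hirr.2 (LinearMap.range f) (by
      rintro g _ ⟨x, rfl⟩
      exact ⟨_, hf g x⟩) with h | h
    · exact absurd (LinearMap.range_eq_bot.1 h) hf0
    · exact h
  have hk : ∀ g, ∀ x ∈ LinearMap.ker f, ρ g x ∈ LinearMap.ker f := fun g x hx => by
    rw [LinearMap.mem_ker] at hx ⊢
    rw [hf, hx, map_zero]
  obtain ⟨e, he, -⟩ := quot_iso ρ σ f hf hs (LinearMap.ker f) hk fun x => LinearMap.mem_ker.symm
  obtain ⟨B₁, D₁, -⟩ := D.quot hk
  have h1 : IsV ι p (quotRep ρ _ hk) b := IsV.iso ι p e.symm (fun g x => by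
    apply e.injective
    rw [e.apply_symm_apply, he, e.apply_symm_apply]) hB
  exact ⟨_, D.orth_inv hk, IsV.dual ι p h1 D₁⟩

variable (hF : Fintype.card F = p ^ a)

include hF in
/-- pressure in terms of `cf` -/
theorem pressure_cf {V : Type v} [AddCommGroup V] [Module k V] [FiniteDimensional k V]
    (ρ : Representation k (_root_.Matrix.SpecialLinearGroup (Fin 2) F) V) :
    (cf (Sy.{u, v, w} ι p) ρ).count 0 ≤ Module.finrank k (fx ρ) + Hs p a (cf (Sy.{u, v, w} ι p) ρ) := by
  have h1 := (isMult_cf ι p hF ρ).pressure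
  have h2 : Hs p a (cf (Sy.{u, v, w} ι p) ρ) = ∑ b ∈ Finset.range (p ^ a), (cf (Sy.{u, v, w} ι p) ρ).count b * hb p a b := by
    unfold Hs
    rw [Finset.sum_multiset_map_count, Finset.sum_subset (s₂ := Finset.range (p ^ a))]
    · exact Finset.sum_congr rfl fun b _ => by rw [smul_eq_mul]
    · intro b hb
      exact Finset.mem_range.2 (cf_lt ι p hF ρ b (Multiset.mem_toFinset.1 hb))
    · intro b _ hb
      rw [Multiset.mem_toFinset] at hb
      rw [Multiset.count_eq_zero_of_notMem hb, zero_smul]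
  rw [h2]
  exact h1

theorem fx_eq_bot {V : Type*} [AddCommGroup V] [Module k V]
    {ρ : Representation k (_root_.Matrix.SpecialLinearGroup (Fin 2) F) V} (h : ∀ x, (∀ g, ρ g x = x) → x = 0) :
    Module.finrank k (fx ρ) = 0 := by
  have h1 : fx ρ = ⊥ := by
    rw [eq_bot_iff]
    intro x hx
    exact (Submodule.mem_bot k).2 (h x hx)
  rw [h1, finrank_bot]

include hF in
/-- no trivial factors without exceptional ones -/
theorem count_zero_of_Hs {V : Type v} [AddCommGroup V] [Module k V] [FiniteDimensional k V]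
    {ρ : Representation k (_root_.Matrix.SpecialLinearGroup (Fin 2) F) V} (hco : ∀ f : V →ₗ[k] k, (∀ g x, f (ρ g x) = f x) → f = 0)
    (hH : Hs p a (cf (Sy.{u, v, w} ι p) ρ) = 0) : (cf (Sy.{u, v, w} ι p) ρ).count 0 = 0 := by
  obtain ⟨ρ', P, D⟩ := exists_dul ρ
  have h1 := pressure_cf ι p hF ρ'
  rw [cf_dual ι p D, hH, fx_eq_bot] at h1
  · omega
  · intro y hy
    have h2 := hco (P.flip y) fun g x => by
      show P (ρ g x) y = P x y
      have h3 := D.inv g x y
      rwa [hy] at h3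
    exact D.right y fun x => by
      have := LinearMap.congr_fun h2 x
      exact this

include hF in
theorem exists_top {V : Type v} [AddCommGroup V] [Module k V] [FiniteDimensional k V] (h0 : hb p a 0 = 0)
    {ρ : Representation k (_root_.Matrix.SpecialLinearGroup (Fin 2) F) V} (hco : ∀ f : V →ₗ[k] k, (∀ g x, f (ρ g x) = f x) → f = 0)
    (hH : 0 < Hs p a (cf (Sy.{u, v, w} ι p) ρ)) : ∃ (M : Submodule k V) (hM : ∀ g, ∀ x ∈ M, ρ g x ∈ M),
      (cf (Sy.{u, v, w} ι p) (quotRep ρ M hM)).count 0 = 0 ∧ 0 < Hs p a (cf (Sy.{u, v, w} ι p) (quotRep ρ M hM)) := by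
  have key : ∀ (n : ℕ) (V : Type v) [AddCommGroup V] [Module k V] [FiniteDimensional k V]
      (ρ : Representation k (_root_.Matrix.SpecialLinearGroup (Fin 2) F) V), Module.finrank k V ≤ n →
      (∀ f : V →ₗ[k] k, (∀ g x, f (ρ g x) = f x) → f = 0) → 0 < Hs p a (cf (Sy.{u, v, w} ι p) ρ) →
      ∃ (M : Submodule k V) (hM : ∀ g, ∀ x ∈ M, ρ g x ∈ M),
      (cf (Sy.{u, v, w} ι p) (quotRep ρ M hM)).count 0 = 0 ∧ 0 < Hs p a (cf (Sy.{u, v, w} ι p) (quotRep ρ M hM)) := by
    intro n
    induction n with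
    | zero =>
      intro V _ _ _ ρ hn _ hH
      have h1 : Subsingleton V := (Module.finrank_zero_iff (R := k)).1 (by omega)
      rw [cf_zero] at hH
      exact absurd hH (by unfold Hs; simp)
    | succ n ih =>
      intro V _ _ _ ρ hn hco hH
      have hnt : Nontrivial V := by
        by_contra hc
        have h1 := not_nontrivial_iff_subsingleton.1 hc
        rw [cf_zero] at hH
        exact absurd hH (by unfold Hs; simp)
      obtain ⟨K, hK, hK0, hmin⟩ := exists_irr_sub ρ
      have hirr := irr_of_min ρ hK hK0 hmin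
      obtain ⟨c, hc⟩ := (Sy.{u, v, w} ι p).ex (subRep ρ K hK) hirr
      have hcf := cf_add (Sy.{u, v, w} ι p) ρ K hK
      rw [cf_irr (Sy.{u, v, w} ι p) hc] at hcf
      have hco' : ∀ f : (V ⧸ K) →ₗ[k] k, (∀ g x, f (quotRep ρ K hK g x) = f x) → f = 0 := by
        intro f hf
        have h2 := hco (f ∘ₗ K.mkQ) fun g x => by
          show f (K.mkQ (ρ g x)) = f (K.mkQ x)
          rw [← quotRep_mk ρ K hK, hf]
        refine LinearMap.ext fun y => ?_
        obtain ⟨x, rfl⟩ := K.mkQ_surjective y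
        exact LinearMap.congr_fun h2 x
      by_cases hH' : 0 < Hs p a (cf (Sy.{u, v, w} ι p) (quotRep ρ K hK))
      · have hlt : Module.finrank k (V ⧸ K) ≤ n := by
          have h3 := Submodule.finrank_quotient_add_finrank K
          have h4 : 0 < Module.finrank k K := by
            rw [Nat.pos_iff_ne_zero, Ne, Submodule.finrank_eq_zero]
            exact hK0
          omega
        obtain ⟨M, hM, h5, h6⟩ := ih (V ⧸ K) (quotRep ρ K hK) hlt hco' hH'
        have hM' : ∀ g, ∀ x ∈ M.comap K.mkQ, ρ g x ∈ M.comap K.mkQ := by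
          intro g x hx
          show K.mkQ (ρ g x) ∈ M
          rw [← quotRep_mk ρ K hK]
          exact hM g _ hx
        obtain ⟨e, he, -⟩ := quot_iso ρ (quotRep (quotRep ρ K hK) M hM) (M.mkQ ∘ₗ K.mkQ) (fun g x => rfl)
          (M.mkQ_surjective.comp K.mkQ_surjective) (M.comap K.mkQ) hM' (fun x => by
            rw [LinearMap.comp_apply, Submodule.mkQ_apply, Submodule.Quotient.mk_eq_zero]
            rfl)
        have h7 := cf_iso (Sy.{u, v, w} ι p) (ρ := quotRep ρ _ hM') (ρ' := quotRep (quotRep ρ K hK) M hM) ⟨e, he⟩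
        exact ⟨_, hM', by rw [h7]; exact h5, by rw [h7]; exact h6⟩
      · have hH0 : Hs p a (cf (Sy.{u, v, w} ι p) (quotRep ρ K hK)) = 0 := by omega
        have h3 := count_zero_of_Hs ι p hF hco' hH0
        rw [hcf, Hs_add, hH0, add_zero] at hH
        have hbot : ∀ g, ∀ x ∈ (⊥ : Submodule k V), ρ g x ∈ (⊥ : Submodule k V) := by
          intro g x hx
          rw [Submodule.mem_bot] at hx ⊢
          rw [hx, map_zero]
        have h4 := cf_add (Sy.{u, v, w} ι p) ρ ⊥ hbot
        have h5 : cf (Sy.{u, v, w} ι p) (subRep ρ ⊥ hbot) = 0 := cf_zero _ _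
        rw [h5, zero_add] at h4
        refine ⟨⊥, hbot, ?_, ?_⟩
        · rw [← h4, hcf, Multiset.count_add, h3, add_zero, Multiset.count_singleton, if_neg]
          intro h6
          rw [← h6] at hH
          unfold Hs at hH
          rw [Multiset.map_singleton, Multiset.sum_singleton, h0] at hH
          exact lt_irrefl _ hH
        · rw [← h4, hcf, Hs_add, hH0, add_zero]
          exact hH
  exact key _ V ρ le_rfl hco hH

include hF in
/-- **strict pressure** -/
theorem strict_pressure {V : Type v} [AddCommGroup V] [Module k V] [FiniteDimensional k V] (h0 : hb p a 0 = 0)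
    {ρ : Representation k (_root_.Matrix.SpecialLinearGroup (Fin 2) F) V} (hfx : ∀ x, (∀ g, ρ g x = x) → x = 0)
    (hco : ∀ f : V →ₗ[k] k, (∀ g x, f (ρ g x) = f x) → f = 0)
    (hpos : 0 < (cf (Sy.{u, v, w} ι p) ρ).count 0) :
    (cf (Sy.{u, v, w} ι p) ρ).count 0 < Hs p a (cf (Sy.{u, v, w} ι p) ρ) := by
  have h1 := pressure_cf ι p hF ρ
  rw [fx_eq_bot hfx, zero_add] at h1
  obtain ⟨M, hM, h2, h3⟩ := exists_top ι p hF h0 hco (lt_of_lt_of_le hpos h1)
  have h4 := cf_add (Sy.{u, v, w} ι p) ρ M hM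
  have h5 := pressure_cf ι p hF (subRep ρ M hM)
  rw [fx_eq_bot, zero_add] at h5
  · rw [h4, Multiset.count_add, Hs_add, h2]
    omega
  · intro x hx
    exact Subtype.ext (hfx x fun g => congrArg Subtype.val (hx g))

end Cfsg.Agent.R2.H28.SL2
end

-- part: R2/H28/SL2/Extp
section
/-!
# Pressure for `Hom(V_b, V)` (helper28)

`extp` : if `V_b` is neither a submodule nor a quotient of `V` then its multiplicity is less than the number of the
exceptional factors of `V_b ⊗ V`.
-/

set_option autoImplicit false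
set_option linter.unusedSectionVars false

namespace Cfsg.Agent.R2.H28.SL2

open Matrix Cfsg.Agent.H943.SL2Rel Cfsg.Agent.H943.SL2Mod Cfsg.Agent.H943.RepAdd
open Cfsg.Agent.H179.SLC (fx mem_fx)

universe u v w

variable {k : Type u} [Field k] [DecidableEq k] {F : Type w} [Field F] [Fintype F] [DecidableEq F] (ι : F →+* k)
variable (p : ℕ) [Fact p.Prime] [CharP k p] [CharP F p]

variable [IsAlgClosed k] {a : ℕ}

/-- composition factors exist as modules -/
theorem exists_of_mem_cf {V : Type v} [AddCommGroup V] [Module k V] [FiniteDimensional k V]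
    {ρ : Representation k (_root_.Matrix.SpecialLinearGroup (Fin 2) F) V} {b : ℕ} (hb : b ∈ cf (Sy.{u, v, w} ι p) ρ) :
    ∃ (B : Type v) (_ : AddCommGroup B) (_ : Module k B) (σ : Representation k (_root_.Matrix.SpecialLinearGroup (Fin 2) F) B),
      IsV ι p σ b := by
  have key : ∀ (n : ℕ) (V : Type v) [AddCommGroup V] [Module k V] (ρ : Representation k (_root_.Matrix.SpecialLinearGroup (Fin 2) F) V)
      (s : Multiset ℕ), JHn (Sy.{u, v, w} ι p) n ρ s → b ∈ s →
      ∃ (B : Type v) (_ : AddCommGroup B) (_ : Module k B) (σ : Representation k (_root_.Matrix.SpecialLinearGroup (Fin 2) F) B),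
      IsV ι p σ b := by
    intro n
    induction n with
    | zero =>
      intro V _ _ ρ s hs hb
      rw [hs.2] at hb
      exact absurd hb (Multiset.notMem_zero b)
    | succ n ih =>
      intro V _ _ ρ s hs hb
      obtain ⟨W, hW, c, t, hc, rfl, ht⟩ := hs
      rcases Multiset.mem_cons.1 hb with rfl | h
      · exact ⟨_, _, _, subRep ρ W hW, hc⟩
      · exact ih _ _ t ht h
  obtain ⟨n, hn⟩ := cf_spec (Sy.{u, v, w} ι p) ρ
  exact key n V ρ _ hn hb

/-- fixed vectors of `Hom(B, V)` -/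
theorem hom_fixed {V : Type*} [AddCommGroup V] [Module k V] {ρ : Representation k (_root_.Matrix.SpecialLinearGroup (Fin 2) F) V}
    {B : Type*} [AddCommGroup B] [Module k B] {σ : Representation k (_root_.Matrix.SpecialLinearGroup (Fin 2) F) B} {f : B →ₗ[k] V}
    (hf : ∀ g, Representation.linHom σ ρ g f = f) (g : _root_.Matrix.SpecialLinearGroup (Fin 2) F) (x : B) : f (σ g x) = ρ g (f x) := by
  have h1 := LinearMap.congr_fun (hf g) (σ g x)
  rw [Representation.linHom_apply, LinearMap.comp_apply, LinearMap.comp_apply] at h1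
  have h2 : σ g⁻¹ (σ g x) = x := by
    rw [← Module.End.mul_apply, ← map_mul, inv_mul_cancel, map_one, Module.End.one_apply]
  rw [h2] at h1
  exact h1.symm

/-- invariant functionals of `Hom(B, V)` -/
theorem hom_functional {V : Type*} [AddCommGroup V] [Module k V] {ρ : Representation k (_root_.Matrix.SpecialLinearGroup (Fin 2) F) V}
    {B : Type*} [AddCommGroup B] [Module k B] [FiniteDimensional k B] {σ : Representation k (_root_.Matrix.SpecialLinearGroup (Fin 2) F) B}
    {Φ : (B →ₗ[k] V) →ₗ[k] k} (hΦ : ∀ g f, Φ (Representation.linHom σ ρ g f) = Φ f) (hΦ0 : Φ ≠ 0) :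
    ∃ f : V →ₗ[k] B, (∀ g x, f (ρ g x) = σ g (f x)) ∧ f ≠ 0 := by
  let L : V →ₗ[k] Module.Dual k (Module.Dual k B) :=
    { toFun := fun v => { toFun := fun ξ => Φ (ξ.smulRight v)
                          map_add' := fun ξ η => by
                            rw [← map_add]
                            congr 1
                            ext x
                            show (ξ x + η x) • v = ξ x • v + η x • v
                            rw [add_smul]
                          map_smul' := fun c ξ => by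
                            rw [RingHom.id_apply, ← map_smul]
                            congr 1
                            ext x
                            show (c • ξ x) • v = c • (ξ x • v)
                            rw [smul_assoc] }
      map_add' := fun v w => by
        ext ξ
        show Φ (ξ.smulRight (v + w)) = Φ (ξ.smulRight v) + Φ (ξ.smulRight w)
        rw [← map_add]
        congr 1
        ext x
        show ξ x • (v + w) = ξ x • v + ξ x • w
        rw [smul_add]
      map_smul' := fun c v => by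
        ext ξ
        show Φ (ξ.smulRight (c • v)) = c • Φ (ξ.smulRight v)
        rw [← map_smul]
        congr 1
        ext x
        show ξ x • (c • v) = c • (ξ x • v)
        rw [smul_comm] }
  have hL : ∀ v ξ, L v ξ = Φ (ξ.smulRight v) := fun _ _ => rfl
  let f : V →ₗ[k] B := ((Module.evalEquiv k B).symm : Module.Dual k (Module.Dual k B) →ₗ[k] B) ∘ₗ L
  have hf : ∀ v (ξ : Module.Dual k B), ξ (f v) = Φ (ξ.smulRight v) := by
    intro v ξ
    have h1 : Module.evalEquiv k B (f v) = L v := (Module.evalEquiv k B).apply_symm_apply (L v)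
    rw [← hL, ← h1]
    rfl
  refine ⟨f, fun g x => ?_, fun h0 => hΦ0 ?_⟩
  · rw [← sub_eq_zero]
    refine (Module.forall_dual_apply_eq_zero_iff k _).1 fun ξ => ?_
    rw [map_sub, hf, sub_eq_zero]
    have h2 : ξ (σ g (f x)) = (ξ ∘ₗ σ g) (f x) := rfl
    rw [h2, hf, ← hΦ g ((ξ ∘ₗ σ g).smulRight x)]
    congr 1
    ext y
    show ξ y • ρ g x = ρ g (ξ (σ g (σ g⁻¹ y)) • x)
    have h3 : σ g (σ g⁻¹ y) = y := by
      rw [← Module.End.mul_apply, ← map_mul, mul_inv_cancel, map_one, Module.End.one_apply]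
    rw [h3, map_smul]
  · refine LinearMap.ext fun h => ?_
    let e := Module.finBasis k B
    have h1 : h = ∑ i, (e.coord i).smulRight (h (e i)) := by
      refine e.ext fun j => ?_
      rw [LinearMap.sum_apply, Finset.sum_eq_single j]
      · rw [LinearMap.smulRight_apply, Module.Basis.coord_apply, Module.Basis.repr_self, Finsupp.single_eq_same, one_smul]
      · intro i _ hij
        rw [LinearMap.smulRight_apply, Module.Basis.coord_apply, Module.Basis.repr_self, Finsupp.single_eq_of_ne, zero_smul]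
        exact hij
      · intro h3
        exact absurd (Finset.mem_univ _) h3
    rw [h1, map_sum, LinearMap.zero_apply]
    refine Finset.sum_eq_zero fun i _ => ?_
    rw [← hf, h0, LinearMap.zero_apply, map_zero]

variable (hF : Fintype.card F = p ^ a)

include hF in
/-- the factors of `Hom(V_b, V)` -/
theorem cf_hom {V : Type v} [AddCommGroup V] [Module k V] [FiniteDimensional k V]
    (ρ : Representation k (_root_.Matrix.SpecialLinearGroup (Fin 2) F) V)
    {B : Type v} [AddCommGroup B] [Module k B] [FiniteDimensional k B] {σ : Representation k (_root_.Matrix.SpecialLinearGroup (Fin 2) F) B}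
    {b : ℕ} (hB : IsV ι p σ b) (f : ℕ → Multiset ℕ)
    (hf : ∀ d ∈ cf (Sy.{u, v, w} ι p) ρ, (∀ c ∈ f d, c < p ^ a) ∧ ∀ z, Zs (p ^ a) z → cs k (f d) z = chB k b z * chB k d z) :
    cf (Sy.{u, v, w} ι p) (Representation.linHom σ ρ) = (cf (Sy.{u, v, w} ι p) ρ).bind f := by
  refine cf_of_cs ι p hF (fun c hc => ?_) fun z hz => ?_
  · obtain ⟨d, hd, hc⟩ := Multiset.mem_bind.1 hc
    exact (hf d hd).1 c hc
  · rw [cs_hom ι p hF σ ρ hz, cf_irr (Sy.{u, v, w} ι p) hB, cs_singleton, cs_bind,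
      Multiset.map_congr rfl fun d hd => (hf d hd).2 z hz, Multiset.sum_map_mul_left]
    rfl

theorem count_bind_ge {b : ℕ} (f : ℕ → Multiset ℕ) (hf : 0 ∈ f b) (s : Multiset ℕ) : s.count b ≤ (s.bind f).count 0 := by
  induction s using Multiset.induction with
  | empty => simp
  | cons c s ih =>
    rw [Multiset.cons_bind, Multiset.count_add, Multiset.count_cons]
    split_ifs with h
    · rw [← h]
      have := Multiset.one_le_count_iff_mem.2 hf
      omega
    · omega

theorem Hs_bind (a : ℕ) (f : ℕ → Multiset ℕ) (s : Multiset ℕ) : Hs p a (s.bind f) = (s.map fun d => Hs p a (f d)).sum := by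
  unfold Hs
  rw [Multiset.map_bind, Multiset.sum_bind]

include hF in
/-- **EXTP** -/
theorem extp {V : Type v} [AddCommGroup V] [Module k V] [FiniteDimensional k V]
    {ρ : Representation k (_root_.Matrix.SpecialLinearGroup (Fin 2) F) V} {V' : Type v} [AddCommGroup V'] [Module k V']
    [FiniteDimensional k V'] {ρ' : Representation k (_root_.Matrix.SpecialLinearGroup (Fin 2) F) V'} {P : V →ₗ[k] V' →ₗ[k] k}
    (D : Dul ρ ρ' P) (h0 : hb p a 0 = 0) {b : ℕ} (h1 : ¬ InSoc ι p ρ b) (h2 : ¬ InSoc ι p ρ' b)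
    (hb : b ∈ cf (Sy.{u, v, w} ι p) ρ)
    (hov : ∀ d ∈ cf (Sy.{u, v, w} ι p) ρ, ∀ i < a, b / p ^ i % p + d / p ^ i % p < p) :
    (cf (Sy.{u, v, w} ι p) ρ).count b < ((cf (Sy.{u, v, w} ι p) ρ).map fun d => Hs p a (cg p a b d)).sum := by
  have hp : p.Prime := Fact.out
  obtain ⟨B, _, _, σ, hB⟩ := exists_of_mem_cf ι p hb
  have hfin := hB.finite
  have hlt := cf_lt ι p hF ρ
  have h3 := cf_hom ι p hF ρ hB (cg p a b) fun d hd =>
    ⟨fun c hc => (mem_cg hp.pos a (hov d hd) hc).1, fun z hz =>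
      cs_cg k p a (hlt b hb) (hlt d hd) (hov d hd) (hz.ne_zero (two_le_q p hF))⟩
  have h4 := count_bind_ge (cg p a b) (zero_mem_cg p a b) (cf (Sy.{u, v, w} ι p) ρ)
  have h5 := Multiset.one_le_count_iff_mem.2 hb
  have h6 := strict_pressure ι p hF h0 (ρ := Representation.linHom σ ρ) (fun f hf => by
    by_contra hf0
    exact h1 (inSoc_of_hom ι p hB f (hom_fixed hf) hf0)) (fun Φ hΦ => by
    by_contra hΦ0
    obtain ⟨f, hf, hf0⟩ := hom_functional hΦ hΦ0
    exact h2 (inSoc_of_hom' ι p D hB f hf hf0)) (by rw [h3]; omega)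
  rw [h3, Hs_bind] at h6
  omega

/-- digits of a sum of two different powers -/
theorem dg_pair {i j l : ℕ} (hp : 1 < p) (hij : i ≠ j) :
    (p ^ i + p ^ j) / p ^ l % p = if l = i then 1 else if l = j then 1 else 0 := by
  have := dg_two (l := l) hp hij hp
  rwa [one_mul] at this

/-- the exceptional factors of `V_{p^i+p^j} ⊗ V_d`, `d` with all digits `< p - 3` -/
theorem Hs_pair_small {i j d : ℕ} (hp : p.Prime) (hp3 : 3 < p) (ha : 2 ≤ a) (hij : i ≠ j)
    (hd : ∀ l < a, d / p ^ l % p < p - 3) : Hs p a (cg p a (p ^ i + p ^ j) d) = 0 := by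
  refine Hs_cg_eq_zero hp (by omega) ha fun l hl => ?_
  have := hd l hl
  rw [dg_pair p hp.one_lt hij]
  split_ifs <;> omega

/-- the exceptional factors of `V_{p^i+p^j} ⊗ V_{(p-3)p^m}` -/
theorem Hs_pair_single {i j m : ℕ} (hp : p.Prime) (hp3 : 5 < p) (ha : 2 ≤ a) (hij : i ≠ j) (hi : i < a) (hj : j < a)
    (hm : m < a) : Hs p a (cg p a (p ^ i + p ^ j) ((p - 3) * p ^ m)) ≤
      if (i = m ∧ j = (m + 1) % a) ∨ (j = m ∧ i = (m + 1) % a) then 1 else 0 := by
  have hp1 := hp.one_lt
  have hov : ∀ l < a, (p ^ i + p ^ j) / p ^ l % p + ((p - 3) * p ^ m) / p ^ l % p < p := by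
    intro l _
    rw [dg_pair p hp1 hij, dg_single hp1 (show p - 3 < p by omega)]
    split_ifs <;> omega
  have key : ∀ c ∈ cg p a (p ^ i + p ^ j) ((p - 3) * p ^ m), hb p a c ≠ 0 →
      ((i = m ∧ j = (m + 1) % a) ∨ (j = m ∧ i = (m + 1) % a)) ∧ c = (p - 2) * p ^ m + p ^ ((m + 1) % a) := by
    intro c hc h0
    obtain ⟨h1, h2⟩ := mem_cg hp.pos a hov hc
    unfold hb at h0
    rw [Ne, Finset.card_eq_zero, ← Ne, ← Finset.nonempty_iff_ne_empty] at h0
    obtain ⟨l, hl⟩ := h0
    rw [Finset.mem_filter, Finset.mem_range] at hl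
    have h3 := (exc_odd hp (by omega) hl.1 h1 hl.2).resolve_left (by omega)
    have h4 := h2 l hl.1
    have hll := succ_mod_ne ha hl.1
    rw [h3.2] at h2
    have h5 := h2 l hl.1
    rw [dg_two hp1 hll (by omega), if_pos rfl, dg_pair p hp1 hij, dg_single hp1 (show p - 3 < p by omega)] at h5
    have hlm : l = m ∧ (l = i ∨ l = j) := by
      by_cases h6 : l = m
      · refine ⟨h6, ?_⟩
        by_contra h7
        push Not at h7
        rw [if_neg h7.1, if_neg h7.2, if_pos h6] at h5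
        (clear * - hp3 h5; omega)
      · rw [if_neg h6] at h5
        exfalso
        split_ifs at h5 <;> omega
    obtain ⟨rfl, hlij⟩ := hlm
    refine ⟨?_, h3.2⟩
    rcases hlij with rfl | rfl
    · left
      refine ⟨rfl, ?_⟩
      have h6 := h2 j hj
      rw [dg_two hp1 hll (by omega), if_neg (Ne.symm hij), dg_pair p hp1 hij, if_neg (Ne.symm hij), if_pos rfl,
        dg_single hp1 (show p - 3 < p by omega), if_neg (Ne.symm hij)] at h6
      by_contra h7
      rw [if_neg h7] at h6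
      omega
    · right
      refine ⟨rfl, ?_⟩
      have h6 := h2 i hi
      rw [dg_two hp1 hll (by omega), if_neg hij, dg_pair p hp1 hij, if_pos rfl,
        dg_single hp1 (show p - 3 < p by omega), if_neg hij] at h6
      by_contra h7
      rw [if_neg h7] at h6
      omega
  split_ifs with h
  · refine Hs_le_of_unique hp (fun h9 => ?_) (nodup_cg a hov) (fun c hc => (mem_cg hp.pos a hov hc).1) _
      fun c hc h0 => (key c hc h0).2
    have h10 : 7 ^ 2 ≤ p ^ a := by
      calc 7 ^ 2 ≤ p ^ 2 := Nat.pow_le_pow_left (by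
            by_contra h11
            have h12 : p = 6 := by omega
            rw [h12] at hp
            revert hp
            decide) 2
        _ ≤ p ^ a := Nat.pow_le_pow_right hp.pos ha
    omega
  · have h1 : Hs p a (cg p a (p ^ i + p ^ j) ((p - 3) * p ^ m)) = 0 := by
      refine Hs_eq_zero fun c hc => ?_
      by_contra h0
      exact h (key c hc h0).1
    omega

end Cfsg.Agent.R2.H28.SL2
end

-- part: R2/H28/SL2/SqTab
section
/-!
# Symmetric squares (helper28)

`soc_of_sq` : a nonzero symmetric equivariant bilinear map `X × X → V'` gives a factor of `S²X` in the socle of `V'`;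
`sq_11`, `sq_22`, `sq_single`, ... : the factors of `S² V_b`.
-/

set_option autoImplicit false
set_option linter.unusedSectionVars false

namespace Cfsg.Agent.R2.H28.SL2

open Matrix Cfsg.Agent.H943.SL2Rel Cfsg.Agent.H943.SL2Mod Cfsg.Agent.H943.RepAdd
open scoped TensorProduct

universe u v w

section labels

variable (k : Type*) [Field k] [DecidableEq k] (p : ℕ) [Fact p.Prime] [CharP k p]

theorem chB_small {n : ℕ} (hn : n < p) (z : ℂ) : chB k n z = chi n z := by
  have h := chB_mul k p 0 hn z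
  rwa [mul_zero, zero_add, chB_zero, mul_one] at h

theorem chB_pow (b i : ℕ) (z : ℂ) : chB k (b * p ^ i) z = chB k b (z ^ p ^ i) := by
  have hp : p.Prime := Fact.out
  induction i generalizing z with
  | zero => rw [pow_zero, mul_one, pow_one]
  | succ i ih =>
    have h := chB_mul k p (b * p ^ i) hp.pos z
    rw [add_zero, chi_zero, one_mul, ih] at h
    rw [show b * p ^ (i + 1) = p * (b * p ^ i) by ring, h, ← pow_mul, pow_succ, mul_comm (p ^ i)]

theorem chB_single {n : ℕ} (hn : n < p) (i : ℕ) (z : ℂ) : chB k (n * p ^ i) z = chi n (z ^ p ^ i) := by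
  rw [chB_pow, chB_small k p hn]

theorem chB_pair {n m : ℕ} (hn : n < p) (hm : m < p) {i j : ℕ} (hij : i ≠ j) (z : ℂ) :
    chB k (n * p ^ i + m * p ^ j) z = chi n (z ^ p ^ i) * chi m (z ^ p ^ j) := by
  have key : ∀ {n m : ℕ}, n < p → m < p → ∀ i j, i < j →
      chB k (n * p ^ i + m * p ^ j) z = chi n (z ^ p ^ i) * chi m (z ^ p ^ j) := by
    intro n m hn hm i j hij
    obtain ⟨d, rfl⟩ : ∃ d, j = i + (d + 1) := ⟨j - i - 1, by omega⟩
    have h1 : n * p ^ i + m * p ^ (i + (d + 1)) = (p * (m * p ^ d) + n) * p ^ i := by ring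
    rw [h1, chB_pow, chB_mul k p _ hn, chB_single k p hm, ← pow_mul, ← pow_mul]
    congr 3
    ring
  rcases Nat.lt_or_gt_of_ne hij with h | h
  · exact key hn hm i j h
  · rw [add_comm, key hm hn j i h, mul_comm]

end labels

/-- cyclic shift -/
theorem chi_wrap {p a : ℕ} (hq : 2 ≤ p ^ a) (n : ℕ) {i : ℕ} (hi : i < a) {z : ℂ} (hz : Zs (p ^ a) z) :
    chi n ((z ^ p ^ i) ^ p) = chi n (z ^ p ^ ((i + 1) % a)) := by
  rw [← pow_mul, ← pow_succ]
  rcases Nat.lt_or_ge (i + 1) a with h | h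
  · rw [Nat.mod_eq_of_lt h]
  · have h1 : i + 1 = a := by omega
    rw [h1, Nat.mod_self, pow_zero, pow_one, chi_frob hq hz]

variable {k : Type u} [Field k] [DecidableEq k] {F : Type w} [Field F] [Fintype F] [DecidableEq F] (ι : F →+* k)
variable (p : ℕ) [Fact p.Prime] [CharP k p] [CharP F p]

variable [IsAlgClosed k] {a : ℕ}

/-- socles are nonzero -/
theorem exists_inSoc {V : Type v} [AddCommGroup V] [Module k V] [FiniteDimensional k V] [Nontrivial V]
    (ρ : Representation k (_root_.Matrix.SpecialLinearGroup (Fin 2) F) V) : ∃ c, InSoc ι p ρ c := by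
  obtain ⟨K, hK, hK0, hmin⟩ := exists_irr_sub ρ
  obtain ⟨c, hc⟩ := (Sy.{u, v, w} ι p).ex (subRep ρ K hK) (irr_of_min ρ hK hK0 hmin)
  exact ⟨c, K, hK, hc⟩

theorem InSoc.mem_cf {V : Type v} [AddCommGroup V] [Module k V] [FiniteDimensional k V]
    {ρ : Representation k (_root_.Matrix.SpecialLinearGroup (Fin 2) F) V} {c : ℕ} (h : InSoc ι p ρ c) : c ∈ cf (Sy.{u, v, w} ι p) ρ := by
  obtain ⟨X, hX, hc⟩ := h
  have h1 := cf_sub_le (Sy.{u, v, w} ι p) ρ X hX
  rw [cf_irr (Sy.{u, v, w} ι p) hc] at h1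
  exact Multiset.mem_of_le h1 (Multiset.mem_singleton_self c)

/-- the socle of an invariant subspace -/
theorem exists_inSoc_sub {V : Type v} [AddCommGroup V] [Module k V] [FiniteDimensional k V]
    {ρ : Representation k (_root_.Matrix.SpecialLinearGroup (Fin 2) F) V} {W : Submodule k V} (hW : ∀ g, ∀ x ∈ W, ρ g x ∈ W) (hW0 : W ≠ ⊥) :
    ∃ c, InSoc ι p (subRep ρ W hW) c ∧ InSoc ι p ρ c := by
  have : Nontrivial W := Submodule.nontrivial_iff_ne_bot.2 hW0
  obtain ⟨c, hc⟩ := exists_inSoc ι p (subRep ρ W hW)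
  exact ⟨c, hc, hc.iso ι p W.subtype (fun _ _ => rfl) W.injective_subtype⟩

/-- **symmetric equivariant maps** -/
theorem soc_of_sq {X : Type v} [AddCommGroup X] [Module k X] [FiniteDimensional k X]
    {σ : Representation k (_root_.Matrix.SpecialLinearGroup (Fin 2) F) X} {V : Type v} [AddCommGroup V] [Module k V] [FiniteDimensional k V]
    {ρ : Representation k (_root_.Matrix.SpecialLinearGroup (Fin 2) F) V} (β : X →ₗ[k] X →ₗ[k] V) (hs : ∀ x y, β x y = β y x)
    (he : ∀ g x y, β (σ g x) (σ g y) = ρ g (β x y)) (h0 : β ≠ 0) :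
    ∃ c, c ∈ cf (Sy.{u, v, w} ι p) (Sq σ) ∧ InSoc ι p ρ c := by
  have hA : Alt k X ≤ LinearMap.ker (TensorProduct.lift β) := by
    unfold Alt
    refine Submodule.span_le.2 ?_
    rintro _ ⟨x, y, rfl⟩
    show TensorProduct.lift β (x ⊗ₜ y - y ⊗ₜ x) = 0
    rw [map_sub, TensorProduct.lift.tmul, TensorProduct.lift.tmul, hs x y, sub_self]
  let T : ((X ⊗[k] X) ⧸ Alt k X) →ₗ[k] V := (Alt k X).liftQ (TensorProduct.lift β) hA
  have hT : ∀ x y, T ((Alt k X).mkQ (x ⊗ₜ y)) = β x y := fun x y => TensorProduct.lift.tmul x y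
  have hTe : ∀ g x, T (Sq σ g x) = ρ g (T x) := by
    intro g x
    obtain ⟨y, rfl⟩ := (Alt k X).mkQ_surjective x
    unfold Sq
    rw [quotRep_mk]
    induction y using TensorProduct.induction_on with
    | zero => rw [map_zero, map_zero, map_zero, map_zero]
    | tmul x y => rw [Representation.tprod_apply, TensorProduct.map_tmul, hT, hT, he]
    | add x y hx hy => rw [map_add, map_add, map_add, hx, hy, map_add, map_add, map_add]
  obtain ⟨hk, hr, h1, h2⟩ := cf_exact (Sy.{u, v, w} ι p) (Sq σ) ρ T hTe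
  have hR : LinearMap.range T ≠ ⊥ := by
    intro h3
    apply h0
    rw [LinearMap.range_eq_bot] at h3
    ext x y
    rw [← hT, h3]
    rfl
  obtain ⟨c, hc1, hc2⟩ := exists_inSoc_sub ι p hr hR
  refine ⟨c, ?_, hc2⟩
  rw [h1]
  exact Multiset.mem_add.2 (Or.inr hc1.mem_cf)

variable (hF : Fintype.card F = p ^ a)

include hF in
/-- the character of `S² V_b` -/
theorem cs_sq_V {X : Type v} [AddCommGroup X] [Module k X] [FiniteDimensional k X]
    {σ : Representation k (_root_.Matrix.SpecialLinearGroup (Fin 2) F) X} {b : ℕ} (h : IsV ι p σ b) {z : ℂ} (hz : Zs (p ^ a) z) :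
    cs k (cf (Sy.{u, v, w} ι p) (Sq σ)) z = ((chB k b z) ^ 2 + chB k b (z ^ 2)) / 2 := by
  rw [cs_sq ι p hF σ hz, cf_irr (Sy.{u, v, w} ι p) h, cs_singleton, cs_singleton]

include hF in
theorem cs_sq_single {X : Type v} [AddCommGroup X] [Module k X] [FiniteDimensional k X]
    {σ : Representation k (_root_.Matrix.SpecialLinearGroup (Fin 2) F) X} {n i : ℕ} (hn : n < p) (h : IsV ι p σ (n * p ^ i)) {z : ℂ}
    (hz : Zs (p ^ a) z) : cs k (cf (Sy.{u, v, w} ι p) (Sq σ)) z = s2 n (z ^ p ^ i) := by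
  rw [cs_sq_V ι p hF h hz, chB_single k p hn, chB_single k p hn]
  unfold s2
  rw [← pow_mul, ← pow_mul, mul_comm 2]

include hF in
theorem cs_sq_pair {X : Type v} [AddCommGroup X] [Module k X] [FiniteDimensional k X]
    {σ : Representation k (_root_.Matrix.SpecialLinearGroup (Fin 2) F) X} {n m i j : ℕ} (hn : n < p) (hm : m < p) (hij : i ≠ j)
    (h : IsV ι p σ (n * p ^ i + m * p ^ j)) {z : ℂ} (hz : Zs (p ^ a) z) :
    cs k (cf (Sy.{u, v, w} ι p) (Sq σ)) z =
      s2 n (z ^ p ^ i) * s2 m (z ^ p ^ j) + a2 n (z ^ p ^ i) * a2 m (z ^ p ^ j) := by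
  rw [cs_sq_V ι p hF h hz, chB_pair k p hn hm hij, chB_pair k p hn hm hij]
  unfold s2 a2
  rw [← pow_mul z (p ^ i) 2, ← pow_mul z (p ^ j) 2, mul_comm (p ^ i) 2, mul_comm (p ^ j) 2, pow_mul z 2, pow_mul z 2]
  ring

theorem single_lt {n i : ℕ} (hn : n < p) (hi : i < a) : n * p ^ i < p ^ a := by
  have hp : p.Prime := Fact.out
  calc n * p ^ i < p * p ^ i := Nat.mul_lt_mul_of_pos_right hn (Nat.pow_pos hp.pos)
    _ = p ^ (i + 1) := by rw [pow_succ, mul_comm]
    _ ≤ p ^ a := Nat.pow_le_pow_right hp.pos hi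

theorem pair_lt {n m i j : ℕ} (hn : n < p) (hm : m < p) (hij : i ≠ j) (hi : i < a) (hj : j < a) :
    n * p ^ i + m * p ^ j < p ^ a := by
  have hp : p.Prime := Fact.out
  have key : ∀ {n m i j : ℕ}, n < p → m < p → i < j → j < a → n * p ^ i + m * p ^ j < p ^ a := by
    intro n m i j hn hm hij hj
    calc n * p ^ i + m * p ^ j < p ^ j + m * p ^ j := by
          have := single_lt p hn hij
          omega
      _ = (m + 1) * p ^ j := by ring
      _ ≤ p * p ^ j := Nat.mul_le_mul_right _ hm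
      _ = p ^ (j + 1) := by rw [pow_succ, mul_comm]
      _ ≤ p ^ a := Nat.pow_le_pow_right hp.pos hj
  rcases Nat.lt_or_gt_of_ne hij with h | h
  · exact key hn hm h hj
  · rw [add_comm]
    exact key hm hn h hi

/-! ## The table -/

theorem s2_two {z : ℂ} (hz : z ≠ 0) : s2 2 z = chi 4 z + 1 := by
  have := s2_add_two 0 hz
  rw [s2_zero] at this
  exact this

theorem a2_two {z : ℂ} (hz : z ≠ 0) : a2 2 z = chi 2 z := by
  have := a2_succ 1 hz
  rw [s2_one hz] at this
  exact this

theorem a2_one {z : ℂ} (hz : z ≠ 0) : a2 1 z = 1 := by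
  have := a2_succ 0 hz
  rw [s2_zero] at this
  exact this

section Tab

variable {X : Type v} [AddCommGroup X] [Module k X] [FiniteDimensional k X]
  {σ : Representation k (_root_.Matrix.SpecialLinearGroup (Fin 2) F) X} {i j : ℕ}

include hF in
theorem sq_11 (hp2 : 2 < p) (hij : i ≠ j) (hi : i < a) (hj : j < a) (h : IsV ι p σ (p ^ i + p ^ j)) :
    cf (Sy.{u, v, w} ι p) (Sq σ) = {2 * p ^ i + 2 * p ^ j, 0} := by
  have hp : p.Prime := Fact.out
  have h' : IsV ι p σ (1 * p ^ i + 1 * p ^ j) := by rwa [one_mul, one_mul]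
  refine cf_of_cs ι p hF ?_ fun z hz => ?_
  · intro b hb
    simp only [Multiset.insert_eq_cons, Multiset.mem_cons, Multiset.mem_singleton] at hb
    rcases hb with rfl | rfl
    · exact pair_lt p hp2 hp2 hij hi hj
    · exact Nat.pow_pos hp.pos
  · have hz0 := hz.ne_zero (two_le_q p hF)
    have hi0 := pow_ne_zero (p ^ i) hz0
    have hj0 := pow_ne_zero (p ^ j) hz0
    rw [cs_sq_pair ι p hF (by omega) (by omega) hij h' hz, s2_one hi0, s2_one hj0, a2_one hi0, a2_one hj0,
      Multiset.insert_eq_cons, cs_cons, cs_singleton, chB_pair k p hp2 hp2 hij, chB_zero, mul_one]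

include hF in
theorem sq_22 (hp2 : 4 < p) (hij : i ≠ j) (hi : i < a) (hj : j < a) (h : IsV ι p σ (2 * p ^ i + 2 * p ^ j)) :
    cf (Sy.{u, v, w} ι p) (Sq σ) = {4 * p ^ i + 4 * p ^ j, 4 * p ^ i, 4 * p ^ j, 2 * p ^ i + 2 * p ^ j, 0} := by
  have hp : p.Prime := Fact.out
  refine cf_of_cs ι p hF ?_ fun z hz => ?_
  · intro b hb
    simp only [Multiset.insert_eq_cons, Multiset.mem_cons, Multiset.mem_singleton] at hb
    rcases hb with rfl | rfl | rfl | rfl | rfl
    · exact pair_lt p hp2 hp2 hij hi hj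
    · exact single_lt p hp2 hi
    · exact single_lt p hp2 hj
    · exact pair_lt p (by omega) (by omega) hij hi hj
    · exact Nat.pow_pos hp.pos
  · have hz0 := hz.ne_zero (two_le_q p hF)
    have hi0 := pow_ne_zero (p ^ i) hz0
    have hj0 := pow_ne_zero (p ^ j) hz0
    rw [cs_sq_pair ι p hF (by omega) (by omega) hij h hz, s2_two hi0, s2_two hj0, a2_two hi0, a2_two hj0,
      Multiset.insert_eq_cons, Multiset.insert_eq_cons, Multiset.insert_eq_cons, Multiset.insert_eq_cons,
      cs_cons, cs_cons, cs_cons, cs_cons, cs_singleton, chB_pair k p hp2 hp2 hij, chB_single k p hp2, chB_single k p hp2,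
      chB_pair k p (by omega) (by omega) hij, chB_zero]
    ring

end Tab

/-! ## Overflow -/

/-- the factors of the (virtual) `V_{(p + j) p^i}`: `j + 2 ≤ p` -/
def ov (p a i j : ℕ) : Multiset ℕ :=
  if a = 1 then (if j = 0 then {1, p - 2} else {j + 1, j - 1, p - j - 2})
  else {j * p ^ i + p ^ ((i + 1) % a), (p - j - 2) * p ^ i}

theorem ov_lt {i j : ℕ} (hi : i < a) (hj : j + 2 ≤ p) : ∀ b ∈ ov p a i j, b < p ^ a := by
  have hp : p.Prime := Fact.out
  intro b hb
  unfold ov at hb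
  split_ifs at hb with h1 h2
  · subst h1
    simp only [Multiset.insert_eq_cons, Multiset.mem_cons, Multiset.mem_singleton] at hb
    rw [pow_one]
    omega
  · subst h1
    simp only [Multiset.insert_eq_cons, Multiset.mem_cons, Multiset.mem_singleton] at hb
    rw [pow_one]
    omega
  · simp only [Multiset.insert_eq_cons, Multiset.mem_cons, Multiset.mem_singleton] at hb
    rcases hb with rfl | rfl
    · have := pair_lt p (n := j) (m := 1) (by omega) hp.one_lt (succ_mod_ne (a := a) (i := i) (by omega) hi) hi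
        (Nat.mod_lt _ (by omega))
      rwa [one_mul] at this
    · exact single_lt p (by omega) hi

include hF in
/-- **the overflow rule** -/
theorem cs_ov {i j : ℕ} (hi : i < a) (hj : j + 2 ≤ p) {z : ℂ} (hz : Zs (p ^ a) z) :
    cs k (ov p a i j) z = chi (j + p) (z ^ p ^ i) := by
  have hp : p.Prime := Fact.out
  have hz0 := hz.ne_zero (two_le_q p hF)
  have hi0 := pow_ne_zero (p ^ i) hz0
  rw [chi_over j p hj hi0, chi_wrap (two_le_q p hF) 1 hi hz]
  unfold ov
  split_ifs with h1 h2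
  · subst h1 h2
    have hi1 : i = 0 := by omega
    subst hi1
    simp only [pow_zero, pow_one, Nat.mod_self, zero_add]
    rw [Multiset.insert_eq_cons, cs_cons, cs_singleton, chB_small k p hp.one_lt, chB_small k p (by omega), chi_zero, one_mul]
    rfl
  · subst h1
    have hi1 : i = 0 := by omega
    subst hi1
    simp only [pow_zero, pow_one, Nat.mod_one]
    obtain ⟨j, rfl⟩ : ∃ j', j = j' + 1 := ⟨j - 1, by omega⟩
    rw [Multiset.insert_eq_cons, Multiset.insert_eq_cons, cs_cons, cs_cons, cs_singleton, chB_small k p (by omega),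
      chB_small k p (by omega), chB_small k p (by omega), chi_mul_one j hz0, Nat.add_sub_cancel]
    ring
  · have h3 := chB_pair k p (n := j) (m := 1) (by omega) hp.one_lt (succ_mod_ne (a := a) (i := i) (by omega) hi) z
    rw [one_mul] at h3
    rw [Multiset.insert_eq_cons, cs_cons, cs_singleton, h3, chB_single k p (by omega)]

/-- the factors of the (virtual) `V_{n p^i}`, `n ≤ 2 p - 2` -/
def one (p a i n : ℕ) : Multiset ℕ := if n < p then {n * p ^ i} else ov p a i (n - p)

theorem one_lt' {i n : ℕ} (hi : i < a) (hn : n + 2 ≤ 2 * p) : ∀ b ∈ one p a i n, b < p ^ a := by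
  intro b hb
  unfold one at hb
  split_ifs at hb with h
  · rw [Multiset.mem_singleton] at hb
    subst hb
    exact single_lt p h hi
  · exact ov_lt p hi (by omega) b hb

include hF in
theorem cs_one {i n : ℕ} (hi : i < a) (hn : n + 2 ≤ 2 * p) {z : ℂ} (hz : Zs (p ^ a) z) :
    cs k (one p a i n) z = chi n (z ^ p ^ i) := by
  unfold one
  split_ifs with h
  · rw [cs_singleton, chB_single k p h]
  · rw [cs_ov p hF hi (by omega) hz]
    congr 1
    omega

/-- the factors of `S² V_{n p^i}` -/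
def sqs (p a i : ℕ) : ℕ → Multiset ℕ
  | 0 => {0}
  | 1 => one p a i 2
  | n + 2 => one p a i (2 * (n + 2)) + sqs p a i n

theorem sqs_lt {i : ℕ} (hi : i < a) (n : ℕ) (hn : n < p) : ∀ b ∈ sqs p a i n, b < p ^ a := by
  have hp : p.Prime := Fact.out
  induction n using Nat.strong_induction_on with
  | _ n ih =>
    match n, hn, ih with
    | 0, _, _ =>
      intro b hb
      unfold sqs at hb
      rw [Multiset.mem_singleton] at hb
      subst hb
      exact Nat.pow_pos hp.pos
    | 1, hn, _ =>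
      intro b hb
      unfold sqs at hb
      exact one_lt' p hi (by omega) b hb
    | n + 2, hn, ih =>
      intro b hb
      unfold sqs at hb
      rcases Multiset.mem_add.1 hb with h | h
      · exact one_lt' p hi (by omega) b h
      · exact ih n (by omega) (by omega) b h

include hF in
theorem cs_sqs {i : ℕ} (hi : i < a) (n : ℕ) (hn : n < p) {z : ℂ} (hz : Zs (p ^ a) z) :
    cs k (sqs p a i n) z = s2 n (z ^ p ^ i) := by
  have hz0 := hz.ne_zero (two_le_q p hF)
  have hi0 := pow_ne_zero (p ^ i) hz0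
  induction n using Nat.strong_induction_on with
  | _ n ih =>
    match n, hn, ih with
    | 0, _, _ =>
      unfold sqs
      rw [cs_singleton, chB_zero, s2_zero]
    | 1, hn, _ =>
      unfold sqs
      rw [cs_one p hF hi (by omega) hz, s2_one hi0]
    | n + 2, hn, ih =>
      unfold sqs
      rw [cs_add, cs_one p hF hi (by omega) hz, ih n (by omega) (by omega), s2_add_two n hi0]

include hF in
/-- **the symmetric square of `V_{n p^i}`** -/
theorem cf_sq_single {X : Type v} [AddCommGroup X] [Module k X] [FiniteDimensional k X]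
    {σ : Representation k (_root_.Matrix.SpecialLinearGroup (Fin 2) F) X} {n i : ℕ} (hn : n < p) (hi : i < a) (h : IsV ι p σ (n * p ^ i)) :
    cf (Sy.{u, v, w} ι p) (Sq σ) = sqs p a i n :=
  cf_of_cs ι p hF (sqs_lt p hi n hn) fun z hz => by
    rw [cs_sq_single ι p hF hn h hz, cs_sqs p hF hi n hn hz]

end Cfsg.Agent.R2.H28.SL2
end

private theorem dce_bbab667b5074 : _root_.True := by
  try have : _root_.True := by simp only [_root_.Cfsg.Agent.R2.H28.SL2.Sy.congr_simp]
  try have : _root_.True := by simp only [_root_.Cfsg.Agent.R2.H28.SL2.sqs.eq_def]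
  try have : _root_.True := by simp only [_root_.Cfsg.Agent.R2.H28.SL2.cs.congr_simp]
  try have : _root_.True := by simp only [_root_.Cfsg.Agent.R2.H28.SL2.cg.eq_def]
  try have : _root_.True := by simp only [_root_.Cfsg.Agent.R2.H28.SL2.InSoc.congr_simp]
  exact _root_.True.intro
end

-- part: R2/H28/SL2/Dims
section
set_option linter.all false
open scoped Cfsg.Agent.FastGrp

/-!
# Small dimensions (helper28)

`card_Bf_mul` : `dim V_{p b + r} = (r + 1) dim V_b`; the even labels of dimension 1, 2, 3, 6.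
-/

set_option autoImplicit false
set_option linter.unusedSectionVars false

namespace Cfsg.Agent.R2.H28.SL2

open Cfsg.Agent.H943.SL2Rel Cfsg.Agent.H943.SL2Mod

variable (k : Type*) [Field k] [DecidableEq k] (p : ℕ) [Fact p.Prime] [CharP k p]

theorem card_Bf_mul (b : ℕ) {r : ℕ} (hr : r < p) : (Bf k (p * b + r)).card = (r + 1) * (Bf k b).card := by
  have hp : p.Prime := Fact.out
  rw [← Finset.card_range (r + 1), ← Finset.card_product]
  symm
  refine Finset.card_nbij' (fun x => p * x.2 + x.1) (fun m => (m % p, m / p)) ?_ ?_ ?_ ?_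
  · rintro ⟨s, m⟩ hx
    rw [Finset.coe_product, Set.mem_prod, Finset.mem_coe, Finset.mem_coe, Finset.mem_range] at hx
    exact (mem_Bf_mul k p hr (by have := hx.1; dsimp only at this; omega)).2 ⟨by have := hx.1; dsimp only at this; omega, hx.2⟩
  · intro m hm
    rw [Finset.mem_coe, ← Nat.div_add_mod m p, mem_Bf_mul k p hr (Nat.mod_lt m hp.pos)] at hm
    rw [Finset.coe_product, Set.mem_prod, Finset.mem_coe, Finset.mem_coe, Finset.mem_range]
    exact ⟨by show m % p < r + 1; omega, hm.2⟩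
  · rintro ⟨s, m⟩ hx
    rw [Finset.coe_product, Set.mem_prod, Finset.mem_coe, Finset.mem_coe, Finset.mem_range] at hx
    have hs : s < p := by
      have := hx.1
      dsimp only at this
      omega
    show ((p * m + s) % p, (p * m + s) / p) = (s, m)
    rw [Nat.mul_add_mod, Nat.mod_eq_of_lt hs, Nat.mul_add_div hp.pos, Nat.div_eq_of_lt hs, add_zero]
  · intro m _
    exact Nat.div_add_mod m p

theorem card_Bf_low (b : ℕ) : (Bf k b).card = (b % p + 1) * (Bf k (b / p)).card := by
  have hp : p.Prime := Fact.out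
  have h := card_Bf_mul k p (b / p) (Nat.mod_lt b hp.pos)
  rwa [Nat.div_add_mod] at h

include p in
/-- labels of small dimension, `p` odd -/
theorem card_cases (hp2 : p ≠ 2) (b : ℕ) : ((Bf k b).card = 1 → b = 0) ∧ ((Bf k b).card = 2 → b % 2 = 1) ∧
    ((Bf k b).card = 3 → b % 2 = 0 ∧ ∃ l, b = 2 * p ^ l) ∧ ((Bf k b).card = 6 → b % 2 = 1) := by
  have hp : p.Prime := Fact.out
  have hodd : p % 2 = 1 := (hp.eq_two_or_odd).resolve_left hp2
  induction b using Nat.strong_induction_on with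
  | _ b ih =>
    rcases Nat.eq_zero_or_pos b with rfl | hb
    · rw [card_Bf_zero]
      refine ⟨fun _ => rfl, fun h => ?_, fun h => ?_, fun h => ?_⟩ <;> omega
    have h1 := card_Bf_low k p b
    have h2 := ih (b / p) (Nat.div_lt_self hb hp.one_lt)
    have h3 := Nat.div_add_mod b p
    have hpos : 0 < (Bf k (b / p)).card := by
      rcases Nat.eq_zero_or_pos (b / p) with h | h
      · rw [h, card_Bf_zero]
        omega
      · have := card_Bf_pos (k := k) h
        omega
    obtain ⟨r, hr⟩ : ∃ r, r = b % p := ⟨_, rfl⟩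
    obtain ⟨b', hb'⟩ : ∃ b', b' = b / p := ⟨_, rfl⟩
    obtain ⟨d, hd⟩ : ∃ d, d = (Bf k (b / p)).card := ⟨_, rfl⟩
    rw [← hr, ← hd] at h1
    rw [← hd, ← hb'] at h2
    rw [← hr, ← hb'] at h3
    rw [← hd] at hpos
    have hpar : b % 2 = (b' + r) % 2 := by
      rw [← h3, Nat.add_mod, Nat.mul_mod, hodd, one_mul, Nat.mod_mod, ← Nat.add_mod]
    have hrp : r < p := by rw [hr]; exact Nat.mod_lt _ hp.pos
    obtain ⟨k1, k2, k3, k6⟩ := h2
    rw [h1]
    refine ⟨fun h => ?_, fun h => ?_, fun h => ?_, fun h => ?_⟩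
    · have h4 : (r + 1) ∣ 1 := ⟨d, h.symm⟩
      have h5 : r = 0 := by
        have := Nat.le_of_dvd (by omega) h4
        omega
      subst h5
      have h6 := k1 (by omega)
      subst h6
      omega
    · have h4 : (r + 1) ∣ 2 := ⟨d, h.symm⟩
      have h5 := Nat.le_of_dvd (by omega) h4
      have h6 : r = 0 ∨ r = 1 := by omega
      rcases h6 with rfl | rfl
      · have := k2 (by omega)
        omega
      · have := k1 (by omega)
        omega
    · have h4 : (r + 1) ∣ 3 := ⟨d, h.symm⟩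
      have h5 := Nat.le_of_dvd (by omega) h4
      have h6 : r = 0 ∨ r = 1 ∨ r = 2 := by omega
      rcases h6 with rfl | rfl | rfl
      · obtain ⟨h7, l, h8⟩ := k3 (by omega)
        refine ⟨by omega, l + 1, ?_⟩
        rw [← h3, h8, pow_succ]
        ring
      · omega
      · have h7 := k1 (by omega)
        subst h7
        exact ⟨by omega, 0, by rw [pow_zero]; omega⟩
    · have h4 : (r + 1) ∣ 6 := ⟨d, h.symm⟩
      have h5 := Nat.le_of_dvd (by omega) h4
      have h6 : r = 0 ∨ r = 1 ∨ r = 2 ∨ r = 3 ∨ r = 4 ∨ r = 5 := by omega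
      rcases h6 with rfl | rfl | rfl | rfl | rfl | rfl
      · have := k6 (by omega)
        omega
      · have := k3 (by omega)
        omega
      · have := k2 (by omega)
        omega
      · omega
      · omega
      · have := k1 (by omega)
        omega

end Cfsg.Agent.R2.H28.SL2
end

-- part: R2/H28/SL2/Fra
section
prune_inst 0x4010000
set_option linter.all false
open scoped Cfsg.Agent.FastGrp

/-!
# The frame: `SL(2, q)` on the two 27-dimensional modules over an algebraically closed field (helper28)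

`Fra` : the configuration (`p` odd); `Fra.swap`; `Fra.dul` (duality), `Fra.cf_eq`, `Fra.even`, `Fra.three_le`,
`Fra.ts_dim` (stable totally singular subspaces have dimension 0, 3 or 6), `Fra.ts_irr`, `Fra.lzero` (L0).
-/

set_option autoImplicit false
set_option linter.unusedSectionVars false

namespace Cfsg.Agent.R2.H28.SL2

open Matrix Cfsg.Agent.H943.SL2Rel Cfsg.Agent.H943.SL2Mod Cfsg.Agent.H943.RepAdd
open Cfsg.Lie
open Cfsg.Agent.ChevalleyStructure Cfsg.Agent.ChevalleyStructure.E6Form.Cubic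
  Cfsg.Agent.ChevalleyStructure.E6Form.Table
open Cfsg.Agent.ChevalleyStructure.E6Min.Basic (Zgrp)
open Cfsg.Agent.H952.F4 (sh cr tf)
open Cfsg.Agent.H952.F4.Jord
open Cfsg.Agent.H163.E6 (V V')
open Cfsg.Agent.H163.E6.Act
open Cfsg.Agent.R2.GEO (Pair crB crB_apply tfB tfB_apply)

universe u w

variable {k : Type u} [Field k] [DecidableEq k] [IsAlgClosed k] {K : Type w} [Field K] [Fintype K] [DecidableEq K]
  (ι : K →+* k) (p a : ℕ) [Fact p.Prime] [CharP k p] [CharP K p]

/-- the representation of `SL(2, q)` -/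
def Rr (ρ : Representation k ↥(Zgrp k) (I27 → k)) (ψ : _root_.Matrix.SpecialLinearGroup (Fin 2) K →* ↥(Zgrp k)) :
    Representation k (_root_.Matrix.SpecialLinearGroup (Fin 2) K) (I27 → k) := MonoidHom.comp ρ ψ

theorem Rr_apply (ρ : Representation k ↥(Zgrp k) (I27 → k)) (ψ : _root_.Matrix.SpecialLinearGroup (Fin 2) K →* ↥(Zgrp k))
    (g : _root_.Matrix.SpecialLinearGroup (Fin 2) K) (x : I27 → k) : Rr ρ ψ g x = ρ (ψ g) x := rfl

/-- **the frame** -/
structure Fra (ψ : _root_.Matrix.SpecialLinearGroup (Fin 2) K →* ↥(Zgrp k)) (ρ ρ' : Representation k ↥(Zgrp k) (I27 → k)) : Prop where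
  perf : commutator (_root_.Matrix.SpecialLinearGroup (Fin 2) K) = ⊤
  card : Fintype.card K = p ^ a
  odd : p ≠ 2
  pair : Pair ρ ρ'
  cen : ψ (h (-1)) = 1
  fix : ∀ x, (∀ g, Rr ρ ψ g x = x) → x = 0
  fix' : ∀ x, (∀ g, Rr ρ' ψ g x = x) → x = 0

variable {p a} {ψ : _root_.Matrix.SpecialLinearGroup (Fin 2) K →* ↥(Zgrp k)} {ρ ρ' : Representation k ↥(Zgrp k) (I27 → k)}

omit [DecidableEq k] [IsAlgClosed k] [DecidableEq K] [Fact p.Prime] [CharP k p] [CharP K p] in
theorem Fra.swap (f : Fra p a ψ ρ ρ') : Fra p a ψ ρ' ρ :=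
  ⟨f.perf, f.card, f.odd, f.pair.swap, f.cen, f.fix', f.fix⟩

theorem pair_tf (hρ : Pair ρ ρ') (g : ↥(Zgrp k)) (x y : I27 → k) : tf (ρ g x) (ρ' g y) = tf x y := by
  rcases hρ with ⟨rfl, rfl⟩ | ⟨rfl, rfl⟩
  · exact tf_act g x y
  · rw [tf_comm, tf_act, tf_comm]

theorem pair_cr (hρ : Pair ρ ρ') (g : ↥(Zgrp k)) (x y : I27 → k) : cr (ρ g x) (ρ g y) = ρ' g (cr x y) := by
  rcases hρ with ⟨rfl, rfl⟩ | ⟨rfl, rfl⟩
  · exact cr_act g x y
  · exact cr_act' g x y

theorem Fra.dul (f : Fra p a ψ ρ ρ') : Dul (Rr ρ ψ) (Rr ρ' ψ) (tfB k) where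
  inv g x y := by
    rw [tfB_apply, tfB_apply, Rr_apply, Rr_apply]
    exact pair_tf f.pair (ψ g) x y
  left x hx := tf_nondeg hx
  right y hy := tf_nondeg fun x => by rw [tf_comm]; exact hy x

theorem Fra.cf_eq (f : Fra p a ψ ρ ρ') : cf (Sy.{u, u, w} ι p) (Rr ρ' ψ) = cf (Sy.{u, u, w} ι p) (Rr ρ ψ) :=
  cf_dual ι p f.dul

/-- **all labels are even** -/
theorem Fra.even (f : Fra p a ψ ρ ρ') : ∀ b ∈ cf (Sy.{u, u, w} ι p) (Rr ρ ψ), Even b := by
  intro b hb
  refine (isMult_cf ι p f.card (Rr ρ ψ)).even ι p f.odd ?_ b ?_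
  · show ρ (ψ (h (-1))) = 1
    rw [f.cen, map_one]
  · show (cf (Sy.{u, u, w} ι p) (Rr ρ ψ)).count b ≠ 0
    rw [Multiset.count_ne_zero]
    exact hb

/-- no trivial submodules -/
theorem Fra.soc_ne_zero (f : Fra p a ψ ρ ρ') {b : ℕ} (hb : InSoc ι p (Rr ρ ψ) b) : b ≠ 0 := by
  rintro rfl
  obtain ⟨X, hX, hq, φ, hφ⟩ := hb
  obtain ⟨-, hirr⟩ : Nontrivial X ∧ _ := (show IsV ι p (subRep (Rr ρ ψ) X hX) 0 from ⟨hq, φ, hφ⟩).irr
  have hnt : Nontrivial X := (show IsV ι p (subRep (Rr ρ ψ) X hX) 0 from ⟨hq, φ, hφ⟩).irr.1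
  obtain ⟨x, hx⟩ := exists_ne (0 : X)
  apply hx
  apply Subtype.ext
  refine f.fix _ fun g => ?_
  have h1 := hφ g (φ.symm x)
  rw [rb_zero ι p rfl, φ.apply_symm_apply] at h1
  exact (congrArg Subtype.val h1).symm

/-- the dimension of an irreducible module -/
theorem IsV.finrank {V : Type*} [AddCommGroup V] [Module k V] {σ : Representation k (_root_.Matrix.SpecialLinearGroup (Fin 2) K) V}
    {b : ℕ} (h : IsV ι p σ b) : Module.finrank k V = (Bf k b).card := by
  obtain ⟨m, -, -, -, -, -, hmf, -⟩ := h.hw2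
  exact hmf

include ι in
/-- stable subspaces have dimension at least 3 -/
theorem Fra.three_le (f : Fra p a ψ ρ ρ') {W : Submodule k (I27 → k)} (hW : ∀ g, ∀ x ∈ W, Rr ρ ψ g x ∈ W) (h0 : W ≠ ⊥) :
    3 ≤ Module.finrank k W := by
  have hnt : Nontrivial W := Submodule.nontrivial_iff_ne_bot.2 h0
  obtain ⟨c, K', hK, hc⟩ := exists_inSoc ι p (subRep (Rr ρ ψ) W hW)
  have h1 : InSoc ι p (subRep (Rr ρ ψ) W hW) c := ⟨K', hK, hc⟩
  have h2 : InSoc ι p (Rr ρ ψ) c := h1.iso ι p W.subtype (fun _ _ => rfl) W.injective_subtype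
  have h3 := f.soc_ne_zero ι h2
  have h4 := f.even ι c h2.mem_cf
  have h5 := card_cases k p f.odd c
  have h6 := card_Bf_pos (k := k) (Nat.pos_of_ne_zero h3)
  have h7 := IsV.finrank ι hc
  have h8 := Submodule.finrank_le K'
  have h9 : (Bf k c).card ≠ 2 := fun h => by
    have := h5.2.1 h
    rw [Nat.even_iff] at h4
    omega
  omega

include ι in
/-- **stable totally singular subspaces** -/
theorem Fra.ts_dim (f : Fra p a ψ ρ ρ') {W : Submodule k (I27 → k)} (hW : ∀ g, ∀ x ∈ W, Rr ρ ψ g x ∈ W)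
    (hts : ∀ x ∈ W, sh x = 0) (h0 : W ≠ ⊥) : Module.finrank k W = 3 ∨ Module.finrank k W = 6 := by
  have h1 := f.three_le ι hW h0
  have h2 := Cfsg.Agent.R2.GEO.finrank_le_six hts
  have key : ∀ U : Submodule k (I27 → k), (∀ g, ∀ u ∈ U, ρ' (ψ g) u ∈ U) →
      ¬ (Module.finrank k U = 1 ∨ Module.finrank k U = 2) := by
    intro U hU h
    have h3 : U ≠ ⊥ := by
      rintro rfl
      rw [finrank_bot] at h
      omega
    have := f.swap.three_le ι (W := U) hU h3
    omega
  have h4 : Module.finrank k W ≠ 4 := by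
    intro h4
    obtain ⟨U, h5, h6⟩ := Cfsg.Agent.R2.GEO.exists_sub_four f.perf ψ f.pair hW h4 hts
    exact key U h6 (Or.inr h5)
  have h5 : Module.finrank k W ≠ 5 := by
    intro h5
    obtain ⟨U, h6, h7⟩ := Cfsg.Agent.R2.GEO.exists_sub_five f.perf ψ f.pair hW h5 hts
    exact key U h7 h6
  omega

/-- **irreducible totally singular submodules** -/
theorem Fra.ts_irr (f : Fra p a ψ ρ ρ') {X : Submodule k (I27 → k)} (hX : ∀ g, ∀ x ∈ X, Rr ρ ψ g x ∈ X) {b : ℕ}
    (hb : IsV ι p (subRep (Rr ρ ψ) X hX) b) (hts : ∀ x ∈ X, sh x = 0) : ∃ l, b = 2 * p ^ l := by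
  have hnt := hb.irr.1
  have h1 := f.ts_dim ι hX hts (Submodule.nontrivial_iff_ne_bot.1 hnt)
  rw [hb.finrank ι] at h1
  have h2 := card_cases k p f.odd b
  have h3 := f.even ι b (InSoc.mem_cf ι p ⟨X, hX, hb⟩)
  rw [Nat.even_iff] at h3
  rcases h1 with h1 | h1
  · exact (h2.2.2.1 h1).2
  · have := h2.2.2.2 h1
    omega

/-- the square map on a submodule -/
noncomputable def sqB (X : Submodule k (I27 → k)) : X →ₗ[k] X →ₗ[k] (I27 → k) :=
  (crB k).compl₁₂ X.subtype X.subtype

theorem sqB_apply (X : Submodule k (I27 → k)) (x y : X) : sqB X x y = cr (x : I27 → k) y := rfl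

/-- **L0** -/
theorem Fra.lzero (f : Fra p a ψ ρ ρ') {X : Submodule k (I27 → k)} (hX : ∀ g, ∀ x ∈ X, Rr ρ ψ g x ∈ X)
    (hts : ¬ ∀ x ∈ X, sh x = 0) :
    ∃ c, c ∈ cf (Sy.{u, u, w} ι p) (Sq (subRep (Rr ρ ψ) X hX)) ∧ InSoc ι p (Rr ρ' ψ) c ∧ c ≠ 0 := by
  have hp : p.Prime := Fact.out
  have h2 : (2 : k) ≠ 0 := by
    intro h0
    have h1 : ((2 : ℕ) : k) = 0 := by exact_mod_cast h0
    rw [CharP.cast_eq_zero_iff k p] at h1
    exact f.odd ((Nat.prime_dvd_prime_iff_eq hp Nat.prime_two).1 h1)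
  obtain ⟨c, hc1, hc2⟩ := soc_of_sq ι p (σ := subRep (Rr ρ ψ) X hX) (ρ := Rr ρ' ψ) (sqB X)
    (fun x y => by rw [sqB_apply, sqB_apply, cr_comm])
    (fun g x y => by
      rw [sqB_apply, sqB_apply]
      exact (pair_cr f.pair (ψ g) x y :)) (fun h0 => hts fun x hx => by
      have h1 : sqB X ⟨x, hx⟩ ⟨x, hx⟩ = 0 := by rw [h0]; rfl
      rw [sqB_apply, cr_self, smul_eq_zero] at h1
      exact h1.resolve_left h2)
  exact ⟨c, hc1, hc2, f.swap.soc_ne_zero ι hc2⟩

/-- L0 for irreducible submodules -/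
theorem Fra.lzero' (f : Fra p a ψ ρ ρ') {b : ℕ} (hb : InSoc ι p (Rr ρ ψ) b) (h2 : ∀ l, b ≠ 2 * p ^ l) :
    ∃ (X : Submodule k (I27 → k)) (hX : ∀ g, ∀ x ∈ X, Rr ρ ψ g x ∈ X), IsV ι p (subRep (Rr ρ ψ) X hX) b ∧
      (∃ x ∈ X, sh x ≠ 0) ∧
      ∃ c, c ∈ cf (Sy.{u, u, w} ι p) (Sq (subRep (Rr ρ ψ) X hX)) ∧ InSoc ι p (Rr ρ' ψ) c ∧ c ≠ 0 := by
  obtain ⟨X, hX, hb'⟩ := hb
  have h3 : ¬ ∀ x ∈ X, sh x = 0 := by
    intro h3
    obtain ⟨l, hl⟩ := f.ts_irr ι hX hb' h3
    exact h2 l hl
  have h4 := f.lzero ι hX h3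
  push Not at h3
  exact ⟨X, hX, hb', h3, h4⟩

end Cfsg.Agent.R2.H28.SL2
end

-- part: R2/H28/SL2/Bas
section
prune_inst 0x1007445006202000018050050003cc783000400000b8000a104074c04808c0280010661b0300718008090444838006810000020400000000a000000011b0080000042001200a104660008800080010000000000000000000000000000000000004010000
set_option linter.all false
open scoped Cfsg.Agent.FastGrp

/-!
# Explicit bases of the modules `V_b` (helper28)

* `IsV.bas` : a module `≅ V_b` has a basis `v m` (`m ∈ B_b`) with `u(t) v_m = ∑ j, C(b - m, j) t ^ j v_(m + j)`,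
  `h(a) v_m = a ^ m (a⁻¹) ^ (b - m) v_m`, `w v_m = (-1) ^ m v_(b - m)`;
* `IsV.basS` : the same for `b = n p ^ i`, indexed by `s ≤ n`;
* `isV_tens` : `V_b ⊗ V_c ≅ V_{b + c}` if `b` and `c` have no common non-zero digit;
* `IsV.basP` : the tensor basis for `b = n p ^ i + m p ^ j`.
-/

set_option autoImplicit false
set_option linter.unusedSectionVars false

namespace Cfsg.Agent.R2.H28.SL2

open Matrix Cfsg.Agent.H943.SL2Rel Cfsg.Agent.H943.SL2Mod Cfsg.Agent.H943.RepAdd
open scoped TensorProduct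

universe u v w

variable {k : Type u} [Field k] [DecidableEq k] {F : Type w} [Field F] [Fintype F] [DecidableEq F] (ι : F →+* k)
variable (p : ℕ) [Fact p.Prime] [CharP k p] [CharP F p]

/-- an explicit basis of `V_b` -/
structure Bas {V : Type*} [AddCommGroup V] [Module k V] (ρ : Representation k (SpecialLinearGroup (Fin 2) F) V) (b : ℕ)
    (v : ℕ → V) : Prop where
  zero : ∀ m, m ∉ Bf k b → v m = 0
  li : LinearIndependent k (fun m : Bf k b => v m)
  sp : ⊤ ≤ Submodule.span k (Set.range fun m : Bf k b => v m)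
  u : ∀ m ∈ Bf k b, ∀ t, ρ (u t) (v m) = ∑ j ∈ Finset.range (b - m + 1), (((b - m).choose j : k) * ι t ^ j) • v (m + j)
  h : ∀ m ∈ Bf k b, ∀ a : Fˣ, ρ (h a) (v m) = (ι a ^ m * (ι a)⁻¹ ^ (b - m)) • v m
  w : ∀ m ∈ Bf k b, ρ w (v m) = (-1 : k) ^ m • v (b - m)

theorem u_mon (t : F) (b m : ℕ) : fRep k F (u t) (mon ι b m) =
    ∑ j ∈ Finset.range (b - m + 1), (((b - m).choose j : k) * ι t ^ j) • mon ι b (m + j) := by
  funext z
  obtain ⟨x, y⟩ := z
  rw [fRep_u, Finset.sum_apply]
  show ι x ^ m * ι (x * t + y) ^ (b - m) = _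
  rw [map_add, map_mul, add_pow, Finset.mul_sum]
  refine Finset.sum_congr rfl fun j hj => ?_
  have hj' := Finset.mem_range.1 hj
  show ι x ^ m * ((ι x * ι t) ^ j * ι y ^ (b - m - j) * ((b - m).choose j : k)) =
    (((b - m).choose j : k) * ι t ^ j) * (ι x ^ (m + j) * ι y ^ (b - (m + j)))
  rw [show b - (m + j) = b - m - j by omega, mul_pow, pow_add]
  ring

theorem w_mon {b m : ℕ} (hm : m ≤ b) : fRep k F w (mon ι b m) = (-1 : k) ^ m • mon ι b (b - m) := by
  funext z
  obtain ⟨x, y⟩ := z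
  rw [fRep_w]
  show ι (-y) ^ m * ι x ^ (b - m) = (-1 : k) ^ m * (ι x ^ (b - m) * ι y ^ (b - (b - m)))
  rw [Nat.sub_sub_self hm, map_neg, neg_pow]
  ring

/-- **explicit bases** -/
theorem IsV.bas {V : Type*} [AddCommGroup V] [Module k V] {ρ : Representation k (SpecialLinearGroup (Fin 2) F) V} {b : ℕ}
    (h : IsV ι p ρ b) : ∃ v : ℕ → V, Bas ι ρ b v := by
  obtain ⟨hb, φ, hφ⟩ := h
  obtain ⟨e, he⟩ := Cfsg.Agent.H179.SLC.exists_coord ι p ι.injective (neg_one_pow_Q ι) hb
  have hmem : ∀ m ∈ Bf k b, mon ι b m ∈ Vb ι b := fun m hm =>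
    Cfsg.Agent.H179.SLC.mon_mem_Vb ι p (neg_one_pow_Q ι) hb (mem_Bf.1 hm)
  let v : ℕ → V := fun m => if hm : m ∈ Bf k b then φ ⟨mon ι b m, hmem m hm⟩ else 0
  have hv : ∀ m (hm : m ∈ Bf k b), v m = φ ⟨mon ι b m, hmem m hm⟩ := fun m hm => dif_pos hm
  have hv0 : ∀ m, m ∉ Bf k b → v m = 0 := fun m hm => dif_neg hm
  have hB : ∀ m : Bf k b, (e.trans φ) (Pi.single m 1) = v m := by
    intro m
    rw [hv m m.2, LinearEquiv.trans_apply]
    congr 1
    apply Subtype.ext
    rw [he, Finset.sum_eq_single m]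
    · rw [Pi.single_eq_same, one_smul]
    · intro m' _ hne
      rw [Pi.single_eq_of_ne hne, zero_smul]
    · intro h0
      exact absurd (Finset.mem_univ _) h0
  let B : Module.Basis (Bf k b) k V := Module.Basis.ofEquivFun (e.trans φ).symm
  have hBv : (fun m : Bf k b => v m) = B := by
    funext m
    rw [← hB m]
    show _ = (Module.Basis.ofEquivFun (e.trans φ).symm) m
    rw [Module.Basis.coe_ofEquivFun, LinearEquiv.symm_symm]
  -- sums
  have hsum : ∀ (s : Finset ℕ) (c : ℕ → k) (f : ℕ → ℕ), (∀ j ∈ s, c j ≠ 0 → f j ∈ Bf k b) →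
      ∀ hS : (∑ j ∈ s, c j • mon ι b (f j)) ∈ Vb ι b, φ ⟨_, hS⟩ = ∑ j ∈ s, c j • v (f j) := by
    intro s c f hf hS
    have h1 : ∀ j ∈ s, c j • v (f j) = φ (if hm : f j ∈ Bf k b then c j • ⟨mon ι b (f j), hmem _ hm⟩ else 0) := by
      intro j hj
      by_cases hm : f j ∈ Bf k b
      · rw [dif_pos hm, map_smul, hv _ hm]
      · rw [dif_neg hm, map_zero, hv0 _ hm, smul_zero]
    rw [Finset.sum_congr rfl h1, ← map_sum]
    congr 1
    apply Subtype.ext
    rw [Submodule.coe_sum]
    refine Finset.sum_congr rfl fun j hj => ?_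
    by_cases hm : f j ∈ Bf k b
    · rw [dif_pos hm]
      rfl
    · rw [dif_neg hm]
      by_cases hc : c j = 0
      · rw [hc, zero_smul]
        rfl
      · exact absurd (hf j hj hc) hm
  refine ⟨v, hv0, ?_, ?_, fun m hm t => ?_, fun m hm a => ?_, fun m hm => ?_⟩
  · rw [hBv]
    exact B.linearIndependent
  · rw [hBv, B.span_eq]
  · have hmb := (mem_Bf.1 hm).1
    have hS : (∑ j ∈ Finset.range (b - m + 1), (((b - m).choose j : k) * ι t ^ j) • mon ι b (m + j)) ∈ Vb ι b := by
      rw [← u_mon ι t b m]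
      exact (RB ι p hb (u t) ⟨_, hmem m hm⟩).2
    rw [hv m hm, ← hφ, ← hsum _ (fun j => ((b - m).choose j : k) * ι t ^ j) (fun j => m + j) (fun j hj hc => ?_) hS]
    · congr 1
      exact Subtype.ext (u_mon ι t b m)
    · rw [mem_Bf]
      have hj' := Finset.mem_range.1 hj
      refine ⟨by omega, ?_⟩
      have h2 := left_ne_zero_of_mul hc
      have h3 : b.choose (m + j) * (m + j).choose m = b.choose m * (b - m).choose j := by
        rw [Nat.choose_mul (Nat.le_add_right m j), Nat.add_sub_cancel_left]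
      intro h4
      have h5 : ((b.choose m * (b - m).choose j : ℕ) : k) = 0 := by
        rw [← h3, Nat.cast_mul, h4, zero_mul]
      rw [Nat.cast_mul] at h5
      exact mul_ne_zero (mem_Bf.1 hm).2 h2 h5
  · rw [hv m hm, ← hφ, ← map_smul]
    congr 1
    apply Subtype.ext
    show fRep k F (Cfsg.Agent.H943.SL2Rel.h a) (mon ι b m) = (ι a ^ m * (ι a)⁻¹ ^ (b - m)) • mon ι b m
    rw [h_mon]
  · have hmb := (mem_Bf.1 hm).1
    have hm' : b - m ∈ Bf k b := by
      rw [mem_Bf]
      exact ⟨Nat.sub_le _ _, by rw [Nat.choose_symm hmb]; exact (mem_Bf.1 hm).2⟩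
    rw [hv m hm, ← hφ, hv _ hm', ← map_smul]
    congr 1
    apply Subtype.ext
    show fRep k F Cfsg.Agent.H943.SL2Rel.w (mon ι b m) = (-1 : k) ^ m • mon ι b (b - m)
    rw [w_mon ι hmb]

/-! ## Single digits -/

theorem choose_mul_pow (x y i : ℕ) : (((x * p ^ i).choose (y * p ^ i) : ℕ) : k) = (x.choose y : ℕ) := by
  have hp : p.Prime := Fact.out
  induction i with
  | zero => rw [pow_zero, mul_one, mul_one]
  | succ i ih =>
    have h := ch_mul (k := k) p (x * p ^ i) (y * p ^ i) hp.pos hp.pos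
    rw [add_zero, add_zero, Nat.choose_self, Nat.cast_one, one_mul, ih] at h
    rw [show x * p ^ (i + 1) = p * (x * p ^ i) by ring, show y * p ^ (i + 1) = p * (y * p ^ i) by ring, h]

theorem mem_Bf_single {n : ℕ} (hn : n < p) (i : ℕ) {m : ℕ} : m ∈ Bf k (n * p ^ i) ↔ ∃ s ≤ n, m = s * p ^ i := by
  have hp : p.Prime := Fact.out
  induction i generalizing m with
  | zero =>
    rw [pow_zero, mul_one, mem_Bf]
    constructor
    · intro h
      exact ⟨m, h.1, (mul_one m).symm⟩
    · rintro ⟨s, hs, rfl⟩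
      rw [mul_one]
      refine ⟨hs, ?_⟩
      rw [Ne, CharP.cast_eq_zero_iff k p, not_dvd_choose_lt hp hn]
      exact hs
  | succ i ih =>
    have h1 : n * p ^ (i + 1) = p * (n * p ^ i) + 0 := by ring
    rw [h1]
    constructor
    · intro h
      rw [← Nat.div_add_mod m p, mem_Bf_mul k p hp.pos (Nat.mod_lt m hp.pos)] at h
      obtain ⟨s, hs, e⟩ := ih.1 h.2
      refine ⟨s, hs, ?_⟩
      rw [← Nat.div_add_mod m p, e, Nat.le_zero.1 h.1]
      ring
    · rintro ⟨s, hs, rfl⟩
      rw [show s * p ^ (i + 1) = p * (s * p ^ i) + 0 by ring, mem_Bf_mul k p hp.pos hp.pos]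
      exact ⟨le_rfl, ih.2 ⟨s, hs, rfl⟩⟩

/-- an explicit basis of `V_{n p ^ i}` -/
structure BasS {V : Type*} [AddCommGroup V] [Module k V] (ρ : Representation k (SpecialLinearGroup (Fin 2) F) V) (n i : ℕ)
    (v : ℕ → V) : Prop where
  zero : ∀ s, n < s → v s = 0
  li : LinearIndependent k (fun s : Fin (n + 1) => v s)
  sp : ⊤ ≤ Submodule.span k (Set.range fun s : Fin (n + 1) => v s)
  u : ∀ s ≤ n, ∀ t, ρ (u t) (v s) =
    ∑ j ∈ Finset.range (n - s + 1), (((n - s).choose j : k) * (ι t ^ p ^ i) ^ j) • v (s + j)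
  h : ∀ s ≤ n, ∀ a : Fˣ, ρ (h a) (v s) = ((ι a ^ p ^ i) ^ s * ((ι a ^ p ^ i)⁻¹) ^ (n - s)) • v s
  w : ∀ s ≤ n, ρ w (v s) = (-1 : k) ^ s • v (n - s)

theorem neg_one_pp (i : ℕ) : (-1 : k) ^ p ^ i = -1 := neg_one_pow_char_pow k p i

/-- **explicit bases, single digit** -/
theorem IsV.basS {V : Type*} [AddCommGroup V] [Module k V] {ρ : Representation k (SpecialLinearGroup (Fin 2) F) V}
    {n i : ℕ} (hn : n < p) (h : IsV ι p ρ (n * p ^ i)) : ∃ v : ℕ → V, BasS ι p ρ n i v := by
  have hp : p.Prime := Fact.out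
  have hpi : 0 < p ^ i := Nat.pow_pos hp.pos
  obtain ⟨v, hv⟩ := h.bas
  have hmem : ∀ s ≤ n, s * p ^ i ∈ Bf k (n * p ^ i) := fun s hs => (mem_Bf_single p hn i).2 ⟨s, hs, rfl⟩
  let e : Fin (n + 1) ≃ Bf k (n * p ^ i) := Equiv.ofBijective
    (fun s => ⟨s * p ^ i, hmem s (Nat.lt_succ_iff.1 s.2)⟩) ⟨fun s s' hss => by
      apply Fin.ext
      exact Nat.eq_of_mul_eq_mul_right hpi (congrArg Subtype.val hss), fun m => by
      obtain ⟨s, hs, e⟩ := (mem_Bf_single p hn i).1 m.2
      exact ⟨⟨s, Nat.lt_succ_iff.2 hs⟩, Subtype.ext e.symm⟩⟩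
  have he : (fun s : Fin (n + 1) => v ((s : ℕ) * p ^ i)) = (fun m : Bf k (n * p ^ i) => v m) ∘ e := rfl
  refine ⟨fun s => v (s * p ^ i), fun s hs => hv.zero _ fun hm => ?_, ?_, ?_, fun s hs t => ?_, fun s hs a => ?_, fun s hs => ?_⟩
  · obtain ⟨s', hs', e'⟩ := (mem_Bf_single p hn i).1 hm
    have := Nat.eq_of_mul_eq_mul_right hpi e'
    omega
  · rw [he]
    exact hv.li.comp e e.injective
  · rw [he, Set.range_comp, e.surjective.range_eq, Set.image_univ]
    exact hv.sp
  · rw [hv.u _ (hmem s hs) t]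
    have hns : n * p ^ i - s * p ^ i = (n - s) * p ^ i := (Nat.sub_mul n s (p ^ i)).symm
    rw [hns]
    symm
    refine Finset.sum_of_injOn (fun j => j * p ^ i) (fun x _ y _ hxy => Nat.eq_of_mul_eq_mul_right hpi hxy) ?_ ?_ ?_
    · intro j hj
      rw [Finset.mem_coe, Finset.mem_range] at hj ⊢
      have := Nat.mul_le_mul_right (p ^ i) (Nat.lt_succ_iff.1 hj)
      show j * p ^ i < (n - s) * p ^ i + 1
      omega
    · intro j _ hj
      rw [hv.zero, smul_zero]
      intro hm
      obtain ⟨s', hs', e'⟩ := (mem_Bf_single p hn i).1 hm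
      apply hj
      have h1 : s * p ^ i ≤ s' * p ^ i := by omega
      have h2 : s ≤ s' := Nat.le_of_mul_le_mul_right h1 hpi
      have h3 : (s' - s) * p ^ i = j := by
        rw [Nat.sub_mul]
        omega
      rw [Set.mem_image]
      refine ⟨s' - s, ?_, h3⟩
      rw [Finset.mem_coe, Finset.mem_range]
      omega
    · intro j _
      show (((n - s).choose j : k) * (ι t ^ p ^ i) ^ j) • v ((s + j) * p ^ i) =
        ((((n - s) * p ^ i).choose (j * p ^ i) : k) * ι t ^ (j * p ^ i)) • v (s * p ^ i + j * p ^ i)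
      rw [choose_mul_pow p, ← pow_mul, mul_comm (p ^ i) j, add_mul]
  · rw [hv.h _ (hmem s hs) a]
    have hns : n * p ^ i - s * p ^ i = (n - s) * p ^ i := (Nat.sub_mul n s (p ^ i)).symm
    rw [hns, ← pow_mul, ← inv_pow, ← pow_mul, mul_comm (p ^ i) s, mul_comm (p ^ i) (n - s)]
  · rw [hv.w _ (hmem s hs)]
    have hns : n * p ^ i - s * p ^ i = (n - s) * p ^ i := (Nat.sub_mul n s (p ^ i)).symm
    rw [hns, mul_comm s (p ^ i), pow_mul, neg_one_pp p]

/-! ## Tensor products -/

theorem cgd_zero_right (r : ℕ) : cgd r 0 = {r} := by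
  unfold cgd
  simp

theorem cgd_zero_left (s : ℕ) : cgd 0 s = {s} := by
  unfold cgd
  simp

theorem cg_disj (n : ℕ) : ∀ {b d : ℕ}, b < p ^ n → d < p ^ n → (∀ i < n, b / p ^ i % p = 0 ∨ d / p ^ i % p = 0) →
    cg p n b d = {b + d} := by
  have hp : p.Prime := Fact.out
  induction n with
  | zero =>
    intro b d hb hd _
    rw [pow_zero, Nat.lt_one_iff] at hb hd
    subst hb hd
    rfl
  | succ n ih =>
    intro b d hb hd hbd
    unfold cg
    rw [ih (Nat.div_lt_of_lt_mul (by rwa [← pow_succ'])) (Nat.div_lt_of_lt_mul (by rwa [← pow_succ'])) (fun i hi => by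
      have := hbd (i + 1) (by omega)
      rwa [digit_shift, digit_shift] at this)]
    have h1 := Nat.div_add_mod b p
    have h2 := Nat.div_add_mod d p
    have h3 := hbd 0 (Nat.succ_pos n)
    rw [pow_zero, Nat.div_one, Nat.div_one] at h3
    have h4 : cgd (b % p) (d % p) = {b % p + d % p} := by
      rcases h3 with h3 | h3
      · rw [h3, cgd_zero_left, zero_add]
      · rw [h3, cgd_zero_right, add_zero]
    rw [h4, Multiset.singleton_bind, Multiset.map_singleton, Nat.mul_add]
    congr 1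
    omega

variable [IsAlgClosed k] {a : ℕ} (hF : Fintype.card F = p ^ a)

theorem label_lt {V : Type*} [AddCommGroup V] [Module k V] {ρ : Representation k (SpecialLinearGroup (Fin 2) F) V} {b : ℕ}
    (hF : Fintype.card F = p ^ a) (h : IsV ι p ρ b) : b < p ^ a := by
  have h1 := h.choose
  have h2 := one_lt (F := F)
  rw [hF] at h1 h2
  omega

include hF in
/-- **Steinberg's tensor product theorem** -/
theorem isV_tens {V : Type v} [AddCommGroup V] [Module k V] {W : Type v} [AddCommGroup W] [Module k W]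
    {ρ : Representation k (SpecialLinearGroup (Fin 2) F) V} {σ : Representation k (SpecialLinearGroup (Fin 2) F) W} {b c : ℕ}
    (hb : IsV ι p ρ b) (hc : IsV ι p σ c) (hbc : ∀ i < a, b / p ^ i % p = 0 ∨ c / p ^ i % p = 0) :
    IsV ι p (ρ.tprod σ) (b + c) := by
  have hp : p.Prime := Fact.out
  have := hb.finite
  have := hc.finite
  have h1 := label_lt ι p hF hb
  have h2 := label_lt ι p hF hc
  have hov : ∀ i < a, b / p ^ i % p + c / p ^ i % p < p := fun i hi => by
    have h3 := Nat.mod_lt (b / p ^ i) hp.pos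
    have h4 := Nat.mod_lt (c / p ^ i) hp.pos
    rcases hbc i hi with h | h
    · rw [h, zero_add]
      exact h4
    · rw [h, add_zero]
      exact h3
  have h3 : cf (Sy.{u, v, w} ι p) (ρ.tprod σ) = {b + c} := by
    rw [← cg_disj p a h1 h2 hbc]
    refine cf_of_cs ι p hF (fun x hx => (mem_cg hp.pos a hov hx).1) fun z hz => ?_
    rw [cs_tens ι p hF ρ σ hz, cf_irr (Sy.{u, v, w} ι p) hb, cf_irr (Sy.{u, v, w} ι p) hc, cs_singleton, cs_singleton,
      cs_cg k p a h1 h2 hov (hz.ne_zero (two_le_q p hF))]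
  exact irr_of_cf (Sy.{u, v, w} ι p) h3

/-- labels determine the module -/
theorem IsV.eqv {V : Type*} [AddCommGroup V] [Module k V] {W : Type*} [AddCommGroup W] [Module k W]
    {ρ : Representation k (SpecialLinearGroup (Fin 2) F) V} {σ : Representation k (SpecialLinearGroup (Fin 2) F) W} {b : ℕ}
    (h : IsV ι p ρ b) (h' : IsV ι p σ b) : Eqv ρ σ := by
  obtain ⟨hb, φ, hφ⟩ := h
  obtain ⟨hb', φ', hφ'⟩ := h'
  refine ⟨φ.symm.trans φ', fun g x => ?_⟩
  rw [LinearEquiv.trans_apply, LinearEquiv.trans_apply, ← hφ']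
  congr 1
  apply φ.injective
  rw [φ.apply_symm_apply, hφ, φ.apply_symm_apply]

include hF in
/-- **the tensor decomposition of a module** -/
theorem IsV.split {V : Type*} [AddCommGroup V] [Module k V] {ρ : Representation k (SpecialLinearGroup (Fin 2) F) V} {b c : ℕ}
    (hbc : ∀ i < a, b / p ^ i % p = 0 ∨ c / p ^ i % p = 0) (hb : b < p ^ a) (hc : c < p ^ a) (h : IsV ι p ρ (b + c)) :
    ∃ (X Y : Type (max u w)) (_ : AddCommGroup X) (_ : Module k X) (_ : AddCommGroup Y) (_ : Module k Y)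
      (σ : Representation k (SpecialLinearGroup (Fin 2) F) X) (τ : Representation k (SpecialLinearGroup (Fin 2) F) Y),
      IsV ι p σ b ∧ IsV ι p τ c ∧ Eqv (σ.tprod τ) ρ := by
  have hb' : b ≤ Fintype.card F - 1 := by rw [hF]; omega
  have hc' : c ≤ Fintype.card F - 1 := by rw [hF]; omega
  have h1 : IsV ι p (RB ι p hb') b := ⟨hb', LinearEquiv.refl k _, fun _ _ => rfl⟩
  have h2 : IsV ι p (RB ι p hc') c := ⟨hc', LinearEquiv.refl k _, fun _ _ => rfl⟩
  exact ⟨_, _, _, _, _, _, _, _, h1, h2, IsV.eqv ι p (isV_tens ι p hF h1 h2 hbc) h⟩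

omit [DecidableEq k] [IsAlgClosed k] [CharP k p] [CharP F p] in
theorem digit_disj {n m i j : ℕ} (hn : n < p) (hm : m < p) (hij : i ≠ j) (l : ℕ) :
    (n * p ^ i) / p ^ l % p = 0 ∨ (m * p ^ j) / p ^ l % p = 0 := by
  have hp : p.Prime := Fact.out
  rw [dg_single hp.one_lt hn, dg_single hp.one_lt hm]
  by_cases h : l = i
  · right
    rw [if_neg]
    omega
  · left
    rw [if_neg h]

/-- an explicit basis of `V_{n p ^ i + m p ^ j}` -/
structure BasP {V : Type*} [AddCommGroup V] [Module k V] (ρ : Representation k (SpecialLinearGroup (Fin 2) F) V)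
    (n i m j : ℕ) (v : ℕ → ℕ → V) : Prop where
  zero : ∀ s s', n < s ∨ m < s' → v s s' = 0
  li : LinearIndependent k (fun x : Fin (n + 1) × Fin (m + 1) => v x.1 x.2)
  sp : ⊤ ≤ Submodule.span k (Set.range fun x : Fin (n + 1) × Fin (m + 1) => v x.1 x.2)
  u : ∀ s ≤ n, ∀ s' ≤ m, ∀ t, ρ (u t) (v s s') =
    ∑ l ∈ Finset.range (n - s + 1), ∑ l' ∈ Finset.range (m - s' + 1),
      ((((n - s).choose l : k) * (ι t ^ p ^ i) ^ l) * (((m - s').choose l' : k) * (ι t ^ p ^ j) ^ l')) • v (s + l) (s' + l')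
  h : ∀ s ≤ n, ∀ s' ≤ m, ∀ a : Fˣ, ρ (h a) (v s s') = (((ι a ^ p ^ i) ^ s * ((ι a ^ p ^ i)⁻¹) ^ (n - s)) *
    ((ι a ^ p ^ j) ^ s' * ((ι a ^ p ^ j)⁻¹) ^ (m - s'))) • v s s'
  w : ∀ s ≤ n, ∀ s' ≤ m, ρ w (v s s') = ((-1 : k) ^ s * (-1 : k) ^ s') • v (n - s) (m - s')

include hF in
/-- **explicit bases, two digits** -/
theorem IsV.basP {V : Type*} [AddCommGroup V] [Module k V] {ρ : Representation k (SpecialLinearGroup (Fin 2) F) V}
    {n i m j : ℕ} (hn : n < p) (hm : m < p) (hij : i ≠ j) (hi : i < a) (hj : j < a)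
    (h : IsV ι p ρ (n * p ^ i + m * p ^ j)) : ∃ v : ℕ → ℕ → V, BasP ι p ρ n i m j v := by
  obtain ⟨X, Y, _, _, _, _, σ, τ, hσ, hτ, e, he⟩ := h.split ι p hF (fun l _ => digit_disj p hn hm hij l)
    (single_lt p hn hi) (single_lt p hm hj)
  obtain ⟨x, hx⟩ := hσ.basS ι p hn
  obtain ⟨y, hy⟩ := hτ.basS ι p hm
  let B₁ : Module.Basis (Fin (n + 1)) k X := Module.Basis.mk hx.li hx.sp
  let B₂ : Module.Basis (Fin (m + 1)) k Y := Module.Basis.mk hy.li hy.sp
  let B : Module.Basis (Fin (n + 1) × Fin (m + 1)) k V := (B₁.tensorProduct B₂).map e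
  have hB : (fun x' : Fin (n + 1) × Fin (m + 1) => e (x x'.1 ⊗ₜ[k] y x'.2)) = B := by
    funext x'
    show _ = ((B₁.tensorProduct B₂).map e) x'
    rw [Module.Basis.map_apply, Module.Basis.tensorProduct_apply']
    show _ = e ((Module.Basis.mk hx.li hx.sp) x'.1 ⊗ₜ[k] (Module.Basis.mk hy.li hy.sp) x'.2)
    rw [Module.Basis.mk_apply, Module.Basis.mk_apply]
  refine ⟨fun s s' => e (x s ⊗ₜ[k] y s'), ?_, ?_, ?_, ?_, ?_, ?_⟩
  · rintro s s' (hs | hs)
    · show e (x s ⊗ₜ[k] y s') = 0
      rw [hx.zero s hs, TensorProduct.zero_tmul, map_zero]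
    · show e (x s ⊗ₜ[k] y s') = 0
      rw [hy.zero s' hs, TensorProduct.tmul_zero, map_zero]
  · rw [hB]
    exact B.linearIndependent
  · rw [hB, B.span_eq]
  · intro s hs s' hs' t
    show ρ (Cfsg.Agent.H943.SL2Rel.u t) (e (x s ⊗ₜ[k] y s')) = _
    rw [← he, Representation.tprod_apply, TensorProduct.map_tmul, hx.u s hs, hy.u s' hs', TensorProduct.sum_tmul, map_sum]
    refine Finset.sum_congr rfl fun l _ => ?_
    rw [TensorProduct.tmul_sum, map_sum]
    refine Finset.sum_congr rfl fun l' _ => ?_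
    rw [TensorProduct.smul_tmul_smul, map_smul]
  · intro s hs s' hs' b
    show ρ (Cfsg.Agent.H943.SL2Rel.h b) (e (x s ⊗ₜ[k] y s')) = _
    rw [← he, Representation.tprod_apply, TensorProduct.map_tmul, hx.h s hs, hy.h s' hs', TensorProduct.smul_tmul_smul, map_smul]
  · intro s hs s' hs'
    show ρ Cfsg.Agent.H943.SL2Rel.w (e (x s ⊗ₜ[k] y s')) = _
    rw [← he, Representation.tprod_apply, TensorProduct.map_tmul, hx.w s hs, hy.w s' hs', TensorProduct.smul_tmul_smul, map_smul]

end Cfsg.Agent.R2.H28.SL2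
end

-- part: R2/H28/SL2/FinCf
section
set_option linter.all false
open scoped Cfsg.Agent.FastGrp

/-!
# The dimension and the composition factors (helper28)
-/

set_option autoImplicit false
set_option linter.unusedSectionVars false

namespace Cfsg.Agent.R2.H28.SL2

open Matrix Cfsg.Agent.H943.SL2Rel Cfsg.Agent.H943.SL2Mod Cfsg.Agent.H943.RepAdd

universe u v w

variable {k : Type u} [Field k] [DecidableEq k] {F : Type w} [Field F] [Fintype F] [DecidableEq F] (ι : F →+* k)
variable (p : ℕ) [Fact p.Prime] [CharP k p] [CharP F p] [IsAlgClosed k]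

/-- **dimensions** -/
theorem finrank_cf : ∀ (n : ℕ) (V : Type v) [AddCommGroup V] [Module k V] [FiniteDimensional k V]
    (ρ : Representation k (SpecialLinearGroup (Fin 2) F) V), Module.finrank k V ≤ n →
    Module.finrank k V = ((cf (Sy.{u, v, w} ι p) ρ).map fun b => (Bf k b).card).sum := by
  intro n
  induction n with
  | zero =>
    intro V _ _ _ ρ hn
    have h1 : Subsingleton V := (Module.finrank_zero_iff (R := k)).1 (by omega)
    rw [cf_zero, Multiset.map_zero, Multiset.sum_zero]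
    omega
  | succ n ih =>
    intro V _ _ _ ρ hn
    by_cases hnt : Nontrivial V
    · obtain ⟨c, X, hX, hc⟩ := exists_inSoc ι p ρ
      have h3 : 0 < Module.finrank k X := by
        rw [Nat.pos_iff_ne_zero, Ne, Submodule.finrank_eq_zero]
        exact Submodule.nontrivial_iff_ne_bot.1 hc.irr.1
      have h4 := Submodule.finrank_quotient_add_finrank X
      rw [cf_add (Sy.{u, v, w} ι p) ρ X hX, cf_irr (Sy.{u, v, w} ι p) hc, Multiset.map_add, Multiset.sum_add, Multiset.map_singleton,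
        Multiset.sum_singleton, ← ih _ (quotRep ρ X hX) (by omega), ← IsV.finrank ι hc]
      omega
    · have := not_nontrivial_iff_subsingleton.1 hnt
      rw [cf_zero, Multiset.map_zero, Multiset.sum_zero]
      exact Module.finrank_zero_of_subsingleton

end Cfsg.Agent.R2.H28.SL2
end

-- part: R2/H28/SL2/ExtH
section
prune_inst 0x4010000
set_option linter.all false
open scoped Cfsg.Agent.FastGrp

/-!
# Extensions and the first cohomology (helper28)

`ext0_of_Hs` : `Ext0 c b` if the factors of `Hom(V_c, V_b)` are not exceptional.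
-/

set_option autoImplicit false
set_option linter.unusedSectionVars false

namespace Cfsg.Agent.R2.H28.SL2

open Matrix Cfsg.Agent.H943.SL2Rel Cfsg.Agent.H943.SL2Mod Cfsg.Agent.H943.RepAdd
open Cfsg.Agent.H179.SLC (Z1 cob fx ker_cob cob_apply mem_Z1)

universe u v w

variable {k : Type u} [Field k] [DecidableEq k] {F : Type w} [Field F] [Fintype F] [DecidableEq F] (ι : F →+* k)
variable (p : ℕ) [Fact p.Prime] [CharP k p] [CharP F p] [IsAlgClosed k] {a : ℕ} (hF : Fintype.card F = p ^ a)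

/-- the fixed vectors and the trivial factors -/
theorem fx_le_count : ∀ (n : ℕ) (V : Type v) [AddCommGroup V] [Module k V] [FiniteDimensional k V]
    (ρ : Representation k (SpecialLinearGroup (Fin 2) F) V), Module.finrank k V ≤ n →
    Module.finrank k (fx ρ) ≤ (cf (Sy.{u, v, w} ι p) ρ).count 0 := by
  intro n
  induction n with
  | zero =>
    intro V _ _ _ ρ hn
    have h1 := Submodule.finrank_le (fx ρ)
    omega
  | succ n ih =>
    intro V _ _ _ ρ hn
    by_cases hfx : fx ρ = ⊥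
    · rw [hfx, finrank_bot]
      exact Nat.zero_le _
    · obtain ⟨x, hx, hx0⟩ := Submodule.exists_mem_ne_zero_of_ne_bot hfx
      have hW : ∀ g, ∀ y ∈ k ∙ x, ρ g y ∈ k ∙ x := by
        intro g y hy
        obtain ⟨c, rfl⟩ := Submodule.mem_span_singleton.1 hy
        rw [map_smul, hx g]
        exact hy
      have hf1 : Module.finrank k (k ∙ x) = 1 := finrank_span_singleton hx0
      have hirr : Irrd (subRep ρ (k ∙ x) hW) := by
        refine ⟨Module.nontrivial_of_finrank_pos (R := k) (by omega), fun U _ => ?_⟩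
        have h1 := Submodule.finrank_le U
        rcases (by omega : Module.finrank k U = 0 ∨ Module.finrank k U = 1) with h2 | h2
        · left
          exact Submodule.finrank_eq_zero.1 h2
        · right
          exact Submodule.eq_top_of_finrank_eq (by omega)
      obtain ⟨c, hc⟩ := (Sy.{u, v, w} ι p).ex _ hirr
      have hc' : IsV ι p (subRep ρ (k ∙ x) hW) c := hc
      have hc0 : c = 0 := by
        by_contra h0
        have h1 := card_Bf_pos (k := k) (Nat.pos_of_ne_zero h0)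
        have h2 := IsV.finrank ι hc'
        omega
      subst hc0
      rw [cf_add (Sy.{u, v, w} ι p) ρ (k ∙ x) hW, cf_irr (Sy.{u, v, w} ι p) hc', Multiset.count_add,
        Multiset.count_singleton_self]
      have h4 := Submodule.finrank_quotient_add_finrank (k ∙ x)
      have h5 := ih _ (quotRep ρ (k ∙ x) hW) (by omega)
      let g : fx ρ →ₗ[k] fx (quotRep ρ (k ∙ x) hW) :=
        { toFun := fun y => ⟨(k ∙ x).mkQ (y : V), fun g => by rw [quotRep_mk, y.2 g]⟩
          map_add' := fun _ _ => rfl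
          map_smul' := fun _ _ => rfl }
      have h6 := LinearMap.finrank_range_add_finrank_ker g
      have h7 := Submodule.finrank_le (LinearMap.range g)
      have h8 : Module.finrank k (LinearMap.ker g) ≤ 1 := by
        rw [← hf1]
        let e : LinearMap.ker g →ₗ[k] (k ∙ x : Submodule k V) :=
          { toFun := fun y => ⟨((y : fx ρ) : V), by
              have h9 : g (y : fx ρ) = 0 := y.2
              exact (Submodule.Quotient.mk_eq_zero _).1 (congrArg Subtype.val h9)⟩
            map_add' := fun _ _ => rfl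
            map_smul' := fun _ _ => rfl }
        refine LinearMap.finrank_le_finrank_of_injective (f := e) fun y z h => ?_
        have h9 : ((e y : (k ∙ x : Submodule k V)) : V) = ((e z : (k ∙ x : Submodule k V)) : V) := by rw [h]
        exact Subtype.ext (Subtype.ext h9)
      omega

include hF in
/-- all cocycles are coboundaries -/
theorem cob_surj {V : Type v} [AddCommGroup V] [Module k V] [FiniteDimensional k V]
    (ρ : Representation k (SpecialLinearGroup (Fin 2) F) V) (hH : Hs p a (cf (Sy.{u, v, w} ι p) ρ) = 0)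
    (z : Z1 ρ) : ∃ v, cob ρ v = z := by
  have h1 := isMult_cf ι p hF ρ
  have h2 := h1.z1
  have h3 : ∑ b ∈ Finset.range (p ^ a), (cf (Sy.{u, v, w} ι p) ρ).count b * ((Bf k b).card + hb p a b) =
      Module.finrank k V := by
    rw [h1.dim]
    refine Finset.sum_congr rfl fun b _ => ?_
    by_cases h4 : (cf (Sy.{u, v, w} ι p) ρ).count b = 0
    · rw [h4, zero_mul, zero_mul]
    · have h5 : hb p a b = 0 := by
        have h6 : b ∈ cf (Sy.{u, v, w} ι p) ρ := Multiset.count_ne_zero.1 h4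
        obtain ⟨s, hs⟩ := Multiset.exists_cons_of_mem h6
        rw [hs] at hH
        unfold Hs at hH
        rw [Multiset.map_cons, Multiset.sum_cons] at hH
        omega
      rw [h5, add_zero]
  rw [h3] at h2
  have h4 := fx_le_count ι p _ V ρ le_rfl
  have h5 := LinearMap.finrank_range_add_finrank_ker (cob ρ)
  rw [ker_cob] at h5
  have h6 : LinearMap.range (cob ρ) = ⊤ := by
    apply Submodule.eq_top_of_finrank_eq
    have h7 := Submodule.finrank_le (LinearMap.range (cob ρ))
    change Module.finrank k (Z1 ρ) + (cf (Sy.{u, v, w} ι p) ρ).count 0 ≤ _ at h2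
    omega
  have h7 : z ∈ LinearMap.range (cob ρ) := by
    rw [h6]
    trivial
  exact h7

include hF in
/-- **extensions from cohomology** -/
theorem ext0_of_Hs {c b : ℕ} (s : Multiset ℕ) (hs : ∀ d ∈ s, d < p ^ a)
    (hcs : ∀ z, Zs (p ^ a) z → cs k s z = chB k c z * chB k b z) (hH : Hs p a s = 0) :
    Ext0 (Sy.{u, v, w} ι p) c b := by
  intro E _ _ _ ρ W hW hb hc
  have hcf : cf (Sy.{u, v, w} ι p) (Representation.linHom (quotRep ρ W hW) (subRep ρ W hW)) = s :=
    cf_of_cs ι p hF hs fun z hz => by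
      rw [cs_hom ι p hF _ _ hz, cf_irr (Sy.{u, v, w} ι p) hb, cf_irr (Sy.{u, v, w} ι p) hc, cs_singleton, cs_singleton,
        hcs z hz]
  obtain ⟨s₀, hs₀⟩ := W.mkQ.exists_rightInverse_of_surjective (LinearMap.range_eq_top.2 W.mkQ_surjective)
  have hs₀' : ∀ y, W.mkQ (s₀ y) = y := fun y => LinearMap.congr_fun hs₀ y
  -- the cocycle
  have hmem : ∀ g y, ρ g (s₀ (quotRep ρ W hW g⁻¹ y)) - s₀ y ∈ W := by
    intro g y
    rw [← Submodule.Quotient.mk_eq_zero, ← Submodule.mkQ_apply, map_sub, ← quotRep_mk ρ W hW, hs₀', hs₀', ← Module.End.mul_apply,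
      ← map_mul, mul_inv_cancel, map_one, Module.End.one_apply, sub_self]
  let z : SpecialLinearGroup (Fin 2) F → ((E ⧸ W) →ₗ[k] W) := fun g =>
    LinearMap.codRestrict W (ρ g ∘ₗ s₀ ∘ₗ quotRep ρ W hW g⁻¹ - s₀) (hmem g)
  have hz : ∀ g y, ((z g y : W) : E) = ρ g (s₀ (quotRep ρ W hW g⁻¹ y)) - s₀ y := fun _ _ => rfl
  have hz1 : z ∈ Z1 (Representation.linHom (quotRep ρ W hW) (subRep ρ W hW)) := by
    rw [mem_Z1]
    intro g h
    refine LinearMap.ext fun y => Subtype.ext ?_
    show ((z (g * h) y : W) : E) = ((z g y : W) : E) + ((Representation.linHom (quotRep ρ W hW) (subRep ρ W hW) g (z h) y : W) : E)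
    rw [Representation.linHom_apply]
    show ((z (g * h) y : W) : E) = ((z g y : W) : E) + ρ g ((z h (quotRep ρ W hW g⁻¹ y) : W) : E)
    rw [hz, hz, hz, map_sub, ← Module.End.mul_apply (f := ρ g), ← map_mul, ← Module.End.mul_apply, ← map_mul, _root_.mul_inv_rev]
    abel
  obtain ⟨t, ht⟩ := cob_surj ι p hF (Representation.linHom (quotRep ρ W hW) (subRep ρ W hW)) (by rw [hcf]; exact hH) ⟨z, hz1⟩
  have ht' : ∀ g y, ρ g ((t (quotRep ρ W hW g⁻¹ y) : W) : E) - ((t y : W) : E) = ρ g (s₀ (quotRep ρ W hW g⁻¹ y)) - s₀ y := by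
    intro g y
    have h1 := congrFun (congrArg Subtype.val ht) g
    have h2 := LinearMap.congr_fun h1 y
    have h3 := congrArg Subtype.val h2
    rw [hz] at h3
    exact h3
  -- the equivariant section
  let s₁ : (E ⧸ W) →ₗ[k] E := s₀ - W.subtype ∘ₗ t
  have hs₁ : ∀ y, s₁ y = s₀ y - ((t y : W) : E) := fun _ => rfl
  have heq : ∀ g y, ρ g (s₁ y) = s₁ (quotRep ρ W hW g y) := by
    intro g y
    have h1 := ht' g (quotRep ρ W hW g y)
    have h2 : quotRep ρ W hW g⁻¹ (quotRep ρ W hW g y) = y := by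
      rw [← Module.End.mul_apply, ← map_mul, inv_mul_cancel, map_one, Module.End.one_apply]
    rw [h2] at h1
    rw [hs₁, hs₁, map_sub]
    have h3 : ρ g (s₀ y) - ρ g ((t y : W) : E) = s₀ (quotRep ρ W hW g y) - ((t (quotRep ρ W hW g y) : W) : E) := by
      rw [sub_eq_sub_iff_add_eq_add] at h1 ⊢
      rw [add_comm (s₀ _), h1]
    exact h3
  have hs₁' : ∀ y, W.mkQ (s₁ y) = y := by
    intro y
    have h1 : W.mkQ ((t y : W) : E) = 0 := (Submodule.Quotient.mk_eq_zero W).2 (t y).2
    rw [hs₁, map_sub, hs₀', h1, sub_zero]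
  refine ⟨LinearMap.range s₁, ?_, ?_⟩
  · rintro g _ ⟨y, rfl⟩
    exact ⟨_, (heq g y).symm⟩
  · rw [isCompl_iff, disjoint_iff, codisjoint_iff]
    constructor
    · rw [eq_bot_iff]
      rintro _ ⟨hx, y, rfl⟩
      have h1 := (Submodule.Quotient.mk_eq_zero W).2 hx
      have h2 : W.mkQ (s₁ y) = 0 := h1
      rw [hs₁'] at h2
      rw [h2, map_zero]
      exact Submodule.zero_mem _
    · rw [eq_top_iff]
      intro x _
      have h1 : x - s₁ (W.mkQ x) ∈ W := by
        rw [← Submodule.Quotient.mk_eq_zero, ← Submodule.mkQ_apply, map_sub, hs₁', sub_self]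
      have h2 : x = (x - s₁ (W.mkQ x)) + s₁ (W.mkQ x) := by abel
      rw [h2]
      exact Submodule.add_mem_sup h1 ⟨_, rfl⟩

end Cfsg.Agent.R2.H28.SL2
end

-- part: R2/H28/SL2/Both
section
set_option linter.all false
open scoped Cfsg.Agent.FastGrp

/-!
# Socles and heads (helper28)

* `exists_compl_of_both` : a factor of multiplicity one which is a submodule of `V` and of `V'` splits off;
* `kill_one`, `kill_typ`;
* `ss_of_compl` : if all irreducible submodules have complements then every composition factor is a submodule.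
-/

set_option autoImplicit false
set_option linter.unusedSectionVars false

namespace Cfsg.Agent.R2.H28.SL2

open Matrix Cfsg.Agent.H943.SL2Rel Cfsg.Agent.H943.SL2Mod Cfsg.Agent.H943.RepAdd

universe u v w

variable {k : Type u} [Field k] [DecidableEq k] {F : Type w} [Field F] [Fintype F] [DecidableEq F] (ι : F →+* k)
variable (p : ℕ) [Fact p.Prime] [CharP k p] [CharP F p] [IsAlgClosed k]

variable {V : Type v} [AddCommGroup V] [Module k V] [FiniteDimensional k V]
  {ρ : Representation k (SpecialLinearGroup (Fin 2) F) V} {V' : Type v} [AddCommGroup V'] [Module k V']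
  [FiniteDimensional k V'] {ρ' : Representation k (SpecialLinearGroup (Fin 2) F) V'} {P : V →ₗ[k] V' →ₗ[k] k}

/-- the irreducible submodule meets an invariant subspace trivially or lies in it -/
theorem IsV.inf_or_le {X : Submodule k V} {hX : ∀ g, ∀ x ∈ X, ρ g x ∈ X} {b : ℕ} (hb : IsV ι p (subRep ρ X hX) b)
    {K : Submodule k V} (hK : ∀ g, ∀ x ∈ K, ρ g x ∈ K) : X ⊓ K = ⊥ ∨ X ≤ K := by
  rcases hb.irr.2 (K.comap X.subtype) (fun g x hx => hK g _ hx) with h | h
  · left
    rw [eq_bot_iff]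
    rintro x ⟨h1, h2⟩
    have h3 : (⟨x, h1⟩ : X) ∈ K.comap X.subtype := h2
    rw [h, Submodule.mem_bot] at h3
    exact (Submodule.mem_bot k).2 (congrArg Subtype.val h3)
  · right
    intro x hx
    have h3 : (⟨x, hx⟩ : X) ∈ K.comap X.subtype := by rw [h]; trivial
    exact h3

theorem mem_cf_of_le {X : Submodule k V} {hX : ∀ g, ∀ x ∈ X, ρ g x ∈ X} {b : ℕ} (hb : IsV ι p (subRep ρ X hX) b)
    {K : Submodule k V} (hK : ∀ g, ∀ x ∈ K, ρ g x ∈ K) (h : X ≤ K) : b ∈ cf (Sy.{u, v, w} ι p) (subRep ρ K hK) := by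
  refine InSoc.mem_cf ι p (inSoc_of_hom ι p hb (Submodule.inclusion h) (fun g x => Subtype.ext rfl) ?_)
  intro h0
  obtain ⟨x, hx⟩ := @exists_ne X hb.irr.1 0
  apply hx
  have h1 : Submodule.inclusion h x = 0 := by rw [h0]; rfl
  have h2 : ((Submodule.inclusion h x : K) : V) = 0 := by rw [h1]; rfl
  exact Subtype.ext h2

/-- **splitting off** -/
theorem exists_compl_of_both (D : Dul ρ ρ' P) {X : Submodule k V} (hX : ∀ g, ∀ x ∈ X, ρ g x ∈ X) {b : ℕ}
    (hb : IsV ι p (subRep ρ X hX) b) (h' : InSoc ι p ρ' b) (h1 : (cf (Sy.{u, v, w} ι p) ρ).count b = 1) :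
    ∃ (K : Submodule k V) (hK : ∀ g, ∀ x ∈ K, ρ g x ∈ K), IsCompl X K ∧ b ∉ cf (Sy.{u, v, w} ι p) (subRep ρ K hK) := by
  obtain ⟨X', hX', hb'⟩ := h'
  obtain ⟨B₁, D₁, -⟩ := D.flip.sub hX'
  have hK := D.flip.orth_inv hX'
  have h2 : IsV ι p (quotRep ρ (orth P.flip X') hK) b := IsV.dual ι p hb' D₁
  have h3 := cf_add (Sy.{u, v, w} ι p) ρ (orth P.flip X') hK
  have h4 : cf (Sy.{u, v, w} ι p) (quotRep ρ (orth P.flip X') hK) = {b} := cf_irr _ h2
  have h5 : b ∉ cf (Sy.{u, v, w} ι p) (subRep ρ (orth P.flip X') hK) := by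
    intro h6
    rw [h3, h4, Multiset.count_add, Multiset.count_singleton_self] at h1
    have := Multiset.one_le_count_iff_mem.2 h6
    omega
  have h6 : X ⊓ orth P.flip X' = ⊥ := by
    rcases IsV.inf_or_le ι p hb hK with h | h
    · exact h
    · exact absurd (mem_cf_of_le ι p hb hK h) h5
  refine ⟨orth P.flip X', hK, ?_, h5⟩
  rw [isCompl_iff, disjoint_iff, codisjoint_iff]
  refine ⟨h6, ?_⟩
  apply Submodule.eq_top_of_finrank_eq
  have h7 := Submodule.finrank_sup_add_finrank_inf_eq X (orth P.flip X')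
  rw [h6, finrank_bot, add_zero] at h7
  have h8 := Submodule.finrank_quotient_add_finrank (orth P.flip X')
  obtain ⟨m, -, -, -, -, -, hf1, -⟩ := IsV.hw2 ι p hb
  obtain ⟨m', -, -, -, -, -, hf2, -⟩ := IsV.hw2 ι p h2
  rw [h7]
  omega

/-- **a factor of multiplicity one which is the whole socle of `V` and a submodule of `V'`** -/
theorem kill_one (D : Dul ρ ρ' P) {b : ℕ} (h : InSoc ι p ρ b) (h' : InSoc ι p ρ' b)
    (h1 : (cf (Sy.{u, v, w} ι p) ρ).count b = 1) (hs : ∀ c, InSoc ι p ρ c → c = b)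
    (hne : cf (Sy.{u, v, w} ι p) ρ ≠ {b}) : False := by
  obtain ⟨X, hX, hb⟩ := h
  obtain ⟨K, hK, hc, hbK⟩ := exists_compl_of_both ι p D hX hb h' h1
  have h2 : K ≠ ⊥ := by
    rintro rfl
    apply hne
    rw [cf_sup hX hK hc, cf_irr (Sy.{u, v, w} ι p) hb]
    have h3 : cf (Sy.{u, v, w} ι p) (subRep ρ ⊥ hK) = 0 := cf_zero _ _
    rw [h3, add_zero]
  obtain ⟨c, hc1, hc2⟩ := exists_inSoc_sub ι p hK h2
  rw [hs c hc2] at hc1
  exact hbK hc1.mem_cf

/-- the same with types -/
theorem kill_typ (D : Dul ρ ρ' P) (Q : ℕ → Prop) [DecidablePred Q]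
    (h1 : (cf (Sy.{u, v, w} ι p) ρ).countP Q = 1) (hs : ∀ c, InSoc ι p ρ c → Q c) (hs' : ∀ c, InSoc ι p ρ' c → Q c)
    (hc : 2 ≤ Multiset.card (cf (Sy.{u, v, w} ι p) ρ)) : False := by
  have hnt : Nontrivial V := by
    by_contra h
    have := not_nontrivial_iff_subsingleton.1 h
    rw [cf_zero] at hc
    simp at hc
  have hnt' : Nontrivial V' := by
    by_contra h
    have := not_nontrivial_iff_subsingleton.1 h
    obtain ⟨x, y, hxy⟩ := hnt
    have h0 : ∀ z : V, z = 0 := fun z => D.left z fun y => by rw [Subsingleton.elim y 0, map_zero]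
    exact hxy (by rw [h0 x, h0 y])
  have huniq : ∀ b c, b ∈ cf (Sy.{u, v, w} ι p) ρ → c ∈ cf (Sy.{u, v, w} ι p) ρ → Q b → Q c → b = c := by
    intro b c hb hc hQb hQc
    by_contra hbc
    obtain ⟨s, hs⟩ := Multiset.exists_cons_of_mem hb
    rw [hs] at hc h1
    have h2 : c ∈ s := (Multiset.mem_cons.1 hc).resolve_left (Ne.symm hbc)
    rw [Multiset.countP_cons_of_pos _ hQb] at h1
    have h3 : 0 < s.countP Q := Multiset.countP_pos.2 ⟨c, h2, hQc⟩
    omega
  obtain ⟨b, hb⟩ := exists_inSoc ι p ρ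
  obtain ⟨c, hc'⟩ := exists_inSoc ι p ρ'
  have hcf := cf_dual ι p D
  have hbc : b = c := huniq b c hb.mem_cf (by rw [← hcf]; exact hc'.mem_cf) (hs b hb) (hs' c hc')
  rw [← hbc] at hc'
  have hcount : (cf (Sy.{u, v, w} ι p) ρ).count b = 1 := by
    have h2 : (cf (Sy.{u, v, w} ι p) ρ).count b ≤ (cf (Sy.{u, v, w} ι p) ρ).countP Q := by
      unfold Multiset.count
      rw [Multiset.countP_eq_card_filter, Multiset.countP_eq_card_filter]
      refine Multiset.card_le_card (Multiset.monotone_filter_right _ fun x hx => ?_)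
      rw [← hx]
      exact hs b hb
    have h3 := Multiset.one_le_count_iff_mem.2 hb.mem_cf
    omega
  refine kill_one ι p D hb hc' hcount (fun c hc => huniq c b hc.mem_cf hb.mem_cf (hs c hc) (hs b hb)) fun h2 => ?_
  rw [h2, Multiset.card_singleton] at hc
  omega

/-- **semisimplicity** -/
theorem ss_of_compl : ∀ (n : ℕ) (V : Type v) [AddCommGroup V] [Module k V] [FiniteDimensional k V]
    (ρ : Representation k (SpecialLinearGroup (Fin 2) F) V), Module.finrank k V ≤ n →
    (∀ (X : Submodule k V) (hX : ∀ g, ∀ x ∈ X, ρ g x ∈ X) (b : ℕ), IsV ι p (subRep ρ X hX) b →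
      ∃ (K : Submodule k V) (_ : ∀ g, ∀ x ∈ K, ρ g x ∈ K), IsCompl X K) →
    ∀ b ∈ cf (Sy.{u, v, w} ι p) ρ, InSoc ι p ρ b := by
  intro n
  induction n with
  | zero =>
    intro V _ _ _ ρ hn _ b hb
    have h1 : Subsingleton V := (Module.finrank_zero_iff (R := k)).1 (by omega)
    rw [cf_zero] at hb
    exact absurd hb (Multiset.notMem_zero b)
  | succ n ih =>
    intro V _ _ _ ρ hn hcompl b hb
    by_cases hnt : Nontrivial V
    · obtain ⟨c, X, hX, hc⟩ := exists_inSoc ι p ρ
      obtain ⟨K, hK, hXK⟩ := hcompl X hX c hc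
      rw [cf_sup hX hK hXK, cf_irr (Sy.{u, v, w} ι p) hc] at hb
      rcases Multiset.mem_add.1 hb with h | h
      · rw [Multiset.mem_singleton] at h
        rw [h]
        exact ⟨X, hX, hc⟩
      · have h1 : Module.finrank k K ≤ n := by
          have h2 := Submodule.finrank_add_eq_of_isCompl hXK
          have h3 : 0 < Module.finrank k X := by
            rw [Nat.pos_iff_ne_zero, Ne, Submodule.finrank_eq_zero]
            exact Submodule.nontrivial_iff_ne_bot.1 hc.irr.1
          omega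
        have h2 := ih K (subRep ρ K hK) h1 (fun Y hY d hd => ?_) b h
        · exact h2.iso ι p K.subtype (fun _ _ => rfl) K.injective_subtype
        · obtain ⟨hY', e, he⟩ := eqv_map (subRep ρ K hK) ρ K.subtype (fun _ _ => rfl) K.injective_subtype Y hY
          obtain ⟨Z, hZ, hYZ⟩ := hcompl (Y.map K.subtype) hY' d (IsV.iso ι p e he hd)
          refine ⟨Z.comap K.subtype, fun g x hx => hZ g _ hx, ?_⟩
          rw [isCompl_iff, disjoint_iff, codisjoint_iff]
          constructor
          · rw [eq_bot_iff]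
            rintro x ⟨hx1, hx2⟩
            have h3 : (x : V) ∈ Y.map K.subtype ⊓ Z := ⟨⟨x, hx1, rfl⟩, hx2⟩
            rw [hYZ.inf_eq_bot, Submodule.mem_bot] at h3
            exact (Submodule.mem_bot k).2 (Subtype.ext h3)
          · rw [eq_top_iff]
            intro x _
            have h3 : (x : V) ∈ Y.map K.subtype ⊔ Z := by
              rw [hYZ.sup_eq_top]
              trivial
            obtain ⟨_, ⟨y, hy, rfl⟩, z, hz, e3⟩ := Submodule.mem_sup.1 h3
            have h4 : z ∈ K := by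
              have h5 : z = (x : V) - (y : V) := by
                rw [← e3]
                show z = (y : V) + z - y
                abel
              rw [h5]
              exact K.sub_mem x.2 y.2
            have h6 : x = y + ⟨z, h4⟩ := Subtype.ext e3.symm
            rw [h6]
            exact Submodule.add_mem_sup hy hz
    · have := not_nontrivial_iff_subsingleton.1 hnt
      rw [cf_zero] at hb
      exact absurd hb (Multiset.notMem_zero b)

end Cfsg.Agent.R2.H28.SL2
end
end
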